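import Cfsg.Agent.H790.ExcAb
import Cfsg.Agent.S1066
import Cfsg.Agent.S1102

/-!
# Twisted exceptional groups with abelian Sylow `p`-subgroups (helper790)
-/

set_option autoImplicit false

namespace Cfsg.Agent.H790.ExcAb

open Cfsg Cfsg.Lie Cfsg.Agent.ChevalleyStructure Cfsg.Agent.ChevalleyStructure.Elts Cfsg.Agent.ChevStructure.FieldMap

theorem genSubgroup_le {D : ChevalleyDatum} (hD : InList D) {K : Type*} [Field K] (S : Set (List (ℕ × K))) :
    D.genSubgroup K S ≤ D.group K := by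
  unfold ChevalleyDatum.genSubgroup
  rw [Subgroup.closure_le]
  rintro g ⟨w, -, hg⟩
  have h : ∀ w : List (ℕ × K), (((w.map fun p => xG hD p.1 p.2).prod : GL D.Idx K) : Matrix D.Idx D.Idx K) =
      D.wordMat K w := by
    intro w
    induction w with
    | nil => rfl
    | cons a w ih =>
      rw [List.map_cons, List.prod_cons, Units.val_mul, ih, ChevalleyDatum.wordMat, ChevalleyDatum.wordMat,
        List.map_cons, List.prod_cons, coe_xG]
  have h1 : g = (w.map fun p => xG hD p.1 p.2).prod := Units.ext (by rw [h, hg])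
  rw [h1]
  refine Subgroup.list_prod_mem _ fun x hx => ?_
  obtain ⟨p, -, rfl⟩ := List.mem_map.1 hx
  exact xG_mem_group hD _ _

theorem abP_gen {D : ChevalleyDatum} (hD : InList D) {K : Type*} [Field K] {S : Set (List (ℕ × K))} {p : ℕ}
    (h : AbP p ↥(D.group K)) : AbP p ↥(D.genSubgroup K S) :=
  h.of_injective (Subgroup.inclusion_injective (genSubgroup_le hD S))

theorem not_dvd_of_pow {r q n : ℕ} [hr : Fact r.Prime] (h : ¬ r ∣ q) : ¬ r ∣ q ^ n :=
  fun h1 => h (hr.out.dvd_of_dvd_pow h1)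

/-- **`³D₄(q)`** -/
theorem tw3D4 {K : Type*} [Field K] [Fintype K] {q : ℕ} (hK : Fintype.card K = q ^ 3) {r : ℕ} [Fact r.Prime]
    (hrq : ¬ r ∣ q) (h5 : 5 ≤ r) : AbP r ↥(twistedD4 K q) :=
  abP_gen (by simp [InList]) (D4 hK (not_dvd_of_pow hrq) h5)

/-- **`²F₄(q)`** -/
theorem tw2F4 {K : Type*} [Field K] [Fintype K] {q e : ℕ} (hK : Fintype.card K = q) {r : ℕ} [Fact r.Prime]
    (hrq : ¬ r ∣ q) (h5 : 5 ≤ r) : AbP r ↥(twistedF4 K e) :=
  abP_gen (by simp [InList]) (F4 hK hrq h5)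

theorem exists_subfield_hom {K : Type*} [Field K] [Fintype K] {q n : ℕ} (hq : IsPrimePow q)
    (hK : Fintype.card K = q ^ n) :
    ∃ (F : Type) (_ : Field F) (_ : Fintype F) (_ : F →+* K), Fintype.card F = q := by
  obtain ⟨p, k, hp, hk, rfl⟩ := hq
  have hp' : p.Prime := hp.nat_prime
  have : Fact p.Prime := ⟨hp'⟩
  have hpK : CharP K p := by
    obtain ⟨c, hc⟩ := CharP.exists K
    obtain ⟨m, hcp, hm⟩ := FiniteField.card K c
    have h1 : c ∣ p := by
      have h2 : c ∣ (p ^ k) ^ n := by rw [← hK, hm]; exact dvd_pow_self c m.ne_zero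
      exact hcp.dvd_of_dvd_pow (hcp.dvd_of_dvd_pow h2)
    rwa [(Nat.prime_dvd_prime_iff_eq hcp hp').1 h1] at hc
  let _ := ZMod.algebra K p
  have h1 : Module.finrank (ZMod p) (GaloisField p k) = k := GaloisField.finrank p hk.ne'
  have h2 : Module.finrank (ZMod p) K = k * n := by
    have h3 := Module.card_eq_pow_finrank (K := ZMod p) (V := K)
    rw [hK, ZMod.card, ← pow_mul] at h3
    exact (Nat.pow_right_injective hp'.two_le h3).symm
  have h3 : Module.finrank (ZMod p) (GaloisField p k) ∣ Module.finrank (ZMod p) K := by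
    rw [h1, h2]; exact dvd_mul_right k n
  have : Finite (GaloisField p k) := by
    refine Nat.finite_of_card_ne_zero ?_
    rw [GaloisField.card p k hk.ne']
    exact pow_ne_zero _ hp'.ne_zero
  let _ : Fintype (GaloisField p k) := Fintype.ofFinite _
  obtain ⟨f⟩ := FiniteField.nonempty_algHom_of_finrank_dvd h3
  refine ⟨GaloisField p k, inferInstance, inferInstance, f.toRingHom, ?_⟩
  rw [← Nat.card_eq_fintype_card, GaloisField.card p k hk.ne']

theorem diag_comm' {D : ChevalleyDatum} (hD : InList D) {K : Type*} [Field K] {g k : GL D.Idx K}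
    (hg : g ∈ D.diagonalSubgroup K) (hk : k ∈ D.diagonalSubgroup K) : g * k = k * g := by
  obtain ⟨χ, h1⟩ := HMatDiagAll.mem_torus.1 (HMatDiagAll.diagonalSubgroup_le_torus hD hg)
  obtain ⟨ψ, h2⟩ := HMatDiagAll.mem_torus.1 (HMatDiagAll.diagonalSubgroup_le_torus hD hk)
  apply Units.ext
  rw [Units.val_mul, Units.val_mul, h1, h2, Matrix.diagonal_mul_diagonal, Matrix.diagonal_mul_diagonal]
  congr 1
  funext i
  exact mul_comm _ _

/-- an abelian subgroup of index prime to `p` -/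
theorem AbP.of_comm {p : ℕ} [hp : Fact p.Prime] {G : Type*} [Group G] [Finite G] (A : Subgroup G)
    (hA : ∀ a ∈ A, ∀ b ∈ A, a * b = b * a) {m n : ℕ} (h : Nat.card G * n = Nat.card A * m) (hn : n ≠ 0)
    (hm : ¬ p ∣ m) : AbP p G := by
  refine AbP.of_index (f := A.subtype) A.subtype_injective
    (fun P _ a _ b _ => Subtype.ext (hA a.1 a.2 b.1 b.2)) ?_
  have hG : Nat.card G ≠ 0 := Nat.card_pos.ne'
  have hAc : Nat.card A ≠ 0 := Nat.card_pos.ne'
  have hm0 : m ≠ 0 := fun h0 => hm (h0 ▸ dvd_zero p)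
  have h1 : (Nat.card G * n).factorization p = (Nat.card A * m).factorization p := by rw [h]
  rw [Nat.factorization_mul hG hn, Nat.factorization_mul hAc hm0, Finsupp.add_apply, Finsupp.add_apply,
    Nat.factorization_eq_zero_of_not_dvd hm] at h1
  omega

theorem five_geom {q : ℕ} (h : q % 5 = 1) (n : ℕ) (hn : n % 5 ≠ 0) : ¬ 5 ∣ ∑ i ∈ Finset.range n, q ^ i := by
  have h1 : ∀ n : ℕ, (∑ i ∈ Finset.range n, q ^ i) % 5 = n % 5 := by
    intro n
    induction n with
    | zero => rfl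
    | succ n ih =>
      rw [Finset.sum_range_succ, Nat.add_mod, ih, Nat.pow_mod, h, one_pow]
      omega
  intro h2
  have := h1 n
  omega

theorem geom_eq {q : ℕ} (hq : 2 ≤ q) (n : ℕ) : q ^ n - 1 = (q - 1) * ∑ i ∈ Finset.range n, q ^ i := by
  have h := Nat.geomSum_eq hq n
  have h2 : (q - 1) ∣ q ^ n - 1 := by simpa using Nat.sub_dvd_pow_sub_pow q 1 n
  rw [h, Nat.mul_div_cancel' h2]

/-- **`²E₆(q)`** -/
theorem tw2E6 {K : Type*} [Field K] [Fintype K] {q : ℕ} (hq : IsPrimePow q) (hK : Fintype.card K = q ^ 2) {r : ℕ}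
    [hr : Fact r.Prime] (hrq : ¬ r ∣ q) (h5 : 5 ≤ r) (h : r = 5 → q % 5 ≠ 4) : AbP r ↥(twistedE6 K q) := by
  have hrK : ¬ r ∣ Fintype.card K := by rw [hK]; exact not_dvd_of_pow hrq
  by_cases hr5 : r = 5 ∧ q % 5 = 1
  · obtain ⟨rfl, hq1⟩ := hr5
    have h1 := Cfsg.Agent.S1066.result hq hK
    have h2 := Cfsg.Agent.S1102.result hq hK
    have hq2 := hq.two_le
    have hcard : Nat.card ↥((chevE6.diagonalSubgroup K).subgroupOf (twistedE6 K q)) =
        Nat.card ↥(chevE6.diagonalSubgroup K ⊓ twistedE6 K q) := by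
      rw [← Subgroup.inf_subgroupOf_right]
      exact Nat.card_congr (Subgroup.subgroupOfEquivOfLe inf_le_right).toEquiv
    refine AbP.of_comm ((chevE6.diagonalSubgroup K).subgroupOf (twistedE6 K q)) ?_ (n := (q + 1) ^ 2)
      (m := q ^ 36 * ((∑ i ∈ Finset.range 2, q ^ i) * (∑ i ∈ Finset.range 6, q ^ i) * (∑ i ∈ Finset.range 8, q ^ i) *
        (∑ i ∈ Finset.range 12, q ^ i) * ((q ^ 5 + 1) * (q ^ 9 + 1)))) ?_ (by positivity) ?_
    · intro a ha b hb
      exact Subtype.ext (diag_comm' (by simp [InList]) ha hb)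
    · rw [hcard]
      generalize Nat.card ↥(chevE6.diagonalSubgroup K ⊓ twistedE6 K q) = c at h2 ⊢
      generalize Nat.card ↥(twistedE6 K q) = g at h1 ⊢
      rw [geom_eq hq2 2, geom_eq hq2 6, geom_eq hq2 8, geom_eq hq2 12] at h1
      generalize (∑ i ∈ Finset.range 2, q ^ i) = s2 at h1 ⊢
      generalize (∑ i ∈ Finset.range 6, q ^ i) = s6 at h1 ⊢
      generalize (∑ i ∈ Finset.range 8, q ^ i) = s8 at h1 ⊢
      generalize (∑ i ∈ Finset.range 12, q ^ i) = s12 at h1 ⊢
      have hd : 0 < Nat.gcd 3 (q + 1) := Nat.gcd_pos_of_pos_left _ (by norm_num)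
      generalize Nat.gcd 3 (q + 1) = d at h1 h2 hd
      have hq1' : 0 < (q - 1) ^ 4 := pow_pos (by omega) 4
      apply Nat.eq_of_mul_eq_mul_left (Nat.mul_pos hd hq1')
      calc d * (q - 1) ^ 4 * (g * (q + 1) ^ 2) = (d * g) * ((q - 1) ^ 4 * (q + 1) ^ 2) := by ring
        _ = (d * g) * (d * c) := by rw [h2]
        _ = _ := by rw [h1]; ring
    · have h5' : ∀ n : ℕ, ¬ 5 ∣ q ^ n + 1 := fun n hn => by
        have : q ^ n % 5 = 1 := by rw [Nat.pow_mod, hq1, one_pow]; norm_num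
        omega
      have hp5 : Nat.Prime 5 := hr.out
      rw [hp5.dvd_mul, hp5.dvd_mul, hp5.dvd_mul, hp5.dvd_mul, hp5.dvd_mul, hp5.dvd_mul]
      rintro (h3 | (((h3 | h3) | h3) | h3) | h3 | h3)
      · exact not_dvd_of_pow hrq h3
      · exact five_geom hq1 _ (by norm_num) h3
      · exact five_geom hq1 _ (by norm_num) h3
      · exact five_geom hq1 _ (by norm_num) h3
      · exact five_geom hq1 _ (by norm_num) h3
      · exact h5' _ h3
      · exact h5' _ h3
  · refine abP_gen (by simp [InList]) (E6 hK (not_dvd_of_pow hrq) h5 fun h' => ?_)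
    have h1 : q % 5 ≠ 1 := fun h2 => hr5 ⟨h', h2⟩
    have h2 := h h'
    rw [Nat.pow_mod]
    have h3 : q % 5 ≠ 0 := by rw [h'] at hrq; omega
    have h4 : q % 5 = 2 ∨ q % 5 = 3 := by omega
    rcases h4 with h4 | h4 <;> rw [h4] <;> norm_num

end Cfsg.Agent.H790.ExcAb
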