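import Cfsg.Agent.H790.ExcAbTw
import Cfsg.Agent.OddRank.SzTits
import Cfsg.Agent.S1156
import Cfsg.Agent.S1074

/-!
# Exceptional groups, `p ≥ 5` in cross characteristic: abelian Sylow `p`-subgroups or an explicit list (helper790)

`exc_five` : `G` exceptional (or the Tits group), `p ≥ 5`, `NonAb p G` (explicit) or all `p`-subgroups are abelian or
the characteristic is `p`.
-/

set_option autoImplicit false

namespace Cfsg.Agent.H790.ExcAb

open Cfsg Cfsg.Lie

theorem abP_of_cyclic {p : ℕ} [Fact p.Prime] {G : Type*} [Group G] [Finite G]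
    (h : ∀ P : Sylow p G, IsCyclic ↥(P : Subgroup G)) : AbP p G := by
  refine AbP.of_sylow fun P a ha b hb => ?_
  have := h P
  obtain ⟨g, hg⟩ := IsCyclic.exists_generator (α := ↥(P : Subgroup G))
  obtain ⟨i, hi⟩ := hg ⟨a, ha⟩
  obtain ⟨j, hj⟩ := hg ⟨b, hb⟩
  have h1 : (⟨a, ha⟩ : ↥(P : Subgroup G)) * ⟨b, hb⟩ = ⟨b, hb⟩ * ⟨a, ha⟩ := by
    rw [← hi, ← hj]
    exact (zpow_mul_comm g i j)
  exact congrArg Subtype.val h1

/-- `p ^ 3` does not divide the order -/
theorem abP_of_not_dvd {p : ℕ} [hp : Fact p.Prime] {G : Type*} [Group G] [Finite G] (h : ¬ p ^ 3 ∣ Nat.card G) :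
    AbP p G := by
  refine AbP.of_sylow fun P a ha b hb => ?_
  have hc := P.card_eq_multiplicity
  have hG : Nat.card G ≠ 0 := Nat.card_pos.ne'
  have h2 : (Nat.card G).factorization p ≤ 2 := by
    by_contra h3
    exact h ((hp.out.pow_dvd_iff_le_factorization hG).2 (by omega))
  have h3 : ∀ x y : ↥(P : Subgroup G), x * y = y * x := by
    interval_cases h4 : (Nat.card G).factorization p
    · rw [pow_zero] at hc
      have := (Nat.card_eq_one_iff_unique.1 hc).1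
      exact fun x y => Subsingleton.elim _ _
    · rw [pow_one] at hc
      have hcyc : IsCyclic ↥(P : Subgroup G) := isCyclic_of_prime_card hc
      exact fun x y => (IsCyclic.isMulCommutative (α := ↥(P : Subgroup G))).is_comm.comm x y
    · exact fun x y => (IsPGroup.isMulCommutative_of_card_eq_prime_sq hc).is_comm.comm x y
  exact congrArg Subtype.val (h3 ⟨a, ha⟩ ⟨b, hb⟩)


/-- the exceptional groups of characteristic `p` -/
inductive ExcChar (p : ℕ) (G : Type*) [Group G] : Prop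
  | untw (F : Type) [Field F] [Fintype F] [CharP F p]
      (h : (3 ≤ Fintype.card F ∧ Nonempty (G ≃* chevG2.group F)) ∨ Nonempty (G ≃* chevF4.group F) ∨
        Nonempty (G ≃* chevE6.group F) ∨ Nonempty (G ≃* chevE7.group F) ∨ Nonempty (G ≃* chevE8.group F))
  | tw (K : Type) [Field K] [Fintype K] [CharP K p] (q : ℕ) (hq : IsPrimePow q)
      (h : (Fintype.card K = q ^ 2 ∧ Nonempty (G ≃* twistedE6 K q)) ∨
        (Fintype.card K = q ^ 3 ∧ Nonempty (G ≃* twistedD4 K q)))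

/-- the exceptional groups with nonabelian Sylow `p`-subgroups for `p ≥ 5` not the characteristic -/
inductive ExcNonab (p : ℕ) (G : Type*) [Group G] : Prop
  | e6 (F : Type) [Field F] [Fintype F] (hp : p = 5) (hq : Fintype.card F % 5 = 1)
      (e : Nonempty (G ≃* chevE6.group F))
  | te6 (K : Type) [Field K] [Fintype K] (q : ℕ) (hp : p = 5) (hq : IsPrimePow q) (hK : Fintype.card K = q ^ 2)
      (hq5 : q % 5 = 4) (e : Nonempty (G ≃* twistedE6 K q))
  | e7 (F : Type) [Field F] [Fintype F] (hp : p = 5 ∨ p = 7) (h0 : ¬ p ∣ Fintype.card F)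
      (hq : p ∣ Fintype.card F ^ 2 - 1) (e : Nonempty (G ≃* chevE7.group F))
  | e8 (F : Type) [Field F] [Fintype F] (hp : p = 5) (h0 : ¬ p ∣ Fintype.card F) (e : Nonempty (G ≃* chevE8.group F))
  | e8' (F : Type) [Field F] [Fintype F] (hp : p = 7) (h0 : ¬ p ∣ Fintype.card F)
      (hq : p ∣ Fintype.card F ^ 2 - 1) (e : Nonempty (G ≃* chevE8.group F))

theorem charP_of_dvd {F : Type*} [Field F] [Fintype F] {p : ℕ} (hp : p.Prime) (h : p ∣ Fintype.card F) :
    CharP F p := by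
  obtain ⟨c, hc⟩ := CharP.exists F
  obtain ⟨m, hcp, hm⟩ := FiniteField.card F c
  rw [hm] at h
  rwa [(Nat.prime_dvd_prime_iff_eq hp hcp).1 (hp.dvd_of_dvd_pow h)]

theorem dvd_sq_sub {p q : ℕ} (h : q % p = 1 ∨ q % p = p - 1) (hp : 2 ≤ p) : p ∣ q ^ 2 - 1 := by
  have hq : 1 ≤ q := by
    rcases Nat.eq_zero_or_pos q with rfl | h0
    · rw [Nat.zero_mod] at h
      omega
    · exact h0
  have h1 : q ^ 2 - 1 = (q - 1) * (q + 1) := by
    obtain ⟨k, rfl⟩ := Nat.exists_eq_add_of_le hq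
    have : (1 + k) ^ 2 = k * (k + 2) + 1 := by ring
    rw [this]
    simp only [Nat.add_sub_cancel, Nat.add_sub_cancel_left]
    ring
  rw [h1]
  rcases h with h | h
  · refine Dvd.dvd.mul_right ?_ _
    have h2 := Nat.div_add_mod q p
    exact ⟨q / p, by omega⟩
  · refine Dvd.dvd.mul_left ?_ _
    have h2 := Nat.div_add_mod q p
    refine ⟨q / p + 1, ?_⟩
    rw [mul_add, mul_one]
    omega

/-- **Exceptional groups, `p ≥ 5`.** -/
theorem exc_five {G : Type*} [Group G] [Finite G] (hG : IsExceptionalLieType G) {p : ℕ} [hp : Fact p.Prime]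
    (h5 : 5 ≤ p) : AbP p G ∨ ExcChar p G ∨ ExcNonab p G := by
  have hp2 : p ≠ 2 := by omega
  rcases hG with ⟨F, _, _, h3, ⟨e⟩⟩ | ⟨F, _, _, ⟨e⟩⟩ | ⟨F, _, _, ⟨e⟩⟩ | ⟨F, _, _, ⟨e⟩⟩ | ⟨F, _, _, ⟨e⟩⟩ |
    ⟨K, _, _, q, hq, hK, ⟨e⟩⟩ | ⟨K, _, _, q, hq, hK, ⟨e⟩⟩ | hS | ⟨K, _, _, m, hm, hK, ⟨e⟩⟩ |
    ⟨K, _, _, m, hm, hK, ⟨e⟩⟩ | ⟨⟨e⟩⟩
  · by_cases h : p ∣ Fintype.card F
    · have := charP_of_dvd hp.out h
      exact Or.inr (Or.inl (.untw F (Or.inl ⟨h3, ⟨e⟩⟩)))
    · exact Or.inl ((G2 rfl h h5).congr e)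
  · by_cases h : p ∣ Fintype.card F
    · have := charP_of_dvd hp.out h
      exact Or.inr (Or.inl (.untw F (Or.inr (Or.inl ⟨e⟩))))
    · exact Or.inl ((F4 rfl h h5).congr e)
  · by_cases h : p ∣ Fintype.card F
    · have := charP_of_dvd hp.out h
      exact Or.inr (Or.inl (.untw F (Or.inr (Or.inr (Or.inl ⟨e⟩)))))
    · by_cases h1 : p = 5 ∧ Fintype.card F % 5 = 1
      · exact Or.inr (Or.inr (.e6 F h1.1 h1.2 ⟨e⟩))
      · exact Or.inl ((E6 rfl h h5 fun h2 h3 => h1 ⟨h2, h3⟩).congr e)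
  · by_cases h : p ∣ Fintype.card F
    · have := charP_of_dvd hp.out h
      exact Or.inr (Or.inl (.untw F (Or.inr (Or.inr (Or.inr (Or.inl ⟨e⟩))))))
    · by_cases h1 : (p = 5 ∨ p = 7) ∧ p ∣ Fintype.card F ^ 2 - 1
      · exact Or.inr (Or.inr (.e7 F h1.1 h h1.2 ⟨e⟩))
      · refine Or.inl ((E7 rfl h h5 (fun h2 => ?_) fun h2 => ?_).congr e)
        · refine ⟨fun h3 => h1 ⟨Or.inl h2, ?_⟩, fun h3 => h1 ⟨Or.inl h2, ?_⟩⟩
          · rw [h2]; exact dvd_sq_sub (Or.inl h3) (by norm_num)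
          · rw [h2]; exact dvd_sq_sub (Or.inr h3) (by norm_num)
        · refine ⟨fun h3 => h1 ⟨Or.inr h2, ?_⟩, fun h3 => h1 ⟨Or.inr h2, ?_⟩⟩
          · rw [h2]; exact dvd_sq_sub (Or.inl h3) (by norm_num)
          · rw [h2]; exact dvd_sq_sub (Or.inr h3) (by norm_num)
  · by_cases h : p ∣ Fintype.card F
    · have := charP_of_dvd hp.out h
      exact Or.inr (Or.inl (.untw F (Or.inr (Or.inr (Or.inr (Or.inr ⟨e⟩))))))
    · by_cases h1 : p = 5
      · exact Or.inr (Or.inr (.e8 F h1 h ⟨e⟩))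
      by_cases h2 : p = 7 ∧ p ∣ Fintype.card F ^ 2 - 1
      · exact Or.inr (Or.inr (.e8' F h2.1 h h2.2 ⟨e⟩))
      · have h7 : 7 ≤ p := by
          rcases Nat.lt_or_ge p 7 with h8 | h8
          · interval_cases p
            · exact absurd rfl h1
            · exact absurd hp.out (by norm_num)
          · exact h8
        refine Or.inl ((E8 rfl h h7 fun h3 => ⟨fun h4 => h2 ⟨h3, ?_⟩, fun h4 => h2 ⟨h3, ?_⟩⟩).congr e)
        · rw [h3]; exact dvd_sq_sub (Or.inl h4) (by norm_num)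
        · rw [h3]; exact dvd_sq_sub (Or.inr h4) (by norm_num)
  · by_cases h : p ∣ q
    · have := charP_of_dvd (F := K) hp.out (by rw [hK]; exact h.trans (dvd_pow_self q two_ne_zero))
      exact Or.inr (Or.inl (.tw K q hq (Or.inl ⟨hK, ⟨e⟩⟩)))
    · by_cases h1 : p = 5 ∧ q % 5 = 4
      · exact Or.inr (Or.inr (.te6 K q h1.1 hq hK h1.2 ⟨e⟩))
      · exact Or.inl ((tw2E6 hq hK h h5 fun h2 h3 => h1 ⟨h2, h3⟩).congr e)
  · by_cases h : p ∣ q
    · have := charP_of_dvd (F := K) hp.out (by rw [hK]; exact h.trans (dvd_pow_self q three_ne_zero))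
      exact Or.inr (Or.inl (.tw K q hq (Or.inr ⟨hK, ⟨e⟩⟩)))
    · exact Or.inl ((tw3D4 hK h h5).congr e)
  · exact Or.inl (abP_of_cyclic fun P => Cfsg.Agent.OddRank.SzTits.isCyclic_of_isPGroup hS hp2 P P.isPGroup')
  · exact Or.inl ((abP_of_cyclic fun P => Cfsg.Agent.S1156.result hm hK (by omega) P).congr e)
  · refine Or.inl ((tw2F4 hK (not_dvd_of_pow fun h => ?_) h5).congr e)
    exact hp2 ((Nat.prime_dvd_prime_iff_eq hp.out Nat.prime_two).1 h)
  · refine Or.inl ((abP_of_not_dvd (G := TitsGroup) ?_).congr e)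
    rw [show Nat.card TitsGroup = 17971200 from Cfsg.Agent.S1074.result.2.2.2.trans (by norm_num)]
    intro h
    have h1 : p ∣ 2 ^ 11 * 3 ^ 3 * 5 ^ 2 * 13 := by
      have : (17971200 : ℕ) = 2 ^ 11 * 3 ^ 3 * 5 ^ 2 * 13 := by norm_num
      rw [← this]
      exact (dvd_pow_self p three_ne_zero).trans h
    rcases (Nat.Prime.dvd_mul hp.out).1 h1 with h3 | h3
    · rcases (Nat.Prime.dvd_mul hp.out).1 h3 with h3 | h3
      · rcases (Nat.Prime.dvd_mul hp.out).1 h3 with h3 | h3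
        · have := Nat.le_of_dvd (by norm_num) (hp.out.dvd_of_dvd_pow h3); omega
        · have := Nat.le_of_dvd (by norm_num) (hp.out.dvd_of_dvd_pow h3); omega
      · have h4 := (Nat.prime_dvd_prime_iff_eq hp.out (by norm_num)).1 (hp.out.dvd_of_dvd_pow h3)
        subst h4
        revert h
        norm_num
    · have h4 := (Nat.prime_dvd_prime_iff_eq hp.out (by norm_num)).1 h3
      subst h4
      revert h
      norm_num

end Cfsg.Agent.H790.ExcAb
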