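import Cfsg.Agent.H790.E8Main
import Cfsg.Agent.H629.ExcFinal

/-!
# The row `E₈(q)`, `p = 5`, `q² ≡ -1 mod 5` (helper790)
-/

set_option autoImplicit false

namespace Cfsg.Agent.H790.RestFive

open Cfsg Cfsg.Lie

/-- **the remaining row of `H629.ExcFinal.exc_five`** -/
theorem rest_five {p : ℕ} {G : Type*} [Group G] (h : H629.ExcFinal.RestFive p G) : H749.FullP p G := by
  obtain ⟨rfl, F, _, _, h5, ⟨e⟩⟩ := h
  exact (E8Main.fullP_e8 h5).of_mulEquiv e.symm

end Cfsg.Agent.H790.RestFive
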