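import Cfsg.Agent.H629.ExcFullP

/-!
# A criterion for `Full 3 G` (helper790), used for `³D₄(q)`

`T ≤ G` abelian `3`-subgroup, `x0` of order `3` normalising `T`, `C_T(x0) = ⟨z⟩` of order `3`, `T` of rank at most two,
`9 |T|` does not divide `|G|`; `t0 ∈ [T, x0]` conjugate to `x0` and not to `z`; some `3 ^ 2` in `G` has all elements
`≠ 1` conjugate. Then a nontrivial strongly closed subgroup of a Sylow `3`-subgroup is the whole.
-/

set_option autoImplicit false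
set_option linter.unusedSectionVars false

namespace Cfsg.Agent.H790.TriCrit

open Subgroup Cfsg.Agent.H629 Cfsg.Agent.H749

/-- a nontrivial normal subgroup of a `p`-group meets the centre -/
theorem inf_center_ne_bot {P : Type*} [Group P] [Finite P] {p : ℕ} [Fact p.Prime] (hP : IsPGroup p P) {N : Subgroup P}
    (hN : N ≠ ⊥) (hn : N.Normal) : (N ⊓ center P : Subgroup P) ≠ ⊥ := by
  have hNp : IsPGroup p N := hP.to_subgroup N
  have hnt : Nontrivial N := (Subgroup.nontrivial_iff_ne_bot N).2 hN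
  have hdvd : p ∣ Nat.card N := by
    obtain ⟨n, hn⟩ := IsPGroup.iff_card.1 hNp
    rw [hn]
    refine dvd_pow_self p fun h0 => ?_
    rw [h0, pow_zero] at hn
    exact not_subsingleton N (Nat.card_eq_one_iff_unique.1 hn).1
  have hC : IsPGroup p (ConjAct P) := hP.of_equiv ConjAct.toConjAct
  have h1 : (1 : N) ∈ MulAction.fixedPoints (ConjAct P) N := fun g => by
    rw [smul_one]
  obtain ⟨b, hb, hne⟩ := hC.exists_fixed_point_of_prime_dvd_card_of_fixed_point N hdvd h1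
  intro h
  have h2 : (b : P) ∈ (N ⊓ center P : Subgroup P) := by
    refine ⟨b.2, mem_center_iff.2 fun g => ?_⟩
    have h3 : (ConjAct.toConjAct g • b : N) = b := hb _
    have h4 : g * (b : P) * g⁻¹ = b := congrArg Subtype.val h3
    rw [mul_inv_eq_iff_eq_mul] at h4
    exact h4
  rw [h, Subgroup.mem_bot] at h2
  exact hne (Subtype.ext h2.symm)

/-- the hypotheses -/
structure TriHyp {G : Type*} [Group G] (T : Subgroup G) (x0 t0 z : G) : Prop where
  comm : ∀ a ∈ T, ∀ b ∈ T, a * b = b * a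
  exp : ∃ N : ℕ, ∀ t ∈ T, t ^ 3 ^ N = 1
  norm : ∀ t ∈ T, x0 * t * x0⁻¹ ∈ T
  cube : x0 ^ 3 = 1
  zT : z ∈ T
  z1 : z ≠ 1
  zx : x0 * z = z * x0
  cent : ∀ t ∈ T, x0 * t = t * x0 → t = 1 ∨ t = z ∨ t = z⁻¹
  t0E : ∃ s ∈ T, x0 * s * x0⁻¹ * s⁻¹ = t0
  t0ne : t0 ≠ 1
  omega : Nat.card {t : T // t ^ 3 = 1} ≤ 9
  conj : ∃ g, g * x0 * g⁻¹ = t0
  v : ∃ v1 v2 x1 x2 : G, v1 ≠ 1 ∧ v1 ^ 3 = 1 ∧ v1 * v2 = v2 * v1 ∧ x1 * v1 * x1⁻¹ = v2 ∧ x1 * v2 * x1⁻¹ = v1⁻¹ ∧
    x2 * v1 * x2⁻¹ = v1 * v2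
  ne : ∀ g, g * z * g⁻¹ ≠ t0

namespace TriHyp

variable {G : Type*} [Group G] {T : Subgroup G} {x0 t0 z : G} (H : TriHyp T x0 t0 z)

include H

theorem norm_pow (i : ℕ) {t : G} (ht : t ∈ T) : x0 ^ i * t * (x0 ^ i)⁻¹ ∈ T := by
  induction i with
  | zero => simpa using ht
  | succ i ih =>
    have := H.norm _ ih
    have e : x0 ^ (i + 1) * t * (x0 ^ (i + 1))⁻¹ = x0 * (x0 ^ i * t * (x0 ^ i)⁻¹) * x0⁻¹ := by
      rw [pow_succ']; group
    rwa [e]

/-- the Sylow subgroup -/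
def S (H : TriHyp T x0 t0 z) : Subgroup G where
  carrier := {g | ∃ t ∈ T, ∃ i : ℕ, g = t * x0 ^ i}
  one_mem' := ⟨1, one_mem _, 0, by simp⟩
  mul_mem' := by
    rintro _ _ ⟨t, ht, i, rfl⟩ ⟨s, hs, j, rfl⟩
    exact ⟨t * (x0 ^ i * s * (x0 ^ i)⁻¹), T.mul_mem ht (H.norm_pow i hs), i + j, by rw [pow_add]; group⟩
  inv_mem' := by
    rintro _ ⟨t, ht, i, rfl⟩
    have e : (x0 ^ i)⁻¹ = x0 ^ (2 * i) := by
      rw [inv_eq_iff_mul_eq_one, ← pow_add, show i + 2 * i = 3 * i by ring, pow_mul, H.cube, one_pow]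
    refine ⟨x0 ^ (2 * i) * t⁻¹ * (x0 ^ (2 * i))⁻¹, H.norm_pow _ (T.inv_mem ht), 2 * i, ?_⟩
    rw [mul_inv_rev, e]
    group

theorem mem_S {g : G} : g ∈ H.S ↔ ∃ t ∈ T, ∃ i : ℕ, g = t * x0 ^ i := Iff.rfl

theorem T_le : T ≤ H.S := fun t ht => ⟨t, ht, 0, by simp⟩

theorem x0_mem : x0 ∈ H.S := ⟨1, one_mem _, 1, by simp⟩

theorem mem_S' {g : G} (hg : g ∈ H.S) : g ∈ T ∨ ∃ h ∈ T, g = h * x0 ∨ g⁻¹ = h * x0 := by
  obtain ⟨t, ht, i, rfl⟩ := hg
  have h3 : x0 ^ i = x0 ^ (i % 3) := by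
    conv_lhs => rw [← Nat.div_add_mod i 3, pow_add, pow_mul, H.cube, one_pow, one_mul]
  have hlt := Nat.mod_lt i (by norm_num : 0 < 3)
  rw [h3]
  interval_cases i % 3
  · left; simpa using ht
  · right; exact ⟨t, ht, Or.inl (by rw [pow_one])⟩
  · right
    refine ⟨x0 * t⁻¹ * x0⁻¹, H.norm _ (T.inv_mem ht), Or.inr ?_⟩
    have e : x0 ^ 2 = x0⁻¹ := by
      rw [eq_inv_iff_mul_eq_one, ← pow_succ, H.cube]
    rw [e]; group

theorem isPGroup : IsPGroup 3 H.S := by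
  rw [isPGroup_iff]
  rintro _ ⟨t, ht, i, rfl⟩
  obtain ⟨N, hN⟩ := H.exp
  refine ⟨N + 1, ?_⟩
  have h1 : (t * x0 ^ i) ^ 3 ∈ T := by
    have e : (t * x0 ^ i) ^ 3 = t * (x0 ^ i * t * (x0 ^ i)⁻¹) * (x0 ^ (2 * i) * t * (x0 ^ (2 * i))⁻¹) := by
      have e2 : x0 ^ (2 * i) * x0 ^ i = 1 := by
        rw [← pow_add, show 2 * i + i = 3 * i by ring, pow_mul, H.cube, one_pow]
      have e3 : (x0 ^ (2 * i))⁻¹ = x0 ^ i := by rw [inv_eq_iff_mul_eq_one, e2]
      have e4 : x0 ^ (2 * i) = x0 ^ i * x0 ^ i := by rw [← pow_add]; congr 1; ring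
      rw [e3, e4]
      simp only [pow_succ, pow_zero, one_mul]
      group
    rw [e]
    exact T.mul_mem (T.mul_mem ht (H.norm_pow _ ht)) (H.norm_pow _ ht)
  rw [pow_succ', pow_mul]
  exact hN _ h1

theorem t0_mem : t0 ∈ T := by
  obtain ⟨s, hs, e⟩ := H.t0E
  rw [← e]
  exact T.mul_mem (H.norm s hs) (T.inv_mem hs)

theorem x0_notMem : x0 ∉ T := by
  intro h
  obtain ⟨s, hs, e⟩ := H.t0E
  apply H.t0ne
  rw [← e, H.comm x0 h s hs]
  group

/-- the elements of `S` outside `T` -/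
theorem not_comm {x : G} (hx : x ∈ H.S) (hxT : x ∉ T) {t : G} (ht : t ∈ T) (h : x * t = t * x) :
    x0 * t = t * x0 := by
  rcases H.mem_S' hx with h1 | ⟨a, ha, rfl | h1⟩
  · exact absurd h1 hxT
  · have e : x0 = a⁻¹ * (a * x0) := by group
    have h2 : a⁻¹ * t = t * a⁻¹ := H.comm _ (T.inv_mem ha) _ ht
    calc x0 * t = a⁻¹ * (a * x0 * t) := by group
      _ = a⁻¹ * (t * (a * x0)) := by rw [h]
      _ = a⁻¹ * t * (a * x0) := by group
      _ = t * a⁻¹ * (a * x0) := by rw [h2]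
      _ = t * x0 := by group
  · have h3 : x⁻¹ * t = t * x⁻¹ := by
      calc x⁻¹ * t = x⁻¹ * (t * x) * x⁻¹ := by group
        _ = x⁻¹ * (x * t) * x⁻¹ := by rw [h]
        _ = t * x⁻¹ := by group
    have h2 : a⁻¹ * t = t * a⁻¹ := H.comm _ (T.inv_mem ha) _ ht
    rw [h1] at h3
    calc x0 * t = a⁻¹ * (a * x0 * t) := by group
      _ = a⁻¹ * (t * (a * x0)) := by rw [h3]
      _ = a⁻¹ * t * (a * x0) := by group
      _ = t * a⁻¹ * (a * x0) := by rw [h2]
      _ = t * x0 := by group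

/-- the elements of `V` -/
theorem exists_V : ∃ V : Subgroup G, IsPGroup 3 V ∧ (∀ a ∈ V, ∀ b ∈ V, a * b = b * a) ∧ (∀ a ∈ V, a ^ 3 = 1) ∧
    9 ≤ Nat.card V ∧ ∀ a ∈ V, a ≠ 1 → ∀ b ∈ V, b ≠ 1 → IsConj a b := by
  obtain ⟨v1, v2, x1, x2, h1, h2, h3, h4, h5, h6⟩ := H.v
  have h2' : v2 ^ 3 = 1 := by rw [← h4, conj_pow, h2, mul_one, mul_inv_cancel]
  have hc : Commute v1 v2 := h3
  -- the map
  have hV : ∀ a ∈ closure ({v1, v2} : Set G), ∃ i j : ℕ, a = v1 ^ i * v2 ^ j := by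
    intro a ha
    induction ha using closure_induction with
    | mem x hx =>
      rcases hx with rfl | rfl
      · exact ⟨1, 0, by simp⟩
      · exact ⟨0, 1, by simp⟩
    | one => exact ⟨0, 0, by simp⟩
    | mul x y _ _ hx hy =>
      obtain ⟨i, j, rfl⟩ := hx
      obtain ⟨i', j', rfl⟩ := hy
      refine ⟨i + i', j + j', ?_⟩
      rw [pow_add, pow_add]
      have := (hc.pow_pow i' j).eq
      calc v1 ^ i * v2 ^ j * (v1 ^ i' * v2 ^ j') = v1 ^ i * (v2 ^ j * v1 ^ i') * v2 ^ j' := by group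
        _ = v1 ^ i * (v1 ^ i' * v2 ^ j) * v2 ^ j' := by rw [this]
        _ = _ := by group
    | inv x _ hx =>
      obtain ⟨i, j, rfl⟩ := hx
      refine ⟨2 * i, 2 * j, ?_⟩
      have e1 : ∀ {v : G}, v ^ 3 = 1 → ∀ i : ℕ, (v ^ i)⁻¹ = v ^ (2 * i) := by
        intro v hv i
        rw [inv_eq_iff_mul_eq_one, ← pow_add, show i + 2 * i = 3 * i by ring, pow_mul, hv, one_pow]
      rw [mul_inv_rev, e1 h2, e1 h2', (hc.pow_pow _ _).eq]
  have hV3 : ∀ a ∈ closure ({v1, v2} : Set G), ∃ i < 3, ∃ j < 3, a = v1 ^ i * v2 ^ j := by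
    intro a ha
    obtain ⟨i, j, rfl⟩ := hV a ha
    have e1 : ∀ {v : G}, v ^ 3 = 1 → ∀ i : ℕ, v ^ i = v ^ (i % 3) := by
      intro v hv i
      conv_lhs => rw [← Nat.div_add_mod i 3, pow_add, pow_mul, hv, one_pow, one_mul]
    exact ⟨i % 3, Nat.mod_lt _ (by norm_num), j % 3, Nat.mod_lt _ (by norm_num), by rw [← e1 h2, ← e1 h2']⟩
  have hcomm : ∀ a ∈ closure ({v1, v2} : Set G), ∀ b ∈ closure ({v1, v2} : Set G), a * b = b * a := by
    intro a ha b hb
    obtain ⟨i, j, rfl⟩ := hV a ha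
    obtain ⟨i', j', rfl⟩ := hV b hb
    exact ((((hc.pow_pow i j').symm.symm)).mul_left (Commute.pow_pow (Commute.refl v2) j j') |>.mul_right
      (Commute.refl _) |> fun _ => by
        have c1 : Commute (v1 ^ i) (v1 ^ i') := Commute.pow_pow (Commute.refl v1) i i'
        have c2 : Commute (v1 ^ i) (v2 ^ j') := hc.pow_pow i j'
        have c3 : Commute (v2 ^ j) (v1 ^ i') := (hc.symm).pow_pow j i'
        have c4 : Commute (v2 ^ j) (v2 ^ j') := Commute.pow_pow (Commute.refl v2) j j'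
        exact ((c1.mul_right c2).mul_left (c3.mul_right c4)).eq)
  have hcube : ∀ a ∈ closure ({v1, v2} : Set G), a ^ 3 = 1 := by
    intro a ha
    obtain ⟨i, j, rfl⟩ := hV a ha
    rw [(hc.pow_pow i j).mul_pow, ← pow_mul, ← pow_mul, mul_comm i, mul_comm j, pow_mul, pow_mul, h2, h2', one_pow,
      one_pow, one_mul]
  -- conjugacy: every nontrivial element is conjugate to `v1`
  have k1 : IsConj v1 v2 := isConj_iff.2 ⟨x1, h4⟩
  have k2 : IsConj v2 v1⁻¹ := isConj_iff.2 ⟨x1, h5⟩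
  have kinv : ∀ {a b : G}, IsConj a b → IsConj a⁻¹ b⁻¹ := by
    intro a b h
    obtain ⟨g, rfl⟩ := isConj_iff.1 h
    exact isConj_iff.2 ⟨g, by group⟩
  have k3 : IsConj v1 (v1 * v2) := isConj_iff.2 ⟨x2, h6⟩
  have k4 : IsConj (v1 * v2) (v2 * v1⁻¹) := isConj_iff.2 ⟨x1, by
    rw [← h4] at h5 ⊢
    calc x1 * (v1 * (x1 * v1 * x1⁻¹)) * x1⁻¹ = (x1 * v1 * x1⁻¹) * (x1 * (x1 * v1 * x1⁻¹) * x1⁻¹) := by group
      _ = _ := by rw [h5]⟩
  have hsq : ∀ {v : G}, v ^ 3 = 1 → v ^ 2 = v⁻¹ := by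
    intro v hv
    rw [eq_inv_iff_mul_eq_one, ← pow_succ, hv]
  have kk : IsConj v1 v1⁻¹ := k1.trans k2
  have hall : ∀ a ∈ closure ({v1, v2} : Set G), a ≠ 1 → IsConj v1 a := by
    intro a ha ha1
    obtain ⟨i, hi, j, hj, rfl⟩ := hV3 a ha
    interval_cases i <;> interval_cases j
    · simp at ha1
    · simpa using k1
    · rw [pow_zero, one_mul, hsq h2']
      exact kk.trans (kinv k1)
    · simpa using IsConj.refl v1
    · simpa using k3
    · rw [pow_one, hsq h2']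
      -- `v1 v2⁻¹ = (v2 v1⁻¹)⁻¹`
      have e : v1 * v2⁻¹ = (v2 * v1⁻¹)⁻¹ := by group
      rw [e]
      exact kk.trans (kinv (k3.trans k4))
    · rw [hsq h2, pow_zero, mul_one]
      exact kk
    · rw [hsq h2, pow_one, (hc.inv_left).eq]
      exact k3.trans k4
    · rw [hsq h2, hsq h2', ← mul_inv_rev, ← h3]
      exact kk.trans (kinv k3)
  -- order
  have hne : ∀ i j : ℕ, i < 3 → j < 3 → v1 ^ i * v2 ^ j = 1 → i = 0 ∧ j = 0 := by
    intro i j hi hj he
    have hv1v2 : v2 ≠ 1 := by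
      intro h
      rw [h] at h5
      apply h1
      have : v1⁻¹ = 1 := by rw [← h5]; group
      rwa [inv_eq_one] at this
    have hv11 : v1 ≠ v1⁻¹ := by
      intro h
      apply h1
      have e : v1 ^ 2 = 1 := by
        rw [pow_two]; nth_rewrite 2 [h]; exact mul_inv_cancel v1
      calc v1 = v1 ^ 3 * (v1 ^ 2)⁻¹ := by group
        _ = 1 := by rw [h2, e]; simp
    -- `v2 ∉ {v1, v1⁻¹}`
    have hn1 : v2 ≠ v1 := by
      intro h
      rw [h] at h5 h4
      exact hv11 (h4.symm.trans h5)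
    have hn2 : v2 ≠ v1⁻¹ := by
      intro h
      rw [h] at h5 h4
      apply hv11
      have : x1 * v1⁻¹ * x1⁻¹ = (x1 * v1 * x1⁻¹)⁻¹ := by group
      rw [this, h4, inv_inv] at h5
      exact h5
    interval_cases i <;> interval_cases j
    · exact ⟨rfl, rfl⟩
    · exact absurd (by simpa using he) hv1v2
    · rw [pow_zero, one_mul, hsq h2'] at he
      exact absurd (inv_eq_one.1 he) hv1v2
    · exact absurd (by simpa using he) h1
    · rw [pow_one, pow_one] at he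
      exact absurd (eq_inv_of_mul_eq_one_right he) hn2
    · rw [pow_one, hsq h2', mul_inv_eq_one] at he
      exact absurd he.symm hn1
    · rw [hsq h2, pow_zero, mul_one] at he
      exact absurd (inv_eq_one.1 he) h1
    · rw [hsq h2, pow_one, inv_mul_eq_one] at he
      exact absurd he.symm hn1
    · rw [hsq h2, hsq h2', ← mul_inv_rev, inv_eq_one] at he
      exact absurd (eq_inv_of_mul_eq_one_left he) hn2
  have hfin : Finite (closure ({v1, v2} : Set G)) := by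
    have : Function.Surjective (fun p : Fin 3 × Fin 3 => (⟨v1 ^ (p.1 : ℕ) * v2 ^ (p.2 : ℕ),
        mul_mem (pow_mem (subset_closure (by simp)) _) (pow_mem (subset_closure (by simp)) _)⟩ :
        closure ({v1, v2} : Set G))) := by
      rintro ⟨a, ha⟩
      obtain ⟨i, hi, j, hj, rfl⟩ := hV3 a ha
      exact ⟨(⟨i, hi⟩, ⟨j, hj⟩), rfl⟩
    exact Finite.of_surjective _ this
  refine ⟨closure {v1, v2}, ?_, hcomm, hcube, ?_, fun a ha ha1 b hb hb1 => (hall a ha ha1).symm.trans (hall b hb hb1)⟩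
  · rw [isPGroup_iff]
    exact fun a ha => ⟨1, by rw [pow_one]; exact hcube a ha⟩
  · have hinj : Function.Injective (fun p : Fin 3 × Fin 3 => (⟨v1 ^ (p.1 : ℕ) * v2 ^ (p.2 : ℕ),
        mul_mem (pow_mem (subset_closure (by simp)) _) (pow_mem (subset_closure (by simp)) _)⟩ :
        closure ({v1, v2} : Set G))) := by
      rintro ⟨i, j⟩ ⟨i', j'⟩ h
      have h7 : v1 ^ (i : ℕ) * v2 ^ (j : ℕ) = v1 ^ (i' : ℕ) * v2 ^ (j' : ℕ) := congrArg Subtype.val h
      -- `v1 ^ (i + 2 i') * v2 ^ (j + 2 j') = 1`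
      have h8 : v1 ^ ((i + 2 * i' : ℕ) % 3) * v2 ^ ((j + 2 * j' : ℕ) % 3) = 1 := by
        have e1 : ∀ {v : G}, v ^ 3 = 1 → ∀ i : ℕ, v ^ (i % 3) = v ^ i := by
          intro v hv i
          conv_rhs => rw [← Nat.div_add_mod i 3, pow_add, pow_mul, hv, one_pow, one_mul]
        have e2 : ∀ {v : G}, v ^ 3 = 1 → ∀ i : ℕ, v ^ (2 * i) = (v ^ i)⁻¹ := by
          intro v hv i
          rw [eq_inv_iff_mul_eq_one, ← pow_add, show 2 * i + i = 3 * i by ring, pow_mul, hv, one_pow]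
        rw [e1 h2, e1 h2', pow_add, pow_add, e2 h2, e2 h2']
        have c1 : Commute ((v1 ^ (i' : ℕ))⁻¹) (v2 ^ (j : ℕ)) := ((hc.pow_pow i' j).inv_left)
        calc v1 ^ (i : ℕ) * (v1 ^ (i' : ℕ))⁻¹ * (v2 ^ (j : ℕ) * (v2 ^ (j' : ℕ))⁻¹)
            = v1 ^ (i : ℕ) * ((v1 ^ (i' : ℕ))⁻¹ * v2 ^ (j : ℕ)) * (v2 ^ (j' : ℕ))⁻¹ := by group
          _ = v1 ^ (i : ℕ) * (v2 ^ (j : ℕ) * (v1 ^ (i' : ℕ))⁻¹) * (v2 ^ (j' : ℕ))⁻¹ := by rw [c1.eq]
          _ = (v1 ^ (i : ℕ) * v2 ^ (j : ℕ)) * ((v1 ^ (i' : ℕ))⁻¹ * (v2 ^ (j' : ℕ))⁻¹) := by group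
          _ = (v1 ^ (i' : ℕ) * v2 ^ (j' : ℕ)) * ((v1 ^ (i' : ℕ))⁻¹ * (v2 ^ (j' : ℕ))⁻¹) := by rw [h7]
          _ = 1 := by
            rw [((hc.pow_pow i' j').inv_inv).eq]
            group
      obtain ⟨h9, h10⟩ := hne _ _ (Nat.mod_lt _ (by norm_num)) (Nat.mod_lt _ (by norm_num)) h8
      have hi := i.2
      have hi' := i'.2
      have hj := j.2
      have hj' := j'.2
      refine Prod.ext (Fin.ext ?_) (Fin.ext ?_)
      · show (i : ℕ) = i'; omega
      · show (j : ℕ) = j'; omega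
    have := Nat.card_le_card_of_injective _ hinj
    simpa [Nat.card_prod] using this

/-- **the criterion** -/
theorem full [Finite G] (hcard : ¬ 9 * Nat.card T ∣ Nat.card G) : Exc.Full 3 G := by
  have h3 : Fact (Nat.Prime 3) := ⟨Nat.prime_three⟩
  obtain ⟨P, hP⟩ := H.isPGroup.exists_le_sylow
  -- `P = S`
  have hidx : ∀ {A B : Subgroup G}, A ≤ B → B ≤ P → ¬ B ≤ A → 3 * Nat.card A ∣ Nat.card B := by
    intro A B hAB hBP hn
    have hBp : IsPGroup 3 B := P.2.to_le hBP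
    have e : A.relIndex B * Nat.card A = Nat.card B := by
      have e1 := Subgroup.relIndex_mul_relIndex ⊥ A B bot_le hAB
      rw [relIndex_bot_left, relIndex_bot_left] at e1
      rw [mul_comm]; exact e1
    have h4 : 3 ∣ A.relIndex B := by
      have h5 : A.relIndex B ≠ 1 := fun h => hn (Subgroup.relIndex_eq_one.1 h)
      obtain ⟨n, hn⟩ := (IsPGroup.iff_card.1 hBp)
      rw [hn] at e
      obtain ⟨m, hm, h6⟩ := (Nat.dvd_prime_pow Nat.prime_three).1 (Dvd.intro _ e)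
      rw [h6] at h5 ⊢
      exact dvd_pow_self 3 (fun h0 => h5 (by rw [h0, pow_zero]))
    rw [← e]
    exact Nat.mul_dvd_mul_right h4 _
  have hSP : (P : Subgroup G) = H.S := by
    by_contra hne
    have h4 : ¬ (P : Subgroup G) ≤ H.S := fun h => hne (le_antisymm h hP)
    have h5 := hidx hP le_rfl h4
    have h6 := hidx H.T_le hP (fun h => H.x0_notMem (h H.x0_mem))
    apply hcard
    have h7 : 9 * Nat.card T = 3 * (3 * Nat.card T) := by ring
    rw [h7]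
    exact ((Nat.mul_dvd_mul_left 3 h6).trans h5).trans (Subgroup.card_subgroup_dvd_card _)
  refine Exc.full_of_one P fun A hA hne => ?_
  rw [hSP] at hA ⊢
  have hAS := hA.1
  have hAc := hA.2
  -- step 1: `z ∈ A`
  have hzA : z ∈ A := by
    have : Nontrivial A := (Subgroup.nontrivial_iff_ne_bot A).2 hne
    have hn : (A.subgroupOf H.S).Normal := by
      refine ⟨fun a ha g => ?_⟩
      rw [mem_subgroupOf] at ha ⊢
      exact hAc _ ha _ (g * a * g⁻¹).2
    have hAn : A.subgroupOf H.S ≠ ⊥ := by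
      intro h
      rw [subgroupOf_eq_bot] at h
      exact hne (le_bot_iff.1 (h.le_bot |>.trans' (le_inf le_rfl hAS)))
    have hSp : IsPGroup 3 H.S := H.isPGroup
    have : Finite H.S := inferInstance
    have h4 : (A.subgroupOf H.S ⊓ center H.S : Subgroup H.S) ≠ ⊥ := by
      have := Cfsg.Agent.H790.TriCrit.inf_center_ne_bot hSp hAn hn
      exact this
    obtain ⟨⟨y, hyA, hyc⟩, hy1⟩ := Subgroup.ne_bot_iff_exists_ne_one.1 h4
    have hy1' : (y : G) ≠ 1 := fun h => hy1 (Subtype.ext (Subtype.ext h))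
    have hcen : ∀ s ∈ H.S, s * y = y * s := fun s hs => congrArg Subtype.val (mem_center_iff.1 hyc ⟨s, hs⟩)
    have hyT : (y : G) ∈ T := by
      by_contra hyT
      obtain ⟨s, hs, e⟩ := H.t0E
      have h5 := H.not_comm y.2 hyT hs (hcen s (H.T_le hs)).symm
      apply H.t0ne
      rw [← e, h5]
      group
    rcases H.cent y hyT (hcen x0 H.x0_mem) with h5 | h5 | h5
    · exact absurd h5 hy1'
    · rw [← h5]; exact hyA
    · have := A.inv_mem hyA
      rw [show H.S.subtype y = (y : G) from rfl, h5, inv_inv] at this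
      exact this
  -- step 2: an element `x ∈ S \ T` conjugate to `z`
  obtain ⟨V, hVp, hVc, hV3, hV9, hVconj⟩ := H.exists_V
  obtain ⟨g, hg⟩ := ClosedTwo.Elem.exists_conj_le P hVp
  have hgS : ∀ a ∈ V, g * a * g⁻¹ ∈ H.S := fun a ha => hSP ▸ hg a ha
  have hone : ∀ a, g * a * g⁻¹ = 1 → a = 1 := fun a ha => by
    have : a = g⁻¹ * (g * a * g⁻¹) * g := by group
    rw [this, ha]; group
  have hconj1 : ∀ a : G, IsConj a (g * a * g⁻¹) := fun a => isConj_iff.2 ⟨g, rfl⟩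
  obtain ⟨gc, hgc⟩ := H.conj
  have ht03 : t0 ^ 3 = 1 := by rw [← hgc, conj_pow, H.cube, mul_one, mul_inv_cancel]
  have hz3 : z ^ 3 = 1 := by
    -- `z` commutes with `x0`; `z ^ 3` too
    by_contra h
    obtain ⟨N, hN⟩ := H.exp
    have hc3 : x0 * z ^ 3 = z ^ 3 * x0 := ((show Commute x0 z from H.zx).pow_right 3).eq
    rcases H.cent _ (T.pow_mem H.zT 3) hc3 with h4 | h4 | h4
    · exact h h4
    · have h5 : z ^ 2 = 1 := by
        have : z ^ 3 = z ^ 2 * z := pow_succ z 2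
        rw [this] at h4
        exact mul_eq_right.1 h4
      have h6 := hN z H.zT
      have hodd : Odd (3 ^ N) := Odd.pow (by decide)
      obtain ⟨m, hm⟩ := hodd
      rw [hm, pow_succ, pow_mul, h5, one_pow, one_mul] at h6
      exact H.z1 h6
    · have h5 : z ^ 4 = 1 := by
        rw [pow_succ, h4, inv_mul_cancel]
      have h6 := hN z H.zT
      have hco : Nat.Coprime 4 (3 ^ N) := Nat.Coprime.pow_right N (by norm_num)
      have h7 : orderOf z ∣ Nat.gcd 4 (3 ^ N) := Nat.dvd_gcd (orderOf_dvd_of_pow_eq_one h5) (orderOf_dvd_of_pow_eq_one h6)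
      rw [hco.gcd_eq_one, Nat.dvd_one, orderOf_eq_one_iff] at h7
      exact H.z1 h7
  obtain ⟨x, hxS, hxT, hzx, hzx'⟩ : ∃ x ∈ H.S, x ∉ T ∧ IsConj z x ∧ IsConj z x⁻¹ := by
    by_cases hVT : ∀ a ∈ V, g * a * g⁻¹ ∈ T
    · exfalso
      -- `V^g = Ω₁(T)`
      have hfin : Finite V := inferInstance
      let f : V → {t : T // t ^ 3 = 1} := fun a => ⟨⟨g * a * g⁻¹, hVT a a.2⟩, Subtype.ext (by
        show (g * (a : G) * g⁻¹) ^ 3 = 1
        rw [conj_pow, hV3 a a.2, mul_one, mul_inv_cancel])⟩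
      have hf : Function.Injective f := by
        intro a b hab
        have h5 : g * (a : G) * g⁻¹ = g * b * g⁻¹ := congrArg (fun x : {t : T // t ^ 3 = 1} => ((x : T) : G)) hab
        exact Subtype.ext (mul_left_cancel (mul_right_cancel h5))
      have hbij : Function.Bijective f := hf.bijective_of_nat_card_le (H.omega.trans hV9)
      obtain ⟨a, ha⟩ := hbij.2 ⟨⟨z, H.zT⟩, Subtype.ext hz3⟩
      obtain ⟨b, hb⟩ := hbij.2 ⟨⟨t0, H.t0_mem⟩, Subtype.ext ht03⟩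
      have ha' : g * (a : G) * g⁻¹ = z := congrArg (fun x : {t : T // t ^ 3 = 1} => ((x : T) : G)) ha
      have hb' : g * (b : G) * g⁻¹ = t0 := congrArg (fun x : {t : T // t ^ 3 = 1} => ((x : T) : G)) hb
      have ha1 : (a : G) ≠ 1 := fun h => H.z1 (by rw [← ha', h]; group)
      have hb1 : (b : G) ≠ 1 := fun h => H.t0ne (by rw [← hb', h]; group)
      have h6 : IsConj z t0 := by
        rw [← ha', ← hb']
        exact ((hconj1 _).symm.trans (hVconj a a.2 ha1 b b.2 hb1)).trans (hconj1 _)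
      obtain ⟨c, hc⟩ := isConj_iff.1 h6
      exact H.ne c hc
    · push Not at hVT
      obtain ⟨a, ha, haT⟩ := hVT
      have ha1 : a ≠ 1 := fun h => haT (by rw [h]; simp)
      -- an element of `V` mapped into `T`
      obtain ⟨b, hb, hb1, hbT⟩ : ∃ b ∈ V, b ≠ 1 ∧ g * b * g⁻¹ ∈ T := by
        by_contra hcon
        push Not at hcon
        -- `V` injects into `S / T`
        have hinj : ∀ b ∈ V, ∃ i < 3, ∃ t ∈ T, g * b * g⁻¹ = t * x0 ^ i := by
          intro b hb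
          obtain ⟨t, ht, i, e⟩ := hgS b hb
          refine ⟨i % 3, Nat.mod_lt _ (by norm_num), t, ht, ?_⟩
          rw [e]
          conv_lhs => rw [← Nat.div_add_mod i 3, pow_add, pow_mul, H.cube, one_pow, one_mul]
        choose! i hi t ht e using hinj
        have hf : Function.Injective (fun b : V => (⟨i b, hi b b.2⟩ : Fin 3)) := by
          intro b c hbc
          have h5 : i b = i c := congrArg Fin.val hbc
          have h6 : g * ((b : G) * (c : G)⁻¹) * g⁻¹ ∈ T := by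
            have : g * ((b : G) * (c : G)⁻¹) * g⁻¹ = (g * b * g⁻¹) * (g * c * g⁻¹)⁻¹ := by group
            rw [this, e b b.2, e c c.2, h5]
            have e3 : t b * x0 ^ i c * (t c * x0 ^ i c)⁻¹ = t b * (t c)⁻¹ := by group
            rw [e3]
            exact T.mul_mem (ht b b.2) (T.inv_mem (ht c c.2))
          by_contra hne
          exact hcon _ (V.mul_mem b.2 (V.inv_mem c.2)) (fun h => hne (Subtype.ext (mul_inv_eq_one.1 h))) h6
        have := Nat.card_le_card_of_injective _ hf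
        rw [Nat.card_fin] at this
        omega
      have hcomm : (g * a * g⁻¹) * (g * b * g⁻¹) = (g * b * g⁻¹) * (g * a * g⁻¹) := by
        calc (g * a * g⁻¹) * (g * b * g⁻¹) = g * (a * b) * g⁻¹ := by group
          _ = g * (b * a) * g⁻¹ := by rw [hVc a ha b hb]
          _ = _ := by group
      have h5 := H.not_comm (hgS a ha) haT hbT hcomm
      have hb1' : g * b * g⁻¹ ≠ 1 := fun h => hb1 (hone _ h)
      have hzb : ∀ c ∈ V, c ≠ 1 → IsConj z (g * c * g⁻¹) := by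
        intro c hc hc1
        rcases H.cent _ hbT h5 with h6 | h6 | h6
        · exact absurd h6 hb1'
        · rw [← h6]
          exact ((hconj1 b).symm.trans (hVconj b hb hb1 c hc hc1)).trans (hconj1 c)
        · have h7 : z = g * b⁻¹ * g⁻¹ := by
            have : g * b⁻¹ * g⁻¹ = (g * b * g⁻¹)⁻¹ := by group
            rw [this, h6, inv_inv]
          rw [h7]
          exact ((hconj1 b⁻¹).symm.trans (hVconj b⁻¹ (V.inv_mem hb) (inv_ne_one.2 hb1) c hc hc1)).trans (hconj1 c)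
      refine ⟨g * a * g⁻¹, hgS a ha, haT, hzb a ha ha1, ?_⟩
      have : (g * a * g⁻¹)⁻¹ = g * a⁻¹ * g⁻¹ := by group
      rw [this]
      exact hzb _ (V.inv_mem ha) (inv_ne_one.2 ha1)
  -- `x = h x0`
  obtain ⟨h, hh, hhx⟩ : ∃ h ∈ T, IsConj z (h * x0) := by
    rcases H.mem_S' hxS with h5 | ⟨h, hh, rfl | h5⟩
    · exact absurd h5 hxT
    · exact ⟨h, hh, hzx⟩
    · exact ⟨h, hh, by rw [← h5]; exact hzx'⟩
  have hin : ∀ {a b : G}, a ∈ A → IsConj a b → b ∈ H.S → b ∈ A := by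
    intro a b ha hab hb
    obtain ⟨c, rfl⟩ := isConj_iff.1 hab
    exact hAc a ha c hb
  have hhS : h * x0 ∈ H.S := ⟨h, hh, 1, by rw [pow_one]⟩
  have hhA : h * x0 ∈ A := hin hzA hhx hhS
  -- step 3
  have hcommA : ∀ t ∈ T, x0 * t * x0⁻¹ * t⁻¹ ∈ A := by
    intro t ht
    have h5 : (h * x0) * t * (h * x0)⁻¹ * t⁻¹ ∈ A := by
      have e : (h * x0) * t * (h * x0)⁻¹ * t⁻¹ = (h * x0) * (t * (h * x0)⁻¹ * t⁻¹) := by group
      rw [e]
      refine A.mul_mem hhA ?_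
      refine hAc _ (A.inv_mem hhA) t ?_
      exact H.S.mul_mem (H.S.mul_mem (H.T_le ht) (H.S.inv_mem hhS)) (H.S.inv_mem (H.T_le ht))
    have e : (h * x0) * t * (h * x0)⁻¹ * t⁻¹ = x0 * t * x0⁻¹ * t⁻¹ := by
      have h6 : h * (x0 * t * x0⁻¹) = (x0 * t * x0⁻¹) * h := H.comm _ hh _ (H.norm t ht)
      calc (h * x0) * t * (h * x0)⁻¹ * t⁻¹ = h * (x0 * t * x0⁻¹) * h⁻¹ * t⁻¹ := by group
        _ = (x0 * t * x0⁻¹) * h * h⁻¹ * t⁻¹ := by rw [h6]
        _ = _ := by group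
    rwa [e] at h5
  -- step 4
  have ht0A : t0 ∈ A := by
    obtain ⟨s, hs, e⟩ := H.t0E
    rw [← e]
    exact hcommA s hs
  have hx0A : x0 ∈ A := hin ht0A (isConj_iff.2 ⟨gc⁻¹, by rw [← hgc]; group⟩) H.x0_mem
  have hhA' : h ∈ A := by
    have : h = (h * x0) * x0⁻¹ := by group
    rw [this]
    exact A.mul_mem hhA (A.inv_mem hx0A)
  -- step 5
  have hx0t0 : IsConj x0 t0 := isConj_iff.2 ⟨gc, hgc⟩
  have hnim : ¬ ∃ t ∈ T, x0 * t * x0⁻¹ * t⁻¹ = h := by
    rintro ⟨t, ht, e⟩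
    have h5 : IsConj x0 (h * x0) := by
      refine isConj_iff.2 ⟨t⁻¹, ?_⟩
      have h6 : (x0 * t * x0⁻¹) * t⁻¹ = t⁻¹ * (x0 * t * x0⁻¹) := H.comm _ (H.norm t ht) _ (T.inv_mem ht)
      rw [← e, h6]
      group
    obtain ⟨c, hc⟩ := isConj_iff.1 (hhx.trans (h5.symm.trans hx0t0))
    exact H.ne c hc
  -- step 6
  let δ : T →* T :=
    { toFun := fun t => ⟨x0 * t * x0⁻¹ * (t : G)⁻¹, T.mul_mem (H.norm t t.2) (T.inv_mem t.2)⟩
      map_one' := Subtype.ext (by simp)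
      map_mul' := fun a b => Subtype.ext (by
        show x0 * ((a : G) * b) * x0⁻¹ * ((a : G) * b)⁻¹ = x0 * a * x0⁻¹ * (a : G)⁻¹ * (x0 * b * x0⁻¹ * (b : G)⁻¹)
        have h6 : (x0 * (b : G) * x0⁻¹ * (b : G)⁻¹) * (a : G)⁻¹ = (a : G)⁻¹ * (x0 * (b : G) * x0⁻¹ * (b : G)⁻¹) :=
          H.comm _ (T.mul_mem (H.norm b b.2) (T.inv_mem b.2)) _ (T.inv_mem a.2)
        calc x0 * ((a : G) * b) * x0⁻¹ * ((a : G) * b)⁻¹
            = x0 * a * x0⁻¹ * ((x0 * (b : G) * x0⁻¹ * (b : G)⁻¹) * (a : G)⁻¹) := by group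
          _ = x0 * a * x0⁻¹ * ((a : G)⁻¹ * (x0 * (b : G) * x0⁻¹ * (b : G)⁻¹)) := by rw [h6]
          _ = _ := by group) }
  have hker : Nat.card δ.ker ≤ 3 := by
    have h5 : ∀ t : T, t ∈ δ.ker → (t : G) = 1 ∨ (t : G) = z ∨ (t : G) = z⁻¹ := by
      intro t ht
      have h6 : x0 * (t : G) * x0⁻¹ * (t : G)⁻¹ = 1 := congrArg Subtype.val (MonoidHom.mem_ker.1 ht)
      apply H.cent t t.2
      rw [mul_inv_eq_one, mul_inv_eq_iff_eq_mul] at h6
      exact h6
    classical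
    have h7 : ((δ.ker : Set T)) ⊆ (Finset.image (fun x : G => if hx : x ∈ T then (⟨x, hx⟩ : T) else 1)
        ({1, z, z⁻¹} : Finset G) : Finset T) := by
      intro t ht
      rw [Finset.mem_coe, Finset.mem_image]
      refine ⟨t, ?_, by rw [dif_pos t.2]⟩
      simpa using h5 t ht
    have h8 : Nat.card δ.ker ≤ (Finset.image (fun x : G => if hx : x ∈ T then (⟨x, hx⟩ : T) else 1)
        ({1, z, z⁻¹} : Finset G)).card := by
      rw [← Set.ncard_coe_finset]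
      exact Set.ncard_le_ncard h7 (Finset.finite_toSet _)
    exact h8.trans (Finset.card_image_le.trans Finset.card_le_three)
  have hTA : T ≤ A := by
    by_contra hTA
    have hA' : (A ⊓ T).subgroupOf T ≠ ⊤ := by
      intro h5
      apply hTA
      have h6 : T ≤ A ⊓ T := by rwa [subgroupOf_eq_top] at h5
      exact h6.trans inf_le_left
    have h5 : δ.range ≤ (A ⊓ T).subgroupOf T := by
      rintro _ ⟨t, rfl⟩
      exact ⟨hcommA t t.2, (δ t).2⟩
    have hTfin : Finite T := inferInstance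
    have h6 : Nat.card δ.range * Nat.card δ.ker = Nat.card T := by
      have := δ.ker.card_mul_index
      rw [Subgroup.index_ker] at this
      rw [mul_comm]; exact this
    have hTp : IsPGroup 3 T := H.isPGroup.to_le H.T_le
    -- the index of `A ⊓ T`
    have h7 := ((A ⊓ T).subgroupOf T).card_mul_index
    have h8 : 3 ∣ ((A ⊓ T).subgroupOf T).index := by
      obtain ⟨n, hn⟩ := IsPGroup.iff_card.1 hTp
      have h9 : ((A ⊓ T).subgroupOf T).index ∣ 3 ^ n := by rw [← hn]; exact Dvd.intro_left _ h7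
      obtain ⟨m, hm, h10⟩ := (Nat.dvd_prime_pow Nat.prime_three).1 h9
      rw [h10]
      refine dvd_pow_self 3 fun h0 => ?_
      rw [h0, pow_zero, Subgroup.index_eq_one] at h10
      exact hA' h10
    have h11 : Nat.card δ.range < Nat.card ((A ⊓ T).subgroupOf T) := by
      have h12 : δ.range ≠ (A ⊓ T).subgroupOf T := by
        intro h13
        have h14 : (⟨h, hh⟩ : T) ∈ δ.range := by
          rw [h13]
          exact ⟨hhA', hh⟩
        obtain ⟨t, ht⟩ := h14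
        exact hnim ⟨t, t.2, congrArg Subtype.val ht⟩
      exact lt_of_le_of_ne (Subgroup.card_le_of_le h5) (fun h13 => h12 (Subgroup.eq_of_le_of_card_ge h5 h13.ge))
    have h15 : 0 < Nat.card ((A ⊓ T).subgroupOf T) := Nat.card_pos
    have h16 : 0 < ((A ⊓ T).subgroupOf T).index := Nat.pos_of_ne_zero (fun h0 => by
      rw [h0, mul_zero] at h7
      exact Nat.card_pos.ne' h7.symm)
    have h17 := Nat.le_of_dvd h16 h8
    have h18 : Nat.card δ.range * 3 < Nat.card T := by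
      calc Nat.card δ.range * 3 < Nat.card ((A ⊓ T).subgroupOf T) * 3 := by omega
        _ ≤ Nat.card ((A ⊓ T).subgroupOf T) * ((A ⊓ T).subgroupOf T).index := Nat.mul_le_mul_left _ h17
        _ = Nat.card T := h7
    have h19 : Nat.card δ.range * Nat.card δ.ker ≤ Nat.card δ.range * 3 := Nat.mul_le_mul_left _ hker
    omega
  rintro _ ⟨t, ht, i, rfl⟩
  exact A.mul_mem (hTA ht) (A.pow_mem hx0A i)

end TriHyp

end Cfsg.Agent.H790.TriCrit
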