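import Cfsg.Agent.H790.TwFix
import Cfsg.Agent.H790.TriCrit
import Cfsg.Agent.H795.NotAbData

/-!
# Weyl group data for `³D₄(q)`, `p = 3` (helper790)
-/

set_option autoImplicit false
set_option linter.unusedSectionVars false

namespace Cfsg.Agent.H790.TriData

open CoxeterSystem Cfsg Cfsg.Lie Cfsg.Lie.ChevalleyDatum
open Cfsg.Agent.ChevalleyStructure Cfsg.Agent.ChevalleyStructure.Elts Cfsg.Agent.ChevalleyStructure.CoxeterGeom
  Cfsg.Agent.ChevalleyStructure.CoxeterGeomTypes Cfsg.Agent.ChevalleyStructure.NPerm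
open Cfsg.Agent.Tits.Roots Cfsg.Agent.Tits.Core Cfsg.Agent.Nodes Cfsg.Agent.Nodes.Reps Cfsg.Agent.Nodes.BNOf
  Cfsg.Agent.Nodes.RGDChev Cfsg.Agent.Nodes.Bruhat
open Cfsg.Agent.KFacts.RgdField Cfsg.Agent.KFacts.RgdChevCoord Cfsg.Agent.BpExc.TorCent Cfsg.Agent.BpExc.TorChev
open Cfsg.Agent.GpExc.Field Cfsg.Agent.BpExc.Tow Cfsg.Agent.BpExc.TowChev Cfsg.Agent.BpExc.Fr
  Cfsg.Agent.BpExc.LangFr Cfsg.Agent.H129.TorusChar Cfsg.Agent.H129.TorusMain Cfsg.Agent.H123.ExcZ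
open Cfsg.Agent.BpExc Cfsg.Agent.H795.LangT Cfsg.Agent.H795.Core Cfsg.Agent.H129.WData
  Cfsg.Agent.H795.NotAbT Cfsg.Agent.H795.NotAbCert Cfsg.Agent.H795.NotAbData

abbrev Am : Mat 4 := Cfsg.Agent.H795.NotAbData.D4.Am

theorem hA : ∀ i j, Am i j = cartanOf chevD4 4 i j := Cfsg.Agent.H795.NotAbData.D4.hA

/-- the chain of `wp` -/
def wpL : List (Fin 4 × Mat 4) := [
  (3, ![![0, 0, 1, 0], ![0, 1, 0, 0], ![1, 0, 0, 0], ![-1, -2, -1, -1]]),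
  (1, ![![0, 0, 1, 0], ![0, 1, 0, 1], ![1, 0, 0, 0], ![-1, -2, -1, -1]]),
  (2, ![![0, 1, 1, 0], ![0, 0, 0, 1], ![1, 1, 0, 0], ![-1, -1, -1, -1]]),
  (0, ![![0, 1, 0, 0], ![0, 0, 0, 1], ![1, 1, 1, 0], ![-1, -1, 0, -1]]),
  (1, ![![1, 1, 0, 0], ![0, 0, 0, 1], ![0, 1, 1, 0], ![0, -1, 0, -1]]),
  (3, ![![1, 0, 0, 0], ![0, 1, 0, 1], ![0, 0, 1, 0], ![0, 0, 0, -1]])]

theorem wpOK : ChainOK Am wpL := by decide +kernel

/-- the element `w₁`, `ε = 1` -/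
noncomputable def wp : coxeterD4.Group := coxeterD4.toCoxeterSystem.wordProd (wpL.map Prod.fst)

/-- the matrix -/
def wpM : Mat 4 := ![![0, 0, 1, 0], ![0, 1, 0, 0], ![1, 0, 0, 0], ![-1, -2, -1, -1]]

theorem is_wp (hp : IsType chevD4 4 coxeterD4) : IsMat hp wp wpM := by
  have h := isMat_chain hp hA wpOK
  have e : hd wpL = wpM := rfl
  rw [e] at h
  exact h

/-- the chain of `wn` -/
def wnL : List (Fin 4 × Mat 4) := [
  (0, ![![0, 0, -1, 0], ![0, -1, 0, 0], ![-1, 0, 0, 0], ![1, 2, 1, 1]]),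
  (1, ![![0, 0, -1, 0], ![-1, -1, 0, 0], ![1, 0, 0, 0], ![1, 2, 1, 1]]),
  (2, ![![0, -1, -1, 0], ![-1, 0, 0, 0], ![1, 1, 0, 0], ![1, 1, 1, 1]]),
  (0, ![![0, -1, 0, 0], ![-1, 0, 0, 0], ![1, 1, 1, 0], ![1, 1, 0, 1]]),
  (1, ![![-1, -1, 0, 0], ![1, 0, 0, 0], ![0, 1, 1, 0], ![0, 1, 0, 1]]),
  (0, ![![-1, 0, 0, 0], ![1, 1, 0, 0], ![0, 0, 1, 0], ![0, 0, 0, 1]])]

theorem wnOK : ChainOK Am wnL := by decide +kernel

/-- the element `w₁`, `ε = -1` -/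
noncomputable def wn : coxeterD4.Group := coxeterD4.toCoxeterSystem.wordProd (wnL.map Prod.fst)

/-- the matrix -/
def wnM : Mat 4 := ![![0, 0, -1, 0], ![0, -1, 0, 0], ![-1, 0, 0, 0], ![1, 2, 1, 1]]

theorem is_wn (hp : IsType chevD4 4 coxeterD4) : IsMat hp wn wnM := by
  have h := isMat_chain hp hA wnOK
  have e : hd wnL = wnM := rfl
  rw [e] at h
  exact h

/-- the chain of `vp` -/
def vpL : List (Fin 4 × Mat 4) := [
  (2, ![![-1, -1, 0, -1], ![0, -1, -1, 0], ![0, 1, 1, 1], ![0, 1, 0, 0]]),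
  (0, ![![-1, -1, -1, -1], ![0, -1, 0, 0], ![0, 1, 0, 1], ![0, 1, 1, 0]]),
  (1, ![![0, -1, -1, -1], ![-1, -1, 0, 0], ![1, 1, 0, 1], ![1, 1, 1, 0]]),
  (3, ![![0, -1, -1, -1], ![-1, 0, 0, 0], ![1, 1, 0, 1], ![1, 1, 1, 0]]),
  (2, ![![0, -1, -1, 0], ![-1, 0, 0, 0], ![1, 1, 0, 0], ![1, 1, 1, 1]]),
  (0, ![![0, -1, 0, 0], ![-1, 0, 0, 0], ![1, 1, 1, 0], ![1, 1, 0, 1]]),
  (1, ![![-1, -1, 0, 0], ![1, 0, 0, 0], ![0, 1, 1, 0], ![0, 1, 0, 1]]),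
  (0, ![![-1, 0, 0, 0], ![1, 1, 0, 0], ![0, 0, 1, 0], ![0, 0, 0, 1]])]

theorem vpOK : ChainOK Am vpL := by decide +kernel

/-- the element `w₂`, `ε = 1` -/
noncomputable def vp : coxeterD4.Group := coxeterD4.toCoxeterSystem.wordProd (vpL.map Prod.fst)

/-- the matrix -/
def vpM : Mat 4 := ![![-1, -1, 0, -1], ![0, -1, -1, 0], ![0, 1, 1, 1], ![0, 1, 0, 0]]

theorem is_vp (hp : IsType chevD4 4 coxeterD4) : IsMat hp vp vpM := by
  have h := isMat_chain hp hA vpOK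
  have e : hd vpL = vpM := rfl
  rw [e] at h
  exact h

/-- the chain of `vn` -/
def vnL : List (Fin 4 × Mat 4) := [
  (1, ![![1, 1, 0, 1], ![0, 1, 1, 0], ![0, -1, -1, -1], ![0, -1, 0, 0]]),
  (3, ![![1, 1, 0, 1], ![0, 0, 1, 0], ![0, -1, -1, -1], ![0, 1, 0, 0]]),
  (1, ![![1, 1, 0, 0], ![0, 0, 1, 0], ![0, -1, -1, 0], ![0, 1, 0, 1]]),
  (2, ![![1, 0, 0, 0], ![0, 1, 1, 0], ![0, 0, -1, 0], ![0, 0, 0, 1]])]

theorem vnOK : ChainOK Am vnL := by decide +kernel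

/-- the element `w₂`, `ε = -1` -/
noncomputable def vn : coxeterD4.Group := coxeterD4.toCoxeterSystem.wordProd (vnL.map Prod.fst)

/-- the matrix -/
def vnM : Mat 4 := ![![1, 1, 0, 1], ![0, 1, 1, 0], ![0, -1, -1, -1], ![0, -1, 0, 0]]

theorem is_vn (hp : IsType chevD4 4 coxeterD4) : IsMat hp vn vnM := by
  have h := isMat_chain hp hA vnOK
  have e : hd vnL = vnM := rfl
  rw [e] at h
  exact h

/-- the chain of `u1` -/
def u1L : List (Fin 4 × Mat 4) := [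
  (2, ![![0, 0, 0, -1], ![-1, -1, -1, 0], ![1, 2, 1, 1], ![1, 0, 0, 0]]),
  (1, ![![0, 0, 0, -1], ![-1, -1, 0, 0], ![1, 2, 1, 1], ![1, 0, 0, 0]]),
  (3, ![![0, -1, 0, -1], ![-1, 0, 0, 0], ![1, 1, 1, 1], ![1, 1, 0, 0]]),
  (0, ![![0, -1, 0, 0], ![-1, 0, 0, 0], ![1, 1, 1, 0], ![1, 1, 0, 1]]),
  (1, ![![-1, -1, 0, 0], ![1, 0, 0, 0], ![0, 1, 1, 0], ![0, 1, 0, 1]]),
  (0, ![![-1, 0, 0, 0], ![1, 1, 0, 0], ![0, 0, 1, 0], ![0, 0, 0, 1]])]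

theorem u1OK : ChainOK Am u1L := by decide +kernel

/-- an element commuting with `θ₂` -/
noncomputable def u1 : coxeterD4.Group := coxeterD4.toCoxeterSystem.wordProd (u1L.map Prod.fst)

/-- the matrix -/
def u1M : Mat 4 := ![![0, 0, 0, -1], ![-1, -1, -1, 0], ![1, 2, 1, 1], ![1, 0, 0, 0]]

theorem is_u1 (hp : IsType chevD4 4 coxeterD4) : IsMat hp u1 u1M := by
  have h := isMat_chain hp hA u1OK
  have e : hd u1L = u1M := rfl
  rw [e] at h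
  exact h

/-- the chain of `u2` -/
def u2L : List (Fin 4 × Mat 4) := [
  (1, ![![1, 1, 0, 0], ![0, 0, 1, 0], ![0, -1, -1, 0], ![0, 1, 0, 1]]),
  (2, ![![1, 0, 0, 0], ![0, 1, 1, 0], ![0, 0, -1, 0], ![0, 0, 0, 1]])]

theorem u2OK : ChainOK Am u2L := by decide +kernel

/-- an element commuting with `θ₂` -/
noncomputable def u2 : coxeterD4.Group := coxeterD4.toCoxeterSystem.wordProd (u2L.map Prod.fst)

/-- the matrix -/
def u2M : Mat 4 := ![![1, 1, 0, 0], ![0, 0, 1, 0], ![0, -1, -1, 0], ![0, 1, 0, 1]]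

theorem is_u2 (hp : IsType chevD4 4 coxeterD4) : IsMat hp u2 u2M := by
  have h := isMat_chain hp hA u2OK
  have e : hd u2L = u2M := rfl
  rw [e] at h
  exact h

/-- the chain of `cc` -/
def ccL : List (Fin 4 × Mat 4) := [
  (0, ![![0, 1, 0, 0], ![-1, -1, 0, 0], ![1, 1, 1, 0], ![1, 1, 0, 1]]),
  (1, ![![1, 1, 0, 0], ![0, -1, 0, 0], ![0, 1, 1, 0], ![0, 1, 0, 1]])]

theorem ccOK : ChainOK Am ccL := by decide +kernel

/-- the Coxeter element `s₀ s₁` of the Levi subgroup -/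
noncomputable def cc : coxeterD4.Group := coxeterD4.toCoxeterSystem.wordProd (ccL.map Prod.fst)

/-- the matrix -/
def ccM : Mat 4 := ![![0, 1, 0, 0], ![-1, -1, 0, 0], ![1, 1, 1, 0], ![1, 1, 0, 1]]

theorem is_cc (hp : IsType chevD4 4 coxeterD4) : IsMat hp cc ccM := by
  have h := isMat_chain hp hA ccOK
  have e : hd ccL = ccM := rfl
  rw [e] at h
  exact h

/-- the chain of `ci` -/
def ciL : List (Fin 4 × Mat 4) := [
  (1, ![![-1, -1, 0, 0], ![1, 0, 0, 0], ![0, 1, 1, 0], ![0, 1, 0, 1]]),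
  (0, ![![-1, 0, 0, 0], ![1, 1, 0, 0], ![0, 0, 1, 0], ![0, 0, 0, 1]])]

theorem ciOK : ChainOK Am ciL := by decide +kernel

/-- its inverse -/
noncomputable def ci : coxeterD4.Group := coxeterD4.toCoxeterSystem.wordProd (ciL.map Prod.fst)

/-- the matrix -/
def ciM : Mat 4 := ![![-1, -1, 0, 0], ![1, 0, 0, 0], ![0, 1, 1, 0], ![0, 1, 0, 1]]

theorem is_ci (hp : IsType chevD4 4 coxeterD4) : IsMat hp ci ciM := by
  have h := isMat_chain hp hA ciOK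
  have e : hd ciL = ciM := rfl
  rw [e] at h
  exact h


end Cfsg.Agent.H790.TriData
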