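import Cfsg.Agent.H790.TriV
import Cfsg.Agent.H790.TriData
import Cfsg.Agent.H795.NotAbRows
import Cfsg.Agent.S1067

/-!
# `Full 3` for `³D₄(q)`, `3 ∤ q` (helper790)
-/

set_option autoImplicit false
set_option linter.unusedSectionVars false

namespace Cfsg.Agent.H790.TriMain

open CoxeterSystem Cfsg Cfsg.Lie Cfsg.Lie.ChevalleyDatum
open Cfsg.Agent.ChevalleyStructure Cfsg.Agent.ChevalleyStructure.Elts Cfsg.Agent.ChevalleyStructure.CoxeterGeom
  Cfsg.Agent.ChevalleyStructure.CoxeterGeomTypes Cfsg.Agent.ChevalleyStructure.NPerm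
open Cfsg.Agent.Tits.Roots Cfsg.Agent.Tits.Core Cfsg.Agent.Nodes Cfsg.Agent.Nodes.Reps Cfsg.Agent.Nodes.BNOf
  Cfsg.Agent.Nodes.RGDChev Cfsg.Agent.Nodes.Bruhat
open Cfsg.Agent.KFacts.RgdField Cfsg.Agent.KFacts.RgdChevCoord Cfsg.Agent.BpExc.TorCent Cfsg.Agent.BpExc.TorChev
open Cfsg.Agent.GpExc.Field Cfsg.Agent.BpExc.Tow Cfsg.Agent.BpExc.TowChev Cfsg.Agent.BpExc.Fr
  Cfsg.Agent.BpExc.LangFr Cfsg.Agent.H129.TorusChar Cfsg.Agent.H129.TorusMain Cfsg.Agent.H123.ExcZ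
open Cfsg.Agent.BpExc Cfsg.Agent.H795.LangT Cfsg.Agent.H795.Core Cfsg.Agent.H129.WData
  Cfsg.Agent.H795.NotAbT Cfsg.Agent.H795.NotAbCert Cfsg.Agent.H790.TwFix Cfsg.Agent.H629.ExcTor Cfsg.Agent.H790.TriV
  Cfsg.Agent.H790.TriData Cfsg.Agent.H790.TwLevi Cfsg.Agent.H629.ExcLevi Cfsg.Agent.H790.TriCrit
  Cfsg.Agent.TitsThree.KExcRT Cfsg.Agent.H629

universe u v

/-- the matrix of `g'` -/
def gpM : Mat 4 := ![![1, 0, 0, 0], ![0, 1, 0, 0], ![-1, -2, -1, -1], ![0, 0, 1, 0]]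

/-- the matrix of `g''` -/
def g2M : Mat 4 := ![![0, 1, 1, 1], ![0, -1, -1, 0], ![0, 1, 0, 0], ![-1, -1, 0, -1]]

/-- the matrix of the triality -/
def triM : Mat 4 := ![![0, 0, 1, 0], ![0, 1, 0, 0], ![0, 0, 0, 1], ![1, 0, 0, 0]]

theorem cert_p : VCert 4 triM vpM g2M u1M u2M ![1, 1, 1, 2] ![2, 0, 0, 2] 1 := by decide +kernel

theorem cert_n : VCert 4 triM vnM (fun j m => -g2M j m) u1M u2M ![1, 1, 1, 2] ![2, 0, 0, 2] (-1) := by decide +kernel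

/-! ### the table -/

/-- the roots -/
def rtD : Fin 3 → Fin 3 → ℕ := ![![0, 18, 19], ![5, 0, 14], ![4, 9, 0]]
/-- the signs -/
def sD : Fin 3 → Fin 3 → ℤ := ![![1, 1, -1], ![1, 1, 1], ![-1, 1, 1]]
/-- the nodes -/
def cD : ℕ → Fin 4 := fun i => if i = 0 then 0 else 1

theorem ltab : LTab chevD4 3 4 rtD sD cD where
  ta := by decide +kernel
  tb := by decide +kernel
  tc := by decide +kernel
  td := by decide +kernel
  te := by decide +kernel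
  tf := by decide +kernel

theorem cop : IsCoprime (∑ j ∈ Finset.range (3 - 1), ((j : ℤ) + 1) * cartanOf chevD4 4 (cD j) 2) ((3 : ℕ) : ℤ) := by
  have h : (∑ j ∈ Finset.range (3 - 1), ((j : ℤ) + 1) * cartanOf chevD4 4 (cD j) 2) = -2 := by decide +kernel
  rw [h]
  exact ⟨1, 1, by norm_num⟩

theorem pair_eq (i : Fin 4) (x : Fin 4 → ℤ) : pairing (cartanOf chevD4 4) i x = ∑ n, Am i n * x n := by
  unfold pairing
  exact Finset.sum_congr rfl fun n _ => by rw [← hA]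

theorem chk_pair : ∀ j : Fin 2, ∀ i : Fin 4, ∑ n, Am (cD j) n * gpM i n = Am (cD j) i := by decide +kernel

theorem chk_root : ∀ i j : Fin 3, i ≠ j → ∀ m, ∑ n, vec chevD4 4 (rtD i j) n * gpM n m = vec chevD4 4 (rtD i j) m := by
  decide +kernel

theorem chk_kernel : ∀ a b : Fin 24, (3 : ℤ) ∣ ∑ n, Am 1 n * vec chevD4 4 a n → (3 : ℤ) ∣ ∑ n, Am 1 n * vec chevD4 4 b n →
    ∀ c : Fin 24, ¬ ∀ i, vec chevD4 4 a i + vec chevD4 4 b i = vec chevD4 4 c i := by decide +kernel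

/-! ### arithmetic in the field -/

section Arith

variable {k : Type u} [Field k]

/-- the exponent `1 + Q + Q ^ 2` on a `3`-element -/
theorem cube_of {a : k} (ha : a ≠ 0) {Q : ℤ} (hQ : (3 : ℤ) ∣ Q - 1) (h : a ^ (1 + Q + Q ^ 2) = 1) {N : ℕ}
    (hN : a ^ 3 ^ N = 1) : a ^ 3 = 1 := by
  obtain ⟨b, hb⟩ := hQ
  have hQb : Q = 1 + 3 * b := by linarith
  have hco : IsCoprime (1 + 3 * (b + b ^ 2)) ((3 : ℤ) ^ N) :=
    IsCoprime.pow_right ⟨1, -(b + b ^ 2), by ring⟩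
  obtain ⟨u, v, huv⟩ := hco
  have e1 : (1 + Q + Q ^ 2) = 3 * (1 + 3 * (b + b ^ 2)) := by rw [hQb]; ring
  rw [e1] at h
  have e2 : (3 : ℤ) = (3 * (1 + 3 * (b + b ^ 2))) * u + (3 ^ N) * (3 * v) := by linear_combination (-3) * huv
  have e3 : a ^ (3 : ℤ) = 1 := by
    rw [e2, zpow_add₀ ha, zpow_mul, h, one_zpow, one_mul, zpow_mul]
    have : a ^ ((3 : ℤ) ^ N) = 1 := by
      have h1 : ((3 : ℤ) ^ N) = ((3 ^ N : ℕ) : ℤ) := by push_cast; rfl
      rw [h1, zpow_natCast, hN]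
    rw [this, one_zpow]
  exact_mod_cast e3

theorem zpow_eq_self {a : k} (ha : a ≠ 0) {Q : ℤ} (hQ : (3 : ℤ) ∣ Q - 1) (h : a ^ 3 = 1) : a ^ Q = a := by
  obtain ⟨b, hb⟩ := hQ
  have hQb : Q = 3 * b + 1 := by linarith
  rw [hQb, zpow_add₀ ha, zpow_mul]
  have : a ^ (3 : ℤ) = 1 := by exact_mod_cast h
  rw [this, one_zpow, one_mul, zpow_one]

end Arith

section Main

variable {k : Type u} [Field k] [IsAlgClosed k] {r e : ℕ} [Fact r.Prime] [CharP k r] (hk : LocFin k)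
  (hp : IsType chevD4 4 coxeterD4)
  {τ : MulAut ↥(chevD4.group k)} {θ : (Fin 4 → ℤ) ≃+ (Fin 4 → ℤ)} (hτ : IsFrob r e τ)
  (F : Fr coxeterD4.toCoxeterSystem hp.isCartan (TT chevD4 k) (XX chevD4 4 k) τ θ)
  {sg : ℤ} (hsg : sg = 1 ∨ sg = -1) (hTh : ∀ j, θ (sr j) = fun m => sg * gpM j m)
  (hq : (3 : ℤ) ∣ sg * ((r ^ e : ℕ) : ℤ) - 1)

theorem theta_apply' {θ : (Fin 4 → ℤ) ≃+ (Fin 4 → ℤ)} {sg : ℤ} (hTh : ∀ j, θ (sr j) = fun m => sg * gpM j m)
    (x : Fin 4 → ℤ) (m : Fin 4) : θ x m = sg * ∑ n, x n * gpM n m := by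
  have h := apply_of_sr (f := θ.toAddMonoidHom) (U := fun j m => sg * gpM j m) hTh x m
  have h' : θ x m = ∑ n, x n * (sg * gpM n m) := h
  rw [h', Finset.mul_sum]
  exact Finset.sum_congr rfl fun n _ => by ring

include hτ F hsg hTh in
theorem lfr : LFr (k := k) coxeterD4.toCoxeterSystem hp 3 rtD cD r e τ θ sg where
  frob := hτ
  fr := F
  pair := by
    intro j hj x
    let f : (Fin 4 → ℤ) →+ ℤ :=
      { toFun := fun x => pairing (cartanOf chevD4 4) (cD j) (θ x)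
        map_zero' := by rw [map_zero]; simp [pairing]
        map_add' := fun x y => by rw [map_add, pair_eq, pair_eq, pair_eq, ← Finset.sum_add_distrib]; exact
                      Finset.sum_congr rfl fun n _ => by rw [Pi.add_apply, mul_add] }
    let f' : (Fin 4 → ℤ) →+ ℤ :=
      { toFun := fun x => sg * pairing (cartanOf chevD4 4) (cD j) x
        map_zero' := by simp [pairing]
        map_add' := fun x y => by
          rw [pair_eq, pair_eq, pair_eq, ← mul_add, ← Finset.sum_add_distrib]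
          congr 1
          exact Finset.sum_congr rfl fun n _ => by rw [Pi.add_apply, mul_add] }
    refine addHom_ext (f := f) (f' := f') (fun i => ?_) x
    show pairing (cartanOf chevD4 4) (cD j) (θ (sr i)) = sg * pairing (cartanOf chevD4 4) (cD j) (sr i)
    rw [hTh, pair_eq, pairing_sr hp, ← hA, ← chk_pair ⟨j, by omega⟩ i, Finset.mul_sum]
    exact Finset.sum_congr rfl fun n _ => by ring
  root := by
    intro i j hij
    funext m
    rw [theta_apply' hTh, chk_root i j hij m, Pi.smul_apply, smul_eq_mul]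
  sgn := hsg

/-- the relations between the characters of a fixed torus element -/
theorem rel {t : ↥(chevD4.group k)} (ht : t ∈ TT chevD4 k)
    (hfix : ∀ x, cX hp t (θ x) = cX hp t x ^ r ^ e) (hsg : sg = 1 ∨ sg = -1)
    (hTh : ∀ j, θ (sr j) = fun m => sg * gpM j m) (j : Fin 4) :
    ∏ i, cX hp t (sr i) ^ gpM j i = cX hp t (sr j) ^ (sg * ((r ^ e : ℕ) : ℤ)) := by
  have h1 := hfix (sr j)
  have hmc := isMC_cX hp ht
  rw [hTh, hmc.eq_prod] at h1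
  have h2 : (∏ i, cX hp t (sr i) ^ gpM j i) ^ sg = cX hp t (sr j) ^ r ^ e := by
    rw [← h1, ← Finset.prod_zpow]
    exact Finset.prod_congr rfl fun i _ => by rw [← zpow_mul, mul_comm]
  have h3 : sg * sg = 1 := by rcases hsg with h | h <;> rw [h] <;> norm_num
  calc ∏ i, cX hp t (sr i) ^ gpM j i = ((∏ i, cX hp t (sr i) ^ gpM j i) ^ sg) ^ sg := by
        rw [← zpow_mul, h3, zpow_one]
    _ = (cX hp t (sr j) ^ r ^ e) ^ sg := by rw [h2]
    _ = _ := by rw [← zpow_natCast, ← zpow_mul, mul_comm sg]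

end Main

/-! ### the `p`-part of the fixed torus -/

section TorP

variable {D : ChevalleyDatum} {l : ℕ} {M : CoxeterMatrix (Fin l)} {k : Type u} [Field k]

/-- the `p`-elements of the fixed torus -/
def TG (hp : IsType D l M) (τ : MulAut ↥(D.group k)) (p : ℕ) : Subgroup ↥(fixS τ) where
  carrier := {u | (u : ↥(D.group k)) ∈ TT D k ∧ ∃ i : ℕ, u ^ p ^ i = 1}
  one_mem' := ⟨one_mem _, 0, one_pow _⟩
  mul_mem' := by
    rintro a b ⟨ha, i, hi⟩ ⟨hb, j, hj⟩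
    have hab : a * b = b * a := Subtype.ext (TT_comm hp _ ha _ hb)
    refine ⟨mul_mem ha hb, i + j, ?_⟩
    rw [(show Commute a b from hab).mul_pow, pow_add, pow_mul, hi, one_pow, one_mul, mul_comm, pow_mul, hj, one_pow]
  inv_mem' := by
    rintro a ⟨ha, i, hi⟩
    exact ⟨inv_mem ha, i, by rw [inv_pow, hi, inv_one]⟩

theorem mem_TG {hp : IsType D l M} {τ : MulAut ↥(D.group k)} {p : ℕ} {u : ↥(fixS τ)} :
    u ∈ TG hp τ p ↔ (u : ↥(D.group k)) ∈ TT D k ∧ ∃ i : ℕ, u ^ p ^ i = 1 := Iff.rfl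

theorem exp_TG {hp : IsType D l M} {τ : MulAut ↥(D.group k)} {p : ℕ} [hpp : Fact p.Prime] [Finite ↥(fixS τ)] :
    ∃ N : ℕ, ∀ t ∈ TG hp τ p, t ^ p ^ N = 1 := by
  refine ⟨Nat.card ↥(fixS τ), fun t ht => ?_⟩
  obtain ⟨-, i, hi⟩ := ht
  obtain ⟨j, -, hj⟩ := (Nat.dvd_prime_pow hpp.out).1 (orderOf_dvd_of_pow_eq_one hi)
  have h1 : orderOf t ≤ Nat.card ↥(fixS τ) := Nat.le_of_dvd Nat.card_pos (orderOf_dvd_natCard t)
  have h2 : j ≤ Nat.card ↥(fixS τ) := by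
    rw [hj] at h1
    exact (Nat.lt_pow_self hpp.out.one_lt).le.trans h1
  apply orderOf_dvd_iff_pow_eq_one.1
  rw [hj]
  exact Nat.pow_dvd_pow p h2

end TorP

section Final

variable {k : Type u} [Field k] [IsAlgClosed k] {r e : ℕ} [Fact r.Prime] [CharP k r] (hk : LocFin k)
  (hp : IsType chevD4 4 coxeterD4)
  {τ : MulAut ↥(chevD4.group k)} {θ : (Fin 4 → ℤ) ≃+ (Fin 4 → ℤ)} (hτ : IsFrob r e τ)
  (F : Fr coxeterD4.toCoxeterSystem hp.isCartan (TT chevD4 k) (XX chevD4 4 k) τ θ)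
  {sg : ℤ} (hsg : sg = 1 ∨ sg = -1) (hTh : ∀ j, θ (sr j) = fun m => sg * gpM j m)

theorem cw_eq : cw coxeterD4.toCoxeterSystem cD (3 - 1) = cc := by
  unfold cw cc ccL CoxeterSystem.wordProd
  simp [cD, List.range_succ]

include hτ F hsg hTh in
/-- elements of the torus with given exponents -/
theorem mk_T {c : ℕ} {ζ : k} (hζ : ζ ^ 3 ^ c = 1) {Q : ℤ} (hQ : Q = sg * ((r ^ e : ℕ) : ℤ)) (m0 m1 m2 m3 : ℤ)
    (h0 : ((3 ^ c : ℕ) : ℤ) ∣ (Q - 1) * m0) (h1 : ((3 ^ c : ℕ) : ℤ) ∣ (Q - 1) * m1)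
    (h2 : ((3 ^ c : ℕ) : ℤ) ∣ m0 + 2 * m1 + m2 + m3 + Q * m2) (h3 : ((3 ^ c : ℕ) : ℤ) ∣ m2 - Q * m3) :
    ∃ t ∈ TG hp τ 3, ∀ x, cX hp (t : ↥(chevD4.group k)) x = ζ ^ (x 0 * m0 + x 1 * m1 + x 2 * m2 + x 3 * m3) := by
  have hs2 : sg * sg = 1 := by rcases hsg with h | h <;> rw [h] <;> norm_num
  have hqQ : ((r ^ e : ℕ) : ℤ) = sg * Q := by rw [hQ, ← mul_assoc, hs2, one_mul]
  have hB : InvC chevD4 4 2 ![![2, 2, 1, 1], ![2, 4, 2, 2], ![1, 2, 2, 1], ![1, 2, 1, 2]] := invC_D4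
  obtain ⟨t, ht, hct, hτt⟩ := exists_tor_exp hp hτ F hB two_ne_zero hζ (pow_ne_zero c three_ne_zero)
    ![m0, m1, m2, m3] (Th := fun j m => sg * gpM j m) hTh (by
      intro j
      rw [hqQ, Fin.sum_univ_four]
      fin_cases j
      · obtain ⟨w, hw⟩ := h0
        push_cast at hw
        refine ⟨-sg * w, ?_⟩
        simp [gpM]
        linear_combination (-sg) * hw
      · obtain ⟨w, hw⟩ := h1
        push_cast at hw
        refine ⟨-sg * w, ?_⟩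
        simp [gpM]
        linear_combination (-sg) * hw
      · obtain ⟨w, hw⟩ := h2
        push_cast at hw
        refine ⟨-sg * w, ?_⟩
        simp [gpM]
        linear_combination (-sg) * hw
      · obtain ⟨w, hw⟩ := h3
        push_cast at hw
        refine ⟨sg * w, ?_⟩
        simp [gpM]
        linear_combination sg * hw)
  have hc : ∀ x, cX hp t x = ζ ^ (x 0 * m0 + x 1 * m1 + x 2 * m2 + x 3 * m3) := by
    intro x
    rw [hct, Fin.sum_univ_four]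
    rfl
  refine ⟨⟨t, hτt⟩, ⟨ht, c, Subtype.ext ?_⟩, hc⟩
  show t ^ 3 ^ c = 1
  refine cX_inj hp (pow_mem ht _) (one_mem _) fun i => ?_
  rw [cX_pow hp ht, hc, cX_one, ← zpow_natCast, ← zpow_mul, mul_comm, zpow_mul, zpow_natCast, hζ, one_zpow]

include hk hτ F hsg hTh in
/-- **The hypotheses of the criterion.** -/
theorem triHyp [Finite ↥(fixS τ)] (h3r : 3 ≠ r) {a : ℕ} (ha : 0 < a)
    (hq : ((3 ^ a : ℕ) : ℤ) ∣ sg * ((r ^ e : ℕ) : ℤ) - 1) (hQ1 : sg * ((r ^ e : ℕ) : ℤ) ≠ 1) (hVP : VP ↥(fixS τ)) :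
    ∃ x0 t0 z : ↥(fixS τ), TriHyp (TG hp τ 3) x0 t0 z ∧ 3 ^ (2 * a + 1) ≤ Nat.card (TG hp τ 3) := by
  have h3 : Fact (Nat.Prime 3) := ⟨Nat.prime_three⟩
  obtain ⟨Q, hQdef⟩ : ∃ Q, Q = sg * ((r ^ e : ℕ) : ℤ) := ⟨_, rfl⟩
  rw [← hQdef] at hq hQ1
  have hq3 : (3 : ℤ) ∣ Q - 1 := (dvd_pow_self 3 ha.ne').natCast.trans hq |> fun h => by exact_mod_cast h
  have hs2 : sg * sg = 1 := by rcases hsg with h | h <;> rw [h] <;> norm_num
  have hqQ : ((r ^ e : ℕ) : ℤ) = sg * Q := by rw [hQdef, ← mul_assoc, hs2, one_mul]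
  obtain ⟨b, hb⟩ := hq3
  have hQb : Q = 3 * b + 1 := by linarith
  -- roots of unity
  have h3k : ((3 : ℕ) : k) ≠ 0 := by
    rw [Ne, CharP.cast_eq_zero_iff k r]
    intro h
    exact h3r ((Nat.prime_dvd_prime_iff_eq Fact.out Nat.prime_three).1 h).symm
  have hroot : ∀ c : ℕ, ∃ ζ : k, IsPrimitiveRoot ζ (3 ^ c) := fun c => by
    have : NeZero ((3 ^ c : ℕ) : k) := ⟨by push_cast; exact pow_ne_zero _ (by exact_mod_cast h3k)⟩
    exact HasEnoughRootsOfUnity.exists_primitiveRoot k (3 ^ c)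
  obtain ⟨v, hv⟩ := hroot 2
  have hω : IsPrimitiveRoot (v ^ 3) 3 := hv.pow (by norm_num) (by norm_num)
  have hv9 : v ^ 3 ^ 2 = 1 := hv.pow_eq_one
  have hv0 : v ≠ 0 := hv.ne_zero (by norm_num)
  obtain ⟨ω, hωdef⟩ : ∃ ω, ω = v ^ 3 := ⟨_, rfl⟩
  rw [← hωdef] at hω
  have hω3 : ω ^ 3 = 1 := hω.pow_eq_one
  have hω0 : ω ≠ 0 := hω.ne_zero (by norm_num)
  have hω31 : ω ^ 3 ^ 1 = 1 := by rw [pow_one]; exact hω3
  -- `x0`
  have L := lfr hp hτ F hsg hTh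
  obtain ⟨x0, y, t0, hx0', hτx0, hx03, hτy, hconj, ht0, ht03, hct0'⟩ :=
    exists_x0 (hN := nsysT hp hk r) ltab le_rfl (by decide) cop L (by rw [← hQdef]; exact hQ1)
      (by rw [← hQdef]; exact ⟨b, hb⟩) hω
  have hx0 : Rp coxeterD4.toCoxeterSystem (tow hp coxeterD4.toCoxeterSystem hk r).nsys cc x0 := by
    rw [cw_eq] at hx0'
    exact rp_cast (TL_eq hp hk).symm hx0'
  have hAm : Am 1 0 = -1 ∧ Am 1 1 = 2 ∧ Am 1 2 = -1 ∧ Am 1 3 = -1 := by decide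
  have hAm' : ∀ x : Fin 4 → ℤ, ∑ n, Am 1 n * x n = -x 0 + 2 * x 1 - x 2 - x 3 := by
    intro x
    rw [Fin.sum_univ_four, hAm.1, hAm.2.1, hAm.2.2.1, hAm.2.2.2]
    ring
  have hct0 : ∀ x, cX hp t0 x = ω ^ (-x 0 + 2 * x 1 - x 2 - x 3) := by
    intro x
    rw [hct0', ← hAm', ← pair_eq]
    congr 1
    simp [Finset.sum_range_succ, cD]
  -- `z`
  obtain ⟨z, hz, hcz⟩ := mk_T hp hτ F hsg hTh hω31 hQdef 0 0 1 1 (by simp) (by simp)
    ⟨b + 1, by rw [hQb]; push_cast; ring⟩ ⟨-b, by rw [hQb]; push_cast; ring⟩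
  obtain ⟨s, hs, hcs⟩ := mk_T hp hτ F hsg hTh hv9 hQdef 3 (-3) Q 1 ⟨b, by rw [hQb]; push_cast; ring⟩
    ⟨-b, by rw [hQb]; push_cast; ring⟩ ⟨b * (b + 1), by rw [hQb]; push_cast; ring⟩ (by simp)
  have hcc : ∀ x, rep coxeterD4.toCoxeterSystem hp.isCartan cc x =
      ![-x 1 + x 2 + x 3, x 0 - x 1 + x 2 + x 3, x 2, x 3] := by
    intro x
    funext m
    rw [(is_cc hp).apply, Fin.sum_univ_four]
    fin_cases m <;> simp [ccM] <;> ring
  have hsr : ∀ (t : ↥(chevD4.group k)), t ∈ TT chevD4 k → ∀ x, cX hp t x =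
      cX hp t (sr 0) ^ x 0 * cX hp t (sr 1) ^ x 1 * cX hp t (sr 2) ^ x 2 * cX hp t (sr 3) ^ x 3 := by
    intro t ht x
    rw [(isMC_cX hp ht).eq_prod x, Fin.prod_univ_four]
  have hne : ∀ (t : ↥(chevD4.group k)), t ∈ TT chevD4 k → ∀ x, cX hp t x ≠ 0 := fun t ht x =>
    (isMC_cX hp ht).ne_zero x
  have hrel : ∀ t : ↥(fixS τ), t ∈ TG hp τ 3 →
      cX hp (t : ↥(chevD4.group k)) (sr 2) = cX hp (t : ↥(chevD4.group k)) (sr 3) ^ Q ∧
      cX hp (t : ↥(chevD4.group k)) (sr 0) ^ (-1 : ℤ) * cX hp (t : ↥(chevD4.group k)) (sr 1) ^ (-2 : ℤ) *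
        cX hp (t : ↥(chevD4.group k)) (sr 2) ^ (-1 : ℤ) * cX hp (t : ↥(chevD4.group k)) (sr 3) ^ (-1 : ℤ) =
        cX hp (t : ↥(chevD4.group k)) (sr 2) ^ Q := by
    intro t ht
    have h1 := rel (e := e) (r := r) hp ht.1 (cX_of_fix hp hτ F ht.1 t.2) hsg hTh
    rw [← hQdef] at h1
    have h2 := h1 3
    have h3 := h1 2
    rw [Fin.prod_univ_four] at h2 h3
    have e1 : gpM 3 0 = 0 ∧ gpM 3 1 = 0 ∧ gpM 3 2 = 1 ∧ gpM 3 3 = 0 := by decide
    have e2 : gpM 2 0 = -1 ∧ gpM 2 1 = -2 ∧ gpM 2 2 = -1 ∧ gpM 2 3 = -1 := by decide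
    rw [e1.1, e1.2.1, e1.2.2.1, e1.2.2.2] at h2
    rw [e2.1, e2.2.1, e2.2.2.1, e2.2.2.2] at h3
    refine ⟨?_, h3⟩
    rw [← h2]; simp
  have hzpow : ∀ a : k, a ≠ 0 → a ^ 3 = 1 → a ^ Q = a := fun a ha h => zpow_eq_self ha ⟨b, hb⟩ h
  have hcz' : cX hp (z : ↥(chevD4.group k)) (sr 0) = 1 ∧ cX hp (z : ↥(chevD4.group k)) (sr 1) = 1 ∧
      cX hp (z : ↥(chevD4.group k)) (sr 2) = ω ∧ cX hp (z : ↥(chevD4.group k)) (sr 3) = ω := by
    refine ⟨?_, ?_, ?_, ?_⟩ <;> rw [hcz] <;> simp [sr_apply']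
  have hω1 : ω ≠ 1 := hω.ne_one (by norm_num)
  have hz3 : z ^ 3 = 1 := by
    apply Subtype.ext
    show (z : ↥(chevD4.group k)) ^ 3 = 1
    refine cX_inj hp (pow_mem hz.1 _) (one_mem _) fun i => ?_
    rw [cX_pow hp hz.1, cX_one, hcz, ← zpow_natCast, ← zpow_mul, mul_comm, zpow_mul]
    have : ω ^ ((3 : ℕ) : ℤ) = 1 := by exact_mod_cast hω3
    rw [this, one_zpow]
  refine ⟨⟨x0, hτx0⟩, ⟨t0, ?_⟩, z, ?_, ?_⟩
  · show τ t0 = t0
    rw [← hconj, map_mul, map_mul, map_inv, hτy, hτx0]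
  · constructor
    · intro a ha b hb
      exact Subtype.ext (TT_comm hp _ ha.1 _ hb.1)
    · exact exp_TG
    · rintro t ⟨ht, i, hi⟩
      refine ⟨rp_conj_mem hp hk hx0 ht, i, ?_⟩
      rw [conj_pow, hi, mul_one, mul_inv_cancel]
    · exact Subtype.ext hx03
    · exact hz
    · intro h
      apply hω1
      rw [← hcz'.2.2.1, h]
      exact cX_one hp _
    · apply Subtype.ext
      have h1 := conj_tor hp hk hx0 hz.1 hz.1 fun x => by rw [hcz, hcz, hcc]; simp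
      show x0 * (z : ↥(chevD4.group k)) = z * x0
      rw [← mul_inv_eq_iff_eq_mul]; exact h1
    · -- cent
      intro t ht htx
      have hx : x0 * (t : ↥(chevD4.group k)) * x0⁻¹ = t := by
        have h1 : x0 * (t : ↥(chevD4.group k)) = t * x0 := congrArg Subtype.val htx
        rw [h1]; group
      have h1 : ∀ x, cX hp (t : ↥(chevD4.group k)) (rep coxeterD4.toCoxeterSystem hp.isCartan cc x) =
          cX hp (t : ↥(chevD4.group k)) x := by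
        intro x
        have := cX_rp' hp hk hx0 ht.1 x
        rwa [hx] at this
      obtain ⟨h2, h3⟩ := hrel t ht
      have n0 := hne _ ht.1 (sr 0)
      have n1 := hne _ ht.1 (sr 1)
      have n2 := hne _ ht.1 (sr 2)
      have n3 := hne _ ht.1 (sr 3)
      have g0 := h1 (sr 0)
      have g1 := h1 (sr 1)
      have g2 := h1 (sr 2)
      rw [hcc, hsr _ ht.1 ![_, _, _, _]] at g0 g1 g2
      simp only [sr_apply', Matrix.cons_val_zero, Matrix.cons_val_one, Matrix.cons_val_two, Matrix.cons_val_three,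
        Matrix.tail_cons, Matrix.head_cons] at g0 g1 g2
      simp at g0 g1 g2
      have k1 : cX hp (t : ↥(chevD4.group k)) (sr 0) * cX hp (t : ↥(chevD4.group k)) (sr 1) = 1 := by
        refine mul_right_cancel₀ n2 ?_
        rw [one_mul]; exact g2
      have k2 : cX hp (t : ↥(chevD4.group k)) (sr 1) = 1 := by rw [← g1, ← mul_inv, k1, inv_one]
      have k3 : cX hp (t : ↥(chevD4.group k)) (sr 0) = 1 := by rw [← g0]; exact k2
      rw [k2, k3] at h3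
      simp at h3
      have k4 : cX hp (t : ↥(chevD4.group k)) (sr 3) ^ (1 + Q + Q ^ 2) = 1 := by
        rw [zpow_add₀ n3, zpow_add₀ n3, zpow_one, ← h2, pow_two, zpow_mul, ← h2, ← h3]
        field_simp
      obtain ⟨N, hN⟩ := ht.2
      have hN' : cX hp (t : ↥(chevD4.group k)) (sr 3) ^ 3 ^ N = 1 := by
        rw [← cX_pow hp ht.1]
        have : (t : ↥(chevD4.group k)) ^ 3 ^ N = 1 := congrArg Subtype.val hN
        rw [this, cX_one]
      have k5 := cube_of n3 ⟨b, hb⟩ k4 hN'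
      have k6 : cX hp (t : ↥(chevD4.group k)) (sr 2) = cX hp (t : ↥(chevD4.group k)) (sr 3) := by
        rw [h2]; exact hzpow _ n3 k5
      obtain ⟨i, hi, hi'⟩ := hω.eq_pow_of_pow_eq_one k5
      have k7 : t = z ^ i := by
        apply Subtype.ext
        show (t : ↥(chevD4.group k)) = (z : ↥(chevD4.group k)) ^ i
        refine cX_inj hp ht.1 (pow_mem hz.1 i) fun j => ?_
        rw [cX_pow hp hz.1]
        fin_cases j
        · show cX hp (t : ↥(chevD4.group k)) (sr 0) = cX hp (z : ↥(chevD4.group k)) (sr 0) ^ i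
          rw [k3, hcz'.1, one_pow]
        · show cX hp (t : ↥(chevD4.group k)) (sr 1) = cX hp (z : ↥(chevD4.group k)) (sr 1) ^ i
          rw [k2, hcz'.2.1, one_pow]
        · show cX hp (t : ↥(chevD4.group k)) (sr 2) = cX hp (z : ↥(chevD4.group k)) (sr 2) ^ i
          rw [k6, hcz'.2.2.1, hi']
        · show cX hp (t : ↥(chevD4.group k)) (sr 3) = cX hp (z : ↥(chevD4.group k)) (sr 3) ^ i
          rw [hcz'.2.2.2, hi']
      rw [k7]
      interval_cases i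
      · left; exact pow_zero z
      · right; left; exact pow_one z
      · right; right
        rw [eq_inv_iff_mul_eq_one, ← pow_succ, hz3]
    · -- t0E
      refine ⟨s, hs, Subtype.ext ?_⟩
      show x0 * (s : ↥(chevD4.group k)) * x0⁻¹ * (s : ↥(chevD4.group k))⁻¹ = t0
      rw [mul_inv_eq_iff_eq_mul]
      refine conj_tor hp hk hx0 hs.1 (mul_mem ht0 hs.1) fun x => ?_
      rw [cX_mul hp ht0 hs.1, hct0, hcs, hcs, hωdef, ← zpow_natCast, ← zpow_mul, ← zpow_add₀ hv0, hcc]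
      congr 1
      simp
      ring
    · -- t0ne
      intro h
      have h1 : t0 = 1 := congrArg Subtype.val h
      have h2 := hct0 (sr 1)
      rw [h1, cX_one] at h2
      have h3 : -(sr 1 : Fin 4 → ℤ) 0 + 2 * (sr 1 : Fin 4 → ℤ) 1 - (sr 1 : Fin 4 → ℤ) 2 - (sr 1 : Fin 4 → ℤ) 3 = 2 := by
        simp [sr_apply']
      rw [h3, eq_comm] at h2
      have h4 : ω ^ 2 = 1 := by exact_mod_cast h2
      have h5 := (hω.pow_eq_one_iff_dvd 2).1 h4
      omega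
    · -- omega
      have hlog : ∀ t : {t : ↥(TG hp τ 3) // t ^ 3 = 1}, ∃ p : Fin 3 × Fin 3,
          ω ^ (p.1 : ℕ) = cX hp ((t.1 : ↥(fixS τ)) : ↥(chevD4.group k)) (sr 1) ∧
          ω ^ (p.2 : ℕ) = cX hp ((t.1 : ↥(fixS τ)) : ↥(chevD4.group k)) (sr 3) := by
        rintro ⟨⟨t, ht⟩, h3⟩
        have h4 : (t : ↥(chevD4.group k)) ^ 3 = 1 := congrArg (fun x : ↥(TG hp τ 3) => ((x : ↥(fixS τ)) :
          ↥(chevD4.group k))) h3
        have h5 : ∀ x, cX hp (t : ↥(chevD4.group k)) x ^ 3 = 1 := fun x => by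
          rw [← cX_pow hp ht.1, h4, cX_one]
        obtain ⟨i, hi, hi'⟩ := hω.eq_pow_of_pow_eq_one (h5 (sr 1))
        obtain ⟨j, hj, hj'⟩ := hω.eq_pow_of_pow_eq_one (h5 (sr 3))
        exact ⟨(⟨i, hi⟩, ⟨j, hj⟩), hi', hj'⟩
      choose f hf1 hf2 using hlog
      have hinj : Function.Injective f := by
        intro t t' htt
        have h1 : cX hp ((t.1 : ↥(fixS τ)) : ↥(chevD4.group k)) (sr 1) =
            cX hp ((t'.1 : ↥(fixS τ)) : ↥(chevD4.group k)) (sr 1) := by rw [← hf1, ← hf1, htt]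
        have h3 : cX hp ((t.1 : ↥(fixS τ)) : ↥(chevD4.group k)) (sr 3) =
            cX hp ((t'.1 : ↥(fixS τ)) : ↥(chevD4.group k)) (sr 3) := by rw [← hf2, ← hf2, htt]
        have hdet : ∀ t : {t : ↥(TG hp τ 3) // t ^ 3 = 1},
            cX hp ((t.1 : ↥(fixS τ)) : ↥(chevD4.group k)) (sr 2) =
              cX hp ((t.1 : ↥(fixS τ)) : ↥(chevD4.group k)) (sr 3) ∧
            cX hp ((t.1 : ↥(fixS τ)) : ↥(chevD4.group k)) (sr 0) =
              cX hp ((t.1 : ↥(fixS τ)) : ↥(chevD4.group k)) (sr 1) := by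
          rintro ⟨⟨t, ht⟩, h3⟩
          have h4 : (t : ↥(chevD4.group k)) ^ 3 = 1 := congrArg (fun x : ↥(TG hp τ 3) => ((x : ↥(fixS τ)) :
            ↥(chevD4.group k))) h3
          have h5 : ∀ x, cX hp (t : ↥(chevD4.group k)) x ^ 3 = 1 := fun x => by
            rw [← cX_pow hp ht.1, h4, cX_one]
          obtain ⟨r1, r2⟩ := hrel t ht
          have n0 := hne _ ht.1 (sr 0)
          have n1 := hne _ ht.1 (sr 1)
          have n2 := hne _ ht.1 (sr 2)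
          have n3 := hne _ ht.1 (sr 3)
          have s2 : cX hp (t : ↥(chevD4.group k)) (sr 2) = cX hp (t : ↥(chevD4.group k)) (sr 3) := by
            rw [r1]; exact hzpow _ n3 (h5 _)
          refine ⟨s2, ?_⟩
          rw [hzpow _ n2 (h5 _), s2] at r2
          have h6 := h5 (sr 1)
          have h7 := h5 (sr 3)
          show cX hp (t : ↥(chevD4.group k)) (sr 0) = cX hp (t : ↥(chevD4.group k)) (sr 1)
          have e2 : cX hp (t : ↥(chevD4.group k)) (sr 1) ^ (-2 : ℤ) = cX hp (t : ↥(chevD4.group k)) (sr 1) := by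
            have : cX hp (t : ↥(chevD4.group k)) (sr 1) ^ (-2 : ℤ) =
                cX hp (t : ↥(chevD4.group k)) (sr 1) ^ (-2 : ℤ) * cX hp (t : ↥(chevD4.group k)) (sr 1) ^ 3 := by
              rw [h6, mul_one]
            rw [this, ← zpow_natCast, ← zpow_add₀ n1]
            norm_num
          rw [e2, zpow_neg_one, zpow_neg_one] at r2
          field_simp at r2
          rw [h7, mul_one] at r2
          exact r2.symm
        obtain ⟨d1, d2⟩ := hdet t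
        obtain ⟨d1', d2'⟩ := hdet t'
        refine Subtype.ext (Subtype.ext (Subtype.ext (cX_inj hp t.1.2.1 t'.1.2.1 fun j => ?_)))
        fin_cases j
        · show cX hp ((t.1 : ↥(fixS τ)) : ↥(chevD4.group k)) (sr 0) = cX hp ((t'.1 : ↥(fixS τ)) : ↥(chevD4.group k)) (sr 0)
          rw [d2, d2', h1]
        · exact h1
        · show cX hp ((t.1 : ↥(fixS τ)) : ↥(chevD4.group k)) (sr 2) = cX hp ((t'.1 : ↥(fixS τ)) : ↥(chevD4.group k)) (sr 2)
          rw [d1, d1', h3]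
        · exact h3
      have h9 := Nat.card_le_card_of_injective f hinj
      rw [Nat.card_prod, Nat.card_fin] at h9
      exact h9
    · exact ⟨⟨y, hτy⟩, Subtype.ext hconj⟩
    · exact hVP
    · -- ne
      intro g hg
      have h1 : (g : ↥(chevD4.group k)) * z * (g : ↥(chevD4.group k))⁻¹ = t0 := congrArg Subtype.val hg
      obtain ⟨w, hw⟩ := wconj hp hk r hz.1 ht0 h1
      have key : ∀ x, cX hp (z : ↥(chevD4.group k)) x = 1 →
          (3 : ℤ) ∣ ∑ n, Am 1 n * rep coxeterD4.toCoxeterSystem hp.isCartan w x n := by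
        intro x hx
        have h2 := hw x
        rw [hct0, hx] at h2
        rw [hAm']
        exact_mod_cast (hω.zpow_eq_one_iff_dvd _).1 h2
      have hA' := (isRoot_sr coxeterD4.toCoxeterSystem hp.isCartan 0).act w
      have hB' := (isRoot_sr coxeterD4.toCoxeterSystem hp.isCartan 1).act w
      have hC' : IsRoot coxeterD4.toCoxeterSystem hp.isCartan (vec chevD4 4 19) :=
        isRoot_vec hp _ (by decide)
      have hC'' := hC'.act w
      have e19 : vec chevD4 4 19 = sr 0 + sr 1 := by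
        funext i
        rw [Pi.add_apply, sr_apply', sr_apply']
        revert i
        decide +kernel
      rw [e19, map_add] at hC''
      obtain ⟨ra, hra, ea⟩ := (isRoot_iff hp _ _).1 hA'
      obtain ⟨rb, hrb, eb⟩ := (isRoot_iff hp _ _).1 hB'
      obtain ⟨rc, hrc, ec⟩ := (isRoot_iff hp _ _).1 hC''
      have hn : chevD4.nroots = 24 := rfl
      rw [hn] at hra hrb hrc
      refine chk_kernel ⟨ra, hra⟩ ⟨rb, hrb⟩ ?_ ?_ ⟨rc, hrc⟩ fun i => ?_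
      · show (3 : ℤ) ∣ ∑ n, Am 1 n * vec chevD4 4 ra n
        rw [ea]
        exact key _ hcz'.1
      · show (3 : ℤ) ∣ ∑ n, Am 1 n * vec chevD4 4 rb n
        rw [eb]
        exact key _ hcz'.2.1
      · show vec chevD4 4 ra i + vec chevD4 4 rb i = vec chevD4 4 rc i
        rw [ea, eb, ec, Pi.add_apply]
  · -- the order of the torus
    obtain ⟨ζ, hζ⟩ := hroot (a + 1)
    obtain ⟨c, hc⟩ := hq
    push_cast at hc
    have hex : ∀ i j : ℕ, ∃ t ∈ TG hp τ 3, ∀ x, cX hp (t : ↥(chevD4.group k)) x =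
        ζ ^ (x 0 * (-(i : ℤ) * (1 + Q + Q ^ 2) - 6 * (j : ℤ)) + x 1 * (3 * (j : ℤ)) +
          x 2 * ((i : ℤ) * Q) + x 3 * (i : ℤ)) := by
      intro i j
      refine mk_T hp hτ F hsg hTh hζ.pow_eq_one hQdef _ _ _ _ ?_ ?_ ?_ ?_
      · refine ⟨-c * ((i : ℤ) * (1 + 3 * (b + b ^ 2)) + 2 * (j : ℤ)), ?_⟩
        push_cast
        have e1 : 1 + Q + Q ^ 2 = 3 * (1 + 3 * (b + b ^ 2)) := by rw [hQb]; ring
        rw [e1, hc, pow_succ]
        ring
      · refine ⟨c * (j : ℤ), ?_⟩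
        push_cast
        rw [pow_succ, hc]
        ring
      · refine ⟨0, ?_⟩
        ring
      · refine ⟨0, ?_⟩
        ring
    choose f hf hfc using hex
    have hinj : Function.Injective (fun p : Fin (3 ^ (a + 1)) × Fin (3 ^ a) =>
        (⟨f p.1 p.2, hf p.1 p.2⟩ : ↥(TG hp τ 3))) := by
      rintro ⟨i, j⟩ ⟨i', j'⟩ h
      have h1 : f i j = f i' j' := congrArg Subtype.val h
      have h2 : cX hp (f i j : ↥(chevD4.group k)) (sr 3) = cX hp (f i' j' : ↥(chevD4.group k)) (sr 3) := by rw [h1]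
      have h3 : cX hp (f i j : ↥(chevD4.group k)) (sr 1) = cX hp (f i' j' : ↥(chevD4.group k)) (sr 1) := by rw [h1]
      rw [hfc, hfc] at h2 h3
      simp [sr_apply'] at h2 h3
      have h4 := hζ.pow_inj i.2 i'.2 h2
      have h5 : ζ ^ (3 * (j : ℕ)) = ζ ^ (3 * (j' : ℕ)) := by exact_mod_cast h3
      have h6 := hζ.pow_inj (by have := j.2; rw [pow_succ]; omega) (by have := j'.2; rw [pow_succ]; omega) h5
      exact Prod.ext (Fin.ext h4) (Fin.ext (by show (j : ℕ) = j'; omega))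
    have h9 := Nat.card_le_card_of_injective _ hinj
    rw [Nat.card_prod, Nat.card_fin, Nat.card_fin, ← pow_add] at h9
    have e1 : 2 * a + 1 = a + 1 + a := by ring
    rw [e1]
    exact h9

end Final

/-! ### the theorem -/

/-- the `3`-part of the order -/
theorem not_dvd_ord {Q c : ℤ} {a : ℕ} (hc : Q - 1 = 3 ^ a * c) (ha : 0 < a) (hc3 : ¬ (3 : ℤ) ∣ c) :
    ¬ (3 : ℤ) ^ (2 * a + 3) ∣ Q ^ 12 * (Q ^ 2 - 1) * (Q ^ 6 - 1) * (Q ^ 8 + Q ^ 4 + 1) := by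
  intro h
  have h3 : Prime (3 : ℤ) := Int.prime_three
  obtain ⟨b, hb⟩ : (3 : ℤ) ∣ Q - 1 := by rw [hc]; exact Dvd.dvd.mul_right (dvd_pow_self 3 ha.ne') c
  have hQ : Q = 1 + 3 * b := by linarith
  obtain ⟨u, hu⟩ : ∃ u, Q ^ 2 = 1 + 3 * u := ⟨2 * b + 3 * b ^ 2, by rw [hQ]; ring⟩
  obtain ⟨v, hv⟩ : ∃ v, Q ^ 4 = 1 + 3 * v := ⟨2 * u + 3 * u ^ 2, by
    have : Q ^ 4 = (Q ^ 2) ^ 2 := by ring
    rw [this, hu]; ring⟩
  have e : Q ^ 12 * (Q ^ 2 - 1) * (Q ^ 6 - 1) * (Q ^ 8 + Q ^ 4 + 1) =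
      3 ^ (2 * a + 2) * (Q ^ 12 * (1 + 3 * (u + u ^ 2)) * (1 + 3 * (v + v ^ 2)) * (Q + 1) ^ 2 * c ^ 2) := by
    have e1 : Q ^ 2 - 1 = 3 ^ a * (c * (Q + 1)) := by
      have : Q ^ 2 - 1 = (Q - 1) * (Q + 1) := by ring
      rw [this, hc]; ring
    have e2 : Q ^ 6 - 1 = (Q ^ 2 - 1) * ((Q ^ 2) ^ 2 + Q ^ 2 + 1) := by ring
    have e3 : Q ^ 8 + Q ^ 4 + 1 = 3 * (1 + 3 * (v + v ^ 2)) := by
      have : Q ^ 8 = (Q ^ 4) ^ 2 := by ring
      rw [this, hv]; ring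
    have e4 : (Q ^ 2) ^ 2 + Q ^ 2 + 1 = 3 * (1 + 3 * (u + u ^ 2)) := by rw [hu]; ring
    have e5 : (3 : ℤ) ^ (2 * a + 2) = (3 ^ a) ^ 2 * 9 := by ring
    rw [e2, e3, e4, e1, e5]
    generalize (3 : ℤ) ^ a = P
    ring
  rw [e, show 2 * a + 3 = (2 * a + 2) + 1 by ring, pow_succ] at h
  have h5 := Int.dvd_of_mul_dvd_mul_left (pow_ne_zero (2 * a + 2) three_ne_zero) h
  have hn : ∀ w : ℤ, ¬ (3 : ℤ) ∣ 1 + 3 * w := fun w hw => by omega
  have hQ3 : ¬ (3 : ℤ) ∣ Q := by omega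
  have hQ4 : ¬ (3 : ℤ) ∣ Q + 1 := by omega
  rcases h3.dvd_or_dvd h5 with h5 | h5
  · rcases h3.dvd_or_dvd h5 with h5 | h5
    · rcases h3.dvd_or_dvd h5 with h5 | h5
      · rcases h3.dvd_or_dvd h5 with h5 | h5
        · exact hQ3 (h3.dvd_of_dvd_pow h5)
        · exact hn _ h5
      · exact hn _ h5
    · exact hQ4 (h3.dvd_of_dvd_pow h5)
  · exact hc3 (h3.dvd_of_dvd_pow h5)

open Cfsg.Agent.H720.TwFr Cfsg.Agent.H795.NotAbRows in
/-- **`³D₄(q)`, `p = 3`.** -/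
theorem full_twD4 {K : Type u} [Field K] [Fintype K] {q : ℕ} (h3 : (3 : K) ≠ 0) (hq : IsPrimePow q)
    (hK : Fintype.card K = q ^ 3) : Exc.Full 3 ↥(twistedD4 K q) := by
  obtain ⟨r, n, hr, hrF, hrk, hn0, hn, hk⟩ := Cfsg.Agent.H795.Tw.exists_closure_q three_ne_zero hq hK
  have h3r : 3 ≠ r := by
    rintro rfl
    exact h3 (by exact_mod_cast CharP.cast_eq_zero K 3)
  have h3' : Fact (Nat.Prime 3) := ⟨Nat.prime_three⟩
  let k := AlgebraicClosure K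
  let f := em4 (algebraMap K k) (tw4_le hq hK)
  have hf : Function.Injective f := em4_injective _ _
  have hfix : ∀ x, sig4 k r n (f x) = f x := em4_fix _ r (tw4_le hq hK) hn0 hn hK
  have hsurj : ∀ y, sig4 k r n y = y → ∃ x, f x = y := fun y hy => desc4 _ r (tw4_le hq hK) hk hn0 hn hK hy
  have hσ : IsFrob r n (sig4 k r n) := isFrob_sig4 r n
  have F := fr_sig4 hk r hp4 coxeterD4.toCoxeterSystem n
  have hB : InvC chevD4 4 2 ![![2, 2, 1, 1], ![2, 4, 2, 2], ![1, 2, 2, 1], ![1, 2, 1, 2]] := invC_D4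
  have hq2 : 2 ≤ q := hq.two_le
  -- the sign
  obtain ⟨sg, hsg, hsq, hw1, hw2⟩ : ∃ sg : ℤ, (sg = 1 ∨ sg = -1) ∧ (3 : ℤ) ∣ sg * ((r ^ n : ℕ) : ℤ) - 1 ∧
      (∃ w : coxeterD4.Group, ∀ j, rep coxeterD4.toCoxeterSystem hp4.isCartan w (permE rho4 (sr j)) =
        fun m => sg * gpM j m) ∧
      ∃ n' z', n' = z'⁻¹ * sig4 k r n z' ∧ VP ↥(fixS (MulAut.conj n' * sig4 k r n)) := by
    have hperm : ∀ j, permE rho4 (sr j) = triM j := perm4_mat
    rcases res3 (e := n) hr.out h3r with h | h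
    · refine ⟨1, Or.inl rfl, ?_, ⟨wp, fun j => ?_⟩, ?_⟩
      · rw [one_mul]
        have h1 : (((r ^ n : ℕ) : ℤ) : ZMod 3) = ((1 : ℤ) : ZMod 3) := by rw [← h]; push_cast; rfl
        have h2 := (ZMod.intCast_eq_intCast_iff_dvd_sub _ _ _).1 h1.symm
        exact_mod_cast h2
      · rw [hperm]
        funext m
        rw [(is_wp hp4).apply]
        revert j m
        decide +kernel
      · exact vp_of_cert hp4 hk hn0 hσ F h3r hB two_ne_zero hperm (is_vp hp4) (is_u1 hp4) (is_u2 hp4) h cert_p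
    · refine ⟨-1, Or.inr rfl, ?_, ⟨wn, fun j => ?_⟩, ?_⟩
      · have h1 : (((r ^ n : ℕ) : ℤ) : ZMod 3) = ((-1 : ℤ) : ZMod 3) := by rw [← h]; push_cast; rfl
        have h2 := (ZMod.intCast_eq_intCast_iff_dvd_sub _ _ _).1 h1.symm
        have h4 : (-1 : ℤ) * ((r ^ n : ℕ) : ℤ) - 1 = -(((r ^ n : ℕ) : ℤ) - -1) := by ring
        rw [h4, dvd_neg]
        exact_mod_cast h2
      · rw [hperm]
        funext m
        rw [(is_wn hp4).apply]
        revert j m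
        decide +kernel
      · exact vp_of_cert hp4 hk hn0 hσ F h3r hB two_ne_zero hperm (is_vn hp4) (is_u1 hp4) (is_u2 hp4) h cert_n
  obtain ⟨w, hw⟩ := hw1
  obtain ⟨n1, z1, hn1, hz1, hτ, Fτ⟩ := exists_tau hp4 hk hn0 hσ F w
  obtain ⟨n2, z2, hz2, hVP⟩ := hw2
  obtain ⟨e1⟩ := iso_of hf hfix hsurj hz1
  obtain ⟨e2⟩ := iso_of hf hfix hsurj hz2
  have hVP1 : VP ↥(fixS (MulAut.conj n1 * sig4 k r n)) := hVP.congr (e2.symm.trans e1)
  have hGfin : Finite ↥(twistedD4 K q) := inferInstance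
  have hfin1 : Finite ↥(fixS (MulAut.conj n1 * sig4 k r n)) := Finite.of_equiv _ e1.toEquiv
  -- the exponent
  have hQ1 : sg * ((r ^ n : ℕ) : ℤ) ≠ 1 := by
    rw [← hn]
    rcases hsg with h | h <;> rw [h] <;> omega
  obtain ⟨a, c, hc3, hc⟩ : ∃ (a : ℕ) (c : ℤ), ¬ (3 : ℤ) ∣ c ∧ sg * ((r ^ n : ℕ) : ℤ) - 1 = 3 ^ a * c := by
    have hfm : FiniteMultiplicity (3 : ℤ) (sg * ((r ^ n : ℕ) : ℤ) - 1) :=
      Int.finiteMultiplicity_iff.2 ⟨by decide, sub_ne_zero.2 hQ1⟩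
    obtain ⟨c, h1, h2⟩ := hfm.exists_eq_pow_mul_and_not_dvd
    exact ⟨_, c, h2, h1⟩
  have ha : 0 < a := by
    rcases Nat.eq_zero_or_pos a with h | h
    · rw [h, pow_zero, one_mul] at hc
      rw [hc] at hsq
      exact absurd hsq hc3
    · exact h
  obtain ⟨x0, t0, z, HT, hT⟩ := triHyp hk hp4 hτ Fτ hsg (fun j => hw j) h3r ha ⟨c, by push_cast; rw [← hc]; push_cast; ring⟩
    hQ1 hVP1
  refine Exc.full_congr e1.symm (HT.full ?_)
  intro hdvd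
  have hTp : IsPGroup 3 (TG hp4 (MulAut.conj n1 * sig4 k r n) 3) := HT.isPGroup.to_le HT.T_le
  obtain ⟨m, hm⟩ := IsPGroup.iff_card.1 hTp
  rw [hm] at hT hdvd
  have hm' : 2 * a + 1 ≤ m := (Nat.pow_le_pow_iff_right (by norm_num)).1 hT
  have h5 : 3 ^ (2 * a + 3) ∣ Nat.card ↥(twistedD4 K q) := by
    have h6 : 3 ^ (2 * a + 3) ∣ 9 * 3 ^ m := by
      have : 9 * 3 ^ m = 3 ^ (m + 2) := by rw [pow_add]; ring
      rw [this]
      exact Nat.pow_dvd_pow 3 (by omega)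
    have h7 : Nat.card ↥(twistedD4 K q) = Nat.card ↥(fixS (MulAut.conj n1 * sig4 k r n)) :=
      Nat.card_congr e1.toEquiv
    rw [h7]
    exact h6.trans hdvd
  rw [Cfsg.Agent.S1067.result hq hK] at h5
  have hq1 : 1 ≤ q ^ 2 := Nat.one_le_pow _ _ (by omega)
  have hq6 : 1 ≤ q ^ 6 := Nat.one_le_pow _ _ (by omega)
  have h6 := Int.natCast_dvd_natCast.2 h5
  refine not_dvd_ord hc ha hc3 ?_
  rw [← hn]
  have h8 : (sg * (q : ℤ)) ^ 12 * ((sg * (q : ℤ)) ^ 2 - 1) * ((sg * (q : ℤ)) ^ 6 - 1) *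
      ((sg * (q : ℤ)) ^ 8 + (sg * (q : ℤ)) ^ 4 + 1) = (q : ℤ) ^ 12 * ((q : ℤ) ^ 2 - 1) * ((q : ℤ) ^ 6 - 1) *
      ((q : ℤ) ^ 8 + (q : ℤ) ^ 4 + 1) := by
    rcases hsg with h | h <;> rw [h] <;> ring
  rw [h8]
  push_cast [Nat.cast_sub hq1, Nat.cast_sub hq6] at h6
  exact h6

/-- **`³D₄(q)`, `p = 3`.** -/
theorem fullP_twD4 {K : Type u} [Field K] [Fintype K] {q : ℕ} (h3 : (3 : K) ≠ 0) (hq : IsPrimePow q)
    (hK : Fintype.card K = q ^ 3) : H749.FullP 3 ↥(twistedD4 K q) := by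
  have h3' : Fact (Nat.Prime 3) := ⟨Nat.prime_three⟩
  have hGfin : Finite ↥(twistedD4 K q) := inferInstance
  exact Exc.fullP_of_full (full_twD4 h3 hq hK)

end Cfsg.Agent.H790.TriMain
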