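import Mathlib

/-!
# The extraspecial group of order `p ^ 3` and exponent `p` (helper790)

* `Heis p` : triples `(a, b, c)`, standing for `x ^ a y ^ b z ^ c` with `y x = x y z`, `z` central;
* `rot`, `swp` : automorphisms generating a dihedral group of order 8 (`p` odd);
* `equiv_of_exponent` : a non-abelian group of order `p ^ 3` and exponent `p` is isomorphic to `Heis p`.
* `false_of_dihedral` : the condition on the `p'`-subgroups of `Aut(S)` fails if `Aut(S)` contains such automorphisms.
-/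

set_option autoImplicit false
set_option linter.unnecessarySeqFocus false

namespace Cfsg.Agent.H790

/-- If `Aut(S)` has a dihedral subgroup of order 8 then some `p'`-subgroup of `Aut(S)` is not abelian. -/
theorem false_of_dihedral {S : Type*} [Group S] [Finite (MulAut S)] {p : ℕ} (hodd : Odd p)
    (hH : ∀ K : Subgroup (MulAut S), (Nat.card K).Coprime p → IsMulCommutative K ∧ ∀ h ∈ K, h ^ (p - 1) = 1)
    (s r : MulAut S) (hs : s * s = 1) (hr : r ^ 4 = 1) (hsr : s * r * s⁻¹ = r⁻¹) (hr2 : r * r ≠ 1) : False := by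
  have hs2 : IsPGroup 2 (Subgroup.zpowers s) := by
    have h1 : orderOf s ∣ 2 := by
      rw [orderOf_dvd_iff_pow_eq_one, pow_two, hs]
    obtain ⟨k, -, hk⟩ := (Nat.dvd_prime_pow Nat.prime_two (m := 1)).1 (by simpa using h1)
    exact IsPGroup.of_card (n := k) (by rw [Nat.card_zpowers, hk])
  have hrr : IsPGroup 2 (Subgroup.zpowers r) := by
    have h1 : orderOf r ∣ 2 ^ 2 := by
      rw [orderOf_dvd_iff_pow_eq_one]
      exact hr
    obtain ⟨k, -, hk⟩ := (Nat.dvd_prime_pow Nat.prime_two).1 h1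
    exact IsPGroup.of_card (n := k) (by rw [Nat.card_zpowers, hk])
  have hnorm : Subgroup.zpowers s ≤ Subgroup.normalizer (Subgroup.zpowers r : Set _) := by
    rw [Subgroup.zpowers_le, Subgroup.mem_normalizer_iff]
    have h1 : ∀ k : ℤ, s * r ^ k * s⁻¹ = r ^ (-k) := by
      intro k
      rw [← conj_zpow, hsr, inv_zpow, zpow_neg]
    intro x
    constructor
    · rintro ⟨k, rfl⟩
      exact ⟨-k, (h1 k).symm⟩
    · rintro ⟨k, hk⟩
      refine ⟨-k, ?_⟩
      have h2 := h1 (-k)
      rw [neg_neg] at h2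
      have h3 : s * r ^ (-k) * s⁻¹ = s * x * s⁻¹ := by
        rw [h2]; exact hk
      exact mul_left_cancel (mul_right_cancel h3)
  have hD : IsPGroup 2 (Subgroup.zpowers s ⊔ Subgroup.zpowers r : Subgroup (MulAut S)) :=
    IsPGroup.to_sup_of_normal_right' hs2 hrr hnorm
  obtain ⟨k, hk⟩ := IsPGroup.iff_card.1 hD
  have h1 := (hH (Subgroup.zpowers s ⊔ Subgroup.zpowers r) (by
    rw [hk]
    apply Nat.Coprime.pow_left
    rw [Nat.coprime_two_left]
    exact hodd)).1
  have h2 := congrArg Subtype.val (h1.1.1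
    ⟨s, Subgroup.mem_sup_left (Subgroup.mem_zpowers _)⟩
    ⟨r, Subgroup.mem_sup_right (Subgroup.mem_zpowers _)⟩)
  have h3 : s * r = r * s := h2
  apply hr2
  have h4 : r = r⁻¹ := by
    rw [← hsr, h3]; group
  nth_rw 2 [h4]
  exact mul_inv_cancel r

/-- triples `x ^ a y ^ b z ^ c` with `y x = x y z` -/
@[ext] structure Heis (p : ℕ) where
  a : ZMod p
  b : ZMod p
  c : ZMod p

namespace Heis

variable {p : ℕ}

instance instMulHeis : Mul (Heis p) := ⟨fun u v => ⟨u.a + v.a, u.b + v.b, u.c + v.c + u.b * v.a⟩⟩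
instance instOneHeis : One (Heis p) := ⟨⟨0, 0, 0⟩⟩
instance instInvHeis : Inv (Heis p) := ⟨fun u => ⟨-u.a, -u.b, -u.c + u.b * u.a⟩⟩

@[simp] theorem mul_a (u v : Heis p) : (u * v).a = u.a + v.a := rfl
@[simp] theorem mul_b (u v : Heis p) : (u * v).b = u.b + v.b := rfl
@[simp] theorem mul_c (u v : Heis p) : (u * v).c = u.c + v.c + u.b * v.a := rfl
@[simp] theorem one_a : (1 : Heis p).a = 0 := rfl
@[simp] theorem one_b : (1 : Heis p).b = 0 := rfl
@[simp] theorem one_c : (1 : Heis p).c = 0 := rfl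
@[simp] theorem inv_a (u : Heis p) : (u⁻¹).a = -u.a := rfl
@[simp] theorem inv_b (u : Heis p) : (u⁻¹).b = -u.b := rfl
@[simp] theorem inv_c (u : Heis p) : (u⁻¹).c = -u.c + u.b * u.a := rfl

instance instGroupHeis : Group (Heis p) where
  mul_assoc u v w := by ext <;> simp <;> ring
  one_mul u := by ext <;> simp
  mul_one u := by ext <;> simp
  inv_mul_cancel u := by ext <;> simp

def equivProd (p : ℕ) : Heis p ≃ ZMod p × ZMod p × ZMod p where
  toFun u := (u.a, u.b, u.c)
  invFun t := ⟨t.1, t.2.1, t.2.2⟩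
  left_inv _ := rfl
  right_inv _ := rfl

theorem card_heis [NeZero p] : Nat.card (Heis p) = p ^ 3 := by
  rw [Nat.card_congr (equivProd p), Nat.card_prod, Nat.card_prod, Nat.card_eq_fintype_card, ZMod.card]
  ring

instance instFiniteHeis [NeZero p] : Finite (Heis p) := Finite.of_equiv _ (equivProd p).symm

/-- `x ↦ y`, `y ↦ x⁻¹` -/
def rot (p : ℕ) : MulAut (Heis p) where
  toFun u := ⟨-u.b, u.a, u.c - u.a * u.b⟩
  invFun u := ⟨u.b, -u.a, u.c - u.a * u.b⟩
  left_inv u := by ext <;> simp <;> ring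
  right_inv u := by ext <;> simp <;> ring
  map_mul' u v := by
    ext
    · simp; ring
    · simp
    · simp; ring

/-- `x ↦ y`, `y ↦ x` -/
def swp (p : ℕ) : MulAut (Heis p) where
  toFun u := ⟨u.b, u.a, u.a * u.b - u.c⟩
  invFun u := ⟨u.b, u.a, u.a * u.b - u.c⟩
  left_inv u := by ext <;> simp <;> ring
  right_inv u := by ext <;> simp <;> ring
  map_mul' u v := by
    ext
    · simp
    · simp
    · simp; ring

theorem rot_apply (u : Heis p) : rot p u = ⟨-u.b, u.a, u.c - u.a * u.b⟩ := rfl
theorem swp_apply (u : Heis p) : swp p u = ⟨u.b, u.a, u.a * u.b - u.c⟩ := rfl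

theorem swp_mul_self : swp p * swp p = 1 := by
  apply MulEquiv.ext
  intro u
  rw [MulAut.mul_apply, swp_apply, swp_apply, MulAut.one_apply]
  ext <;> simp <;> ring

theorem rot_mul_rot (u : Heis p) : (rot p * rot p) u = ⟨-u.a, -u.b, u.c⟩ := by
  rw [MulAut.mul_apply, rot_apply, rot_apply]
  ext <;> simp <;> ring

theorem rot_pow : (rot p) ^ 4 = 1 := by
  have h3 : (rot p) ^ 4 = (rot p * rot p) * (rot p * rot p) := by
    rw [pow_succ, pow_succ, pow_two]; simp only [mul_assoc]
  rw [h3]
  apply MulEquiv.ext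
  intro u
  rw [MulAut.mul_apply, rot_mul_rot, rot_mul_rot, MulAut.one_apply]
  ext <;> simp

theorem swp_rot : swp p * rot p * (swp p)⁻¹ = (rot p)⁻¹ := by
  rw [mul_inv_eq_iff_eq_mul, eq_inv_mul_iff_mul_eq]
  apply MulEquiv.ext
  intro u
  rw [MulAut.mul_apply, MulAut.mul_apply, swp_apply, rot_apply, swp_apply, rot_apply]
  ext <;> simp <;> ring

theorem rot_ne (hp : p ≠ 2) [Fact p.Prime] : rot p * rot p ≠ 1 := by
  intro h
  have h1 : ((rot p * rot p) ⟨1, 0, 0⟩).a = ((1 : MulAut (Heis p)) ⟨1, 0, 0⟩).a := by rw [h]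
  rw [rot_mul_rot, MulAut.one_apply] at h1
  have h2 : (-1 : ZMod p) = 1 := h1
  have h3 : ((2 : ℕ) : ZMod p) = 0 := by
    push_cast
    linear_combination -h2
  rw [ZMod.natCast_eq_zero_iff] at h3
  exact hp ((Nat.prime_dvd_prime_iff_eq Fact.out Nat.prime_two).1 h3)

end Heis

section Iso

variable {T : Type*} [Group T] {p : ℕ}

theorem zpow_comm_aux {x y z : T} (hzx : z * x = x * z) (hzy : z * y = y * z) (h : y * x = x * y * z) (b a : ℤ) :
    y ^ b * x ^ a = x ^ a * y ^ b * z ^ (b * a) := by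
  have hzx' : Commute z x := hzx
  have hzy' : Commute z y := hzy
  -- conjugation of `x` by `y ^ b`
  have h1 : y * x * y⁻¹ = x * z := by
    rw [h]
    have : x * y * z * y⁻¹ = x * (y * z) * y⁻¹ := by group
    rw [this, ← hzy]; group
  have h2 : ∀ b : ℤ, y ^ b * x * (y ^ b)⁻¹ = x * z ^ b := by
    have h3 : ∀ k : ℕ, y ^ k * x * (y ^ k)⁻¹ = x * z ^ k := by
      intro k
      induction k with
      | zero => simp
      | succ k ih =>
        have : y ^ (k + 1) * x * (y ^ (k + 1))⁻¹ = y * (y ^ k * x * (y ^ k)⁻¹) * y⁻¹ := by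
          rw [pow_succ']; group
        rw [this, ih]
        have h4 : y * (x * z ^ k) * y⁻¹ = (y * x * y⁻¹) * (y * z ^ k * y⁻¹) := by group
        have h5 : y * z ^ k * y⁻¹ = z ^ k := by
          rw [← ((hzy'.pow_left k).eq)]; group
        rw [h4, h1, h5, pow_succ', mul_assoc]
    intro b
    rcases Int.eq_nat_or_neg b with ⟨k, rfl | rfl⟩
    · rw [zpow_natCast, zpow_natCast]; exact h3 k
    · rw [zpow_neg, zpow_neg, zpow_natCast, zpow_natCast, inv_inv]
      have h4 := h3 k
      have h5 : x = (y ^ k)⁻¹ * (x * z ^ k) * y ^ k := by rw [← h4]; group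
      have h6 : (y ^ k)⁻¹ * (x * z ^ k) * y ^ k = ((y ^ k)⁻¹ * x * y ^ k) * z ^ k := by
        have h7 : z ^ k * y ^ k = y ^ k * z ^ k := ((hzy'.pow_pow k k)).eq
        rw [mul_assoc (y ^ k)⁻¹, mul_assoc x, h7]; group
      rw [h6] at h5
      have h7 : (y ^ k)⁻¹ * x * y ^ k = x * (z ^ k)⁻¹ := eq_mul_inv_of_mul_eq h5.symm
      exact h7
  have h3 : y ^ b * x ^ a * (y ^ b)⁻¹ = x ^ a * z ^ (b * a) := by
    rw [← conj_zpow, h2 b, (hzx'.symm.zpow_right b).mul_zpow, ← zpow_mul]
  have h4 : y ^ b * x ^ a = x ^ a * z ^ (b * a) * y ^ b := by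
    rw [← h3]; group
  rw [h4, mul_assoc, ((hzy'.zpow_zpow (b * a) b)).eq, ← mul_assoc]

theorem pow_mod_of {x : T} (hx : x ^ p = 1) (n : ℕ) : x ^ (n % p) = x ^ n := by
  conv_rhs => rw [← Nat.mod_add_div n p, pow_add, pow_mul, hx, one_pow, mul_one]

theorem pow_val_add {x : T} (hx : x ^ p = 1) [NeZero p] (a b : ZMod p) : x ^ (a + b).val = x ^ a.val * x ^ b.val := by
  rw [← pow_add, ZMod.val_add, pow_mod_of hx]

theorem pow_val_mul {x : T} (hx : x ^ p = 1) [NeZero p] (a b : ZMod p) : x ^ (a * b).val = x ^ (a.val * b.val) := by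
  rw [ZMod.val_mul, pow_mod_of hx]

/-- the homomorphism `(a, b, c) ↦ x ^ a y ^ b z ^ c` -/
noncomputable def heisHom [NeZero p] (x y z : T) (hx : x ^ p = 1) (hy : y ^ p = 1) (hz : z ^ p = 1)
    (hzx : z * x = x * z) (hzy : z * y = y * z) (h : y * x = x * y * z) : Heis p →* T where
  toFun u := x ^ u.a.val * y ^ u.b.val * z ^ u.c.val
  map_one' := by simp
  map_mul' u v := by
    simp only [Heis.mul_a, Heis.mul_b, Heis.mul_c]
    rw [pow_val_add hx, pow_val_add hy, pow_val_add hz, pow_val_add hz, pow_val_mul hz]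
    have h1 := zpow_comm_aux hzx hzy h (u.b.val : ℤ) (v.a.val : ℤ)
    rw [zpow_natCast, zpow_natCast, ← Nat.cast_mul, zpow_natCast] at h1
    have hzx' : Commute z x := hzx
    have hzy' : Commute z y := hzy
    set A := x ^ u.a.val
    set A' := x ^ v.a.val
    set B := y ^ u.b.val
    set B' := y ^ v.b.val
    set C := z ^ u.c.val
    set C' := z ^ v.c.val
    set D := z ^ (u.b.val * v.a.val)
    have c1 : C * A' = A' * C := (hzx'.pow_pow _ _).eq
    have c2 : C * B' = B' * C := (hzy'.pow_pow _ _).eq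
    have c3 : D * B' = B' * D := (hzy'.pow_pow _ _).eq
    have c4 : C * D = D * C := (Commute.refl z).pow_pow _ _
    have c5 : C * C' = C' * C := (Commute.refl z).pow_pow _ _
    have c6 : D * C' = C' * D := (Commute.refl z).pow_pow _ _
    symm
    calc A * B * C * (A' * B' * C') = A * B * (C * A') * B' * C' := by simp only [mul_assoc]
      _ = A * (B * A') * (C * B') * C' := by rw [c1]; simp only [mul_assoc]
      _ = A * (A' * B * D) * (B' * C) * C' := by rw [h1, c2]
      _ = A * A' * B * (D * B') * (C * C') := by simp only [mul_assoc]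
      _ = A * A' * B * B' * (D * (C * C')) := by rw [c3]; simp only [mul_assoc]
      _ = A * A' * (B * B') * (C * C' * D) := by
        rw [show D * (C * C') = C * C' * D by rw [← mul_assoc, ← c4, mul_assoc, c6, mul_assoc]]
        simp only [mul_assoc]

theorem heisHom_apply [NeZero p] (x y z : T) (hx : x ^ p = 1) (hy : y ^ p = 1) (hz : z ^ p = 1)
    (hzx : z * x = x * z) (hzy : z * y = y * z) (h : y * x = x * y * z) (u : Heis p) :
    heisHom x y z hx hy hz hzx hzy h u = x ^ u.a.val * y ^ u.b.val * z ^ u.c.val := rfl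

/-- the structure of a non-abelian group of order `p ^ 3` and exponent `p` -/
theorem equiv_of_exponent [Finite T] [Fact p.Prime] (hcard : Nat.card T = p ^ 3) (hexp : ∀ t : T, t ^ p = 1)
    (hna : ¬ IsMulCommutative T) : Nonempty (Heis p ≃* T) := by
  have hp : p.Prime := Fact.out
  have hT : IsPGroup p T := IsPGroup.of_card hcard
  -- the centre has order `p`
  have hnt : Nontrivial T := by
    by_contra h
    rw [not_nontrivial_iff_subsingleton] at h
    exact hna ⟨⟨fun a b => Subsingleton.elim _ _⟩⟩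
  have hZ : Nat.card (Subgroup.center T) = p := by
    have h0 := hT.center_nontrivial
    obtain ⟨k, hk3, hk⟩ := (Nat.dvd_prime_pow hp).1 (hcard ▸ Subgroup.card_subgroup_dvd_card (Subgroup.center T))
    have h1 : Nat.card (Subgroup.center T) * (Subgroup.center T).index = p ^ 3 := by
      rw [Subgroup.card_mul_index, hcard]
    have hk0 : k ≠ 0 := by
      intro h
      rw [h, pow_zero] at hk
      have := Finite.one_lt_card (α := Subgroup.center T)
      omega
    have hk1 : k < 2 := by
      by_contra hk2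
      push Not at hk2
      -- `T / Z(T)` is cyclic
      have h2 : (Subgroup.center T).index ∣ p := by
        have : p ^ k * (Subgroup.center T).index = p ^ k * p ^ (3 - k) := by
          rw [← pow_add, ← hk, h1]; congr 1; omega
        have h3 := Nat.eq_of_mul_eq_mul_left (pow_pos hp.pos k) this
        rw [h3]
        calc p ^ (3 - k) ∣ p ^ 1 := pow_dvd_pow p (by omega)
          _ = p := pow_one p
      have h3 : IsCyclic (T ⧸ Subgroup.center T) := by
        rcases (Nat.dvd_prime hp).1 h2 with h4 | h4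
        · have : Subsingleton (T ⧸ Subgroup.center T) := by
            rw [Subgroup.index_eq_one] at h4
            exact QuotientGroup.subsingleton_iff.2 h4
          infer_instance
        · exact isCyclic_of_prime_card (p := p) h4
      apply hna
      refine ⟨⟨fun a b => ?_⟩⟩
      exact commutative_of_cyclic_center_quotient (QuotientGroup.mk' (Subgroup.center T))
        (by rw [QuotientGroup.ker_mk']) a b
    have : k = 1 := by omega
    rw [hk, this, pow_one]
  -- two noncommuting elements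
  obtain ⟨x, y, hxy⟩ : ∃ x y : T, y * x ≠ x * y := by
    by_contra h
    push Not at h
    exact hna ⟨⟨fun a b => h b a⟩⟩
  set z := y⁻¹ * x⁻¹ * y * x with hz
  have hyx : y * x = x * y * z := by rw [hz]; group
  -- `T / Z` is abelian
  have hQ : Nat.card (T ⧸ Subgroup.center T) = p ^ 2 := by
    have h1 : Nat.card (Subgroup.center T) * (Subgroup.center T).index = p ^ 3 := by
      rw [Subgroup.card_mul_index, hcard]
    rw [hZ] at h1
    have : p * (Subgroup.center T).index = p * p ^ 2 := by rw [h1]; ring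
    exact Nat.eq_of_mul_eq_mul_left hp.pos this
  have hab := IsPGroup.isMulCommutative_of_card_eq_prime_sq hQ
  have hzZ : z ∈ Subgroup.center T := by
    rw [← QuotientGroup.eq_one_iff, hz]
    have h1 := hab.1.1 ((y : T) : T ⧸ Subgroup.center T) ((x : T) : T ⧸ Subgroup.center T)
    rw [QuotientGroup.mk_mul, QuotientGroup.mk_mul, QuotientGroup.mk_mul, QuotientGroup.mk_inv, QuotientGroup.mk_inv,
      mul_assoc, h1]
    group
  have hz1 : z ≠ 1 := by
    intro h
    rw [h, mul_one] at hyx
    exact hxy hyx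
  have hzc : ∀ t : T, z * t = t * z := fun t => (Subgroup.mem_center_iff.1 hzZ t).symm
  have : NeZero p := ⟨hp.ne_zero⟩
  set f := heisHom x y z (hexp x) (hexp y) (hexp z) (hzc x) (hzc y) hyx with hf
  refine ⟨MulEquiv.ofBijective f ?_⟩
  rw [Nat.bijective_iff_injective_and_card]
  refine ⟨?_, by rw [Heis.card_heis, hcard]⟩
  rw [injective_iff_map_eq_one]
  intro u hu
  rw [hf, heisHom_apply] at hu
  have hsmall : ∀ (n : ℕ) (w : T), w ≠ 1 → n < p → w ^ n = 1 → n = 0 := by
    intro n w hw hn h1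
    have h2 : orderOf w = p := orderOf_eq_prime (hexp w) hw
    have h3 := orderOf_dvd_of_pow_eq_one h1
    rw [h2] at h3
    exact Nat.eq_zero_of_dvd_of_lt h3 hn
  -- commute with `y`: the exponent of `x` vanishes
  have key : ∀ b a : ℤ, y ^ b * x ^ a = x ^ a * y ^ b * z ^ (b * a) := zpow_comm_aux (hzc x) (hzc y) hyx
  have ha : u.a.val = 0 := by
    refine hsmall _ z hz1 (ZMod.val_lt u.a) ?_
    have h1 := key 1 u.a.val
    rw [zpow_one, zpow_natCast, one_mul, zpow_natCast] at h1
    have h2 : x ^ u.a.val = (z ^ u.c.val)⁻¹ * (y ^ u.b.val)⁻¹ := by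
      have h3 : x ^ u.a.val = x ^ u.a.val * y ^ u.b.val * z ^ u.c.val * ((z ^ u.c.val)⁻¹ * (y ^ u.b.val)⁻¹) := by group
      rw [h3, hu, one_mul]
    have h3 : y * x ^ u.a.val = x ^ u.a.val * y := by
      rw [h2]
      have c1 : Commute y (z ^ u.c.val) := ((show Commute y z from (hzc y).symm).pow_right _)
      have c2 : Commute y (y ^ u.b.val) := (Commute.refl y).pow_right _
      exact (c1.inv_right.mul_right c2.inv_right).eq
    rw [h3] at h1
    have h4 : x ^ u.a.val * y * 1 = x ^ u.a.val * y * z ^ u.a.val := by rw [mul_one]; exact h1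
    exact (mul_left_cancel h4).symm
  have hb : u.b.val = 0 := by
    refine hsmall _ z hz1 (ZMod.val_lt u.b) ?_
    have h1 := key u.b.val 1
    rw [zpow_one, zpow_natCast, mul_one, zpow_natCast] at h1
    rw [ha, pow_zero, one_mul] at hu
    have h2 : y ^ u.b.val = (z ^ u.c.val)⁻¹ := eq_inv_of_mul_eq_one_left hu
    have h3 : y ^ u.b.val * x = x * y ^ u.b.val := by
      rw [h2]
      have c1 : Commute x (z ^ u.c.val) := ((show Commute x z from (hzc x).symm).pow_right _)
      exact (c1.inv_right.eq).symm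
    rw [h3] at h1
    have h4 : x * y ^ u.b.val * 1 = x * y ^ u.b.val * z ^ u.b.val := by rw [mul_one]; exact h1
    exact (mul_left_cancel h4).symm
  have hc : u.c.val = 0 := by
    refine hsmall _ z hz1 (ZMod.val_lt u.c) ?_
    rwa [ha, hb, pow_zero, pow_zero, one_mul, one_mul] at hu
  ext
  · exact (ZMod.val_eq_zero _).1 ha
  · exact (ZMod.val_eq_zero _).1 hb
  · exact (ZMod.val_eq_zero _).1 hc

end Iso

end Cfsg.Agent.H790
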