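import Cfsg.Agent.H790.StarC
import Cfsg.Agent.H790.Heis
import Cfsg.Agent.S1447

/-!
# Non-abelian Sylow subgroups of order `p ^ 3` (helper790)

* `Ctl.metacyclic_false` : if `N(T)` controls fusion, `G` perfect, `p` odd then `T` is not metacyclic non-abelian;
* `abelian_of_card_cube` : if every saturated fusion system over `T` is supersoluble, `|T| = p ^ 3`, `p` odd, `G` perfect then `T`
  is abelian.
-/

set_option autoImplicit false
set_option linter.unusedSectionVars false

namespace Cfsg.Agent.H790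

open Cfsg Cfsg.FusionSystem Cfsg.Agent.H759
open scoped commutatorElement

variable {G : Type*} [Group G] [Finite G] {p : ℕ} [Fact p.Prime]

theorem exists_normalizer_complement (T : Sylow p G) :
    ∃ A : Subgroup G, A ≤ Subgroup.normalizer ((T : Subgroup G) : Set G) ∧ (Nat.card A).Coprime p ∧
      ∀ n ∈ Subgroup.normalizer ((T : Subgroup G) : Set G), ∃ t ∈ (T : Subgroup G), ∃ a ∈ A, n = t * a := by
  set N := Subgroup.normalizer ((T : Subgroup G) : Set G) with hN
  have hTN : (T : Subgroup G) ≤ N := Subgroup.le_normalizer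
  have hidx : ¬ p ∣ ((T : Subgroup G).subgroupOf N).index := by
    intro h
    exact T.not_dvd_index (h.trans (Subgroup.relIndex_dvd_index_of_le hTN))
  obtain ⟨k, hk⟩ := IsPGroup.iff_card.1 T.2
  have hc : Nat.card ((T : Subgroup G).subgroupOf N) = p ^ k := by
    rw [Nat.card_congr (Subgroup.subgroupOfEquivOfLe hTN).toEquiv]
    exact hk
  have hn : ((T : Subgroup G).subgroupOf N).Normal := Subgroup.normal_in_normalizer
  have hcop : Nat.Coprime (Nat.card ((T : Subgroup G).subgroupOf N)) ((T : Subgroup G).subgroupOf N).index := by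
    rw [hc]
    exact Nat.Coprime.pow_left k ((Nat.Prime.coprime_iff_not_dvd Fact.out).2 hidx)
  obtain ⟨A₀, hA₀⟩ := Subgroup.exists_right_complement'_of_coprime hcop
  refine ⟨A₀.map N.subtype, Subgroup.map_subtype_le _, ?_, ?_⟩
  · rw [← Nat.card_congr (Subgroup.equivMapOfInjective _ N.subtype N.subtype_injective).toEquiv]
    have h1 : Nat.card A₀ = ((T : Subgroup G).subgroupOf N).index := by
      have h2 := hA₀.card_mul_card
      have h3 := ((T : Subgroup G).subgroupOf N).card_mul_index
      exact Nat.eq_of_mul_eq_mul_left Nat.card_pos (h2.trans h3.symm)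
    rw [h1]
    exact ((Nat.Prime.coprime_iff_not_dvd Fact.out).2 hidx).symm
  · intro n hn
    obtain ⟨⟨⟨t, ht⟩, ⟨a, ha⟩⟩, hta⟩ := hA₀.2 ⟨n, hn⟩
    refine ⟨t, ht, a, ⟨a, ha, rfl⟩, ?_⟩
    exact (congrArg Subtype.val hta).symm

theorem Ctl.focal_le {T : Sylow p G} (C : Ctl p (T : Subgroup G)) {A D : Subgroup G}
    (hA : ∀ n ∈ Subgroup.normalizer ((T : Subgroup G) : Set G), ∃ t ∈ (T : Subgroup G), ∃ a ∈ A, n = t * a)
    (hD : ⁅(T : Subgroup G), (T : Subgroup G)⁆ ≤ D) (hDA : ⁅(T : Subgroup G), A⁆ ≤ D)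
    (hDT : (T : Subgroup G) ≤ Subgroup.normalizer (D : Set G)) : (T : Subgroup G).focalSubgroup ≤ D := by
  rw [Subgroup.focalSubgroup_def, Subgroup.closure_le]
  rintro _ ⟨hg, x, hx, u, rfl⟩
  have h1 : u * x * u⁻¹ ∈ (T : Subgroup G) := by
    have : u * x * u⁻¹ = (x⁻¹ * ⁅x, u⁆)⁻¹ := by
      rw [commutatorElement_def]; group
    rw [this]
    exact Subgroup.inv_mem _ (Subgroup.mul_mem _ (Subgroup.inv_mem _ hx) hg)
  obtain ⟨n, hn, hnx⟩ := C.ctl (Subgroup.zpowers x) u (by rwa [Subgroup.zpowers_le]) (by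
    rintro _ ⟨k, rfl⟩
    simp only
    rw [← conj_zpow]
    exact Subgroup.zpow_mem _ h1 k)
  obtain ⟨t, ht, a, ha, rfl⟩ := hA n hn
  have h2 := hnx x (Subgroup.mem_zpowers x)
  have h3 : ⁅x, u⁆ = ⁅x, t⁆ * (t * ⁅x, a⁆ * t⁻¹) := by
    have : ⁅x, u⁆ = x * (u * x * u⁻¹)⁻¹ := by rw [commutatorElement_def]; group
    rw [this, ← h2, commutatorElement_def, commutatorElement_def]; group
  rw [h3]
  refine D.mul_mem (hD (Subgroup.commutator_mem_commutator hx ht)) ?_
  exact mem_normalizer_conj (hDT ht) _ (hDA (Subgroup.commutator_mem_commutator hx ha))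

theorem Ctl.metacyclic_false {T : Sylow p G} (C : Ctl p (T : Subgroup G)) (hp : p ≠ 2)
    (hperf : commutator G = ⊤) (hm : IsMetacyclic (T : Subgroup G)) (hna : ¬ IsMulCommutative (T : Subgroup G)) :
    False := by
  obtain ⟨A, hAN, hcop, hA⟩ := exists_normalizer_complement T
  have hfoc : (T : Subgroup G).focalSubgroup = T := by
    have h1 := Subgroup.commutator_inf_eq_focalSubgroup T
    rw [← h1, hperf, top_inf_eq]
  have hTne : (T : Subgroup G) ≠ ⊥ := by
    intro h
    apply hna
    rw [h]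
    infer_instance
  have hTT : ⁅(T : Subgroup G), (T : Subgroup G)⁆ ≠ T := by
    intro h
    have hnil : Group.IsNilpotent (T : Subgroup G) := T.2.isNilpotent
    have h1 : commutator (T : Subgroup G) = ⊤ := by
      rw [eq_top_iff]
      intro x _
      have h2 : (x : G) ∈ ⁅(T : Subgroup G), (T : Subgroup G)⁆ := by rw [h]; exact x.2
      rw [← Subgroup.map_subtype_commutator] at h2
      obtain ⟨y, hy, hyx⟩ := h2
      rwa [← Subtype.ext (a1 := y) (a2 := x) hyx]
    have h3 : Subsingleton (T : Subgroup G) := by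
      by_contra hns
      rw [not_subsingleton_iff_nontrivial] at hns
      exact (Group.IsSolvable.commutator_lt_top_of_nontrivial (T : Subgroup G)).ne h1
    exact hTne ((Subgroup.eq_bot_of_subsingleton _))
  by_cases hAc : A ≤ Subgroup.centralizer ((T : Subgroup G) : Set G)
  · have h1 := C.focal_le hA le_rfl (D := ⁅(T : Subgroup G), (T : Subgroup G)⁆) (by
      have h2 : ⁅(T : Subgroup G), A⁆ = ⊥ := by
        rw [Subgroup.commutator_comm, Subgroup.commutator_eq_bot_iff_le_centralizer]
        exact hAc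
      rw [h2]; exact bot_le) (by
      exact Subgroup.normalizer_commutator_ge_left _ _)
    rw [hfoc] at h1
    exact hTT (le_antisymm (Subgroup.commutator_le_self _) h1)
  · obtain ⟨-, h2, h3, h4⟩ := S1447.result p hp (T : Subgroup G) A T.2 hm hAN hcop
    obtain ⟨-, -, h5, -, h6⟩ := h4 hna hAc
    have h1 := C.focal_le hA h6 (D := ⁅(T : Subgroup G), A⁆) le_rfl (by
      exact Subgroup.normalizer_commutator_ge_left _ _)
    rw [hfoc] at h1
    apply h5
    rw [eq_bot_iff, ← h3]
    exact le_inf (inf_le_left.trans h1) le_rfl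

omit [Fact p.Prime] in
theorem false_of_heis [Fact p.Prime] (hp : p ≠ 2) {S : Type*} [Group S] [Finite S] (e : Heis p ≃* S)
    (hH : ∀ K : Subgroup (MulAut S), (Nat.card K).Coprime p → IsMulCommutative K ∧ ∀ h ∈ K, h ^ (p - 1) = 1) :
    False := by
  have := finite_mulAut S
  let j : MulAut (Heis p) ≃* MulAut S := MulAut.congr e
  refine false_of_dihedral ((Fact.out : p.Prime).odd_of_ne_two hp) hH (j (Heis.swp p)) (j (Heis.rot p)) ?_ ?_ ?_ ?_
  · rw [← map_mul, Heis.swp_mul_self, map_one]
  · rw [← map_pow, Heis.rot_pow, map_one]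
  · rw [← map_mul, ← map_inv, ← map_mul, Heis.swp_rot, map_inv]
  · rw [← map_mul]
    intro h
    rw [EmbeddingLike.map_eq_one_iff] at h
    exact Heis.rot_ne hp h

/-- **Sylow subgroups of order `p ^ 3`.** -/
theorem abelian_of_card_cube {T : Sylow p G} (hp : p ≠ 2) (hperf : commutator G = ⊤)
    (hall : ∀ F : FusionSystem (T : Subgroup G), F.IsSaturated p → Super F)
    (hcard : Nat.card (T : Subgroup G) = p ^ 3) : IsMulCommutative (T : Subgroup G) := by
  by_contra hna
  have hpp : p.Prime := Fact.out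
  by_cases hexp : ∀ t : (T : Subgroup G), t ^ p = 1
  · obtain ⟨e⟩ := equiv_of_exponent hcard hexp hna
    exact false_of_heis hp e ((all_super_iff T.2).1 hall).2
  · push Not at hexp
    obtain ⟨t, ht⟩ := hexp
    have C := Ctl.of_super T (hall _ (H802.groupFusionSystem_isSaturated T))
    refine C.metacyclic_false hp hperf ?_ hna
    have h1 : orderOf t = p ^ 2 := by
      obtain ⟨k, hk3, hk⟩ := (Nat.dvd_prime_pow hpp).1 (hcard ▸ orderOf_dvd_natCard t)
      have hk1 : 1 < k := by
        by_contra h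
        push Not at h
        apply ht
        rw [← orderOf_dvd_iff_pow_eq_one, hk]
        calc p ^ k ∣ p ^ 1 := pow_dvd_pow p h
          _ = p := pow_one p
      have hk3' : k ≠ 3 := by
        rintro rfl
        apply hna
        have : IsCyclic (T : Subgroup G) := isCyclic_of_orderOf_eq_card t (by rw [hk, hcard])
        infer_instance
      rw [hk]
      congr 1
      omega
    have h2 : (Subgroup.zpowers t).index = p := by
      have h3 := (Subgroup.zpowers t).card_mul_index
      rw [Nat.card_zpowers, h1, hcard] at h3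
      have : p ^ 2 * (Subgroup.zpowers t).index = p ^ 2 * p := by rw [h3]; ring
      exact Nat.eq_of_mul_eq_mul_left (pow_pos hpp.pos 2) this
    have h3 : (Subgroup.zpowers t).Normal := by
      apply Subgroup.normal_of_index_eq_minFac_card
      rw [h2, hcard, hpp.pow_minFac (by norm_num)]
    refine ⟨Subgroup.zpowers t, h3, inferInstance, ?_⟩
    exact isCyclic_of_prime_card (p := p) h2

end Cfsg.Agent.H790
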