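import Cfsg.Agent.H790.ExcCert
import Cfsg.Agent.S2378

/-!
# Exceptional groups with abelian Sylow `p`-subgroups (helper790)

`AbP p G` : all `p`-subgroups of `G` are abelian. Rows for `G₂ F₄ E₆ E₇ E₈ D₄` over a finite field with `q` elements and
a prime `r ≥ 5` not dividing `q`: all cases in which the Sylow `r`-subgroups are abelian.
-/

set_option autoImplicit false

namespace Cfsg.Agent.H790.ExcAb

open Cfsg Cfsg.Agent.H790.ExcCert Cfsg.Agent.Nodes.RGDChev Cfsg.Agent.H129.TorusChar Cfsg.Agent.H130.ChevSyl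
  Cfsg.Agent.H130.Homo Cfsg.Agent.H130.WeylTab Cfsg.Agent.H130.WeylCk Cfsg.Agent.H130.PolyL
  Cfsg.Agent.ChevalleyStructure.CoxeterGeomTypes Cfsg.Agent.ChevalleyStructure.CoxeterGeom

/-- all `p`-subgroups of `G` are abelian -/
def AbP (p : ℕ) (G : Type*) [Group G] : Prop :=
  ∀ P : Subgroup G, IsPGroup p P → ∀ a ∈ P, ∀ b ∈ P, a * b = b * a

section basic

variable {p : ℕ} {G : Type*} [Group G] {H : Type*} [Group H]

theorem AbP.of_injective (h : AbP p H) {f : G →* H} (hf : Function.Injective f) : AbP p G := by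
  intro P hP a ha b hb
  apply hf
  rw [map_mul, map_mul]
  exact h (P.map f) (hP.map f) _ (Subgroup.mem_map_of_mem f ha) _ (Subgroup.mem_map_of_mem f hb)

theorem AbP.congr (h : AbP p H) (e : G ≃* H) : AbP p G := h.of_injective (f := e.toMonoidHom) e.injective

theorem AbP.sylow (h : AbP p G) (P : Sylow p G) : IsMulCommutative ↥(P : Subgroup G) :=
  ⟨⟨fun a b => Subtype.ext (h P P.2 a.1 a.2 b.1 b.2)⟩⟩

theorem AbP.of_sylow [Fact p.Prime] [Finite G] (h : ∀ P : Sylow p G, ∀ a ∈ P, ∀ b ∈ P, a * b = b * a) :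
    AbP p G := by
  intro P hP a ha b hb
  obtain ⟨Q, hQ⟩ := hP.exists_le_sylow
  exact h Q a (hQ ha) b (hQ hb)

theorem AbP.of_equiv [Fact p.Prime] [Finite G] (h : ∀ P : Sylow p G, ∃ (A : Type) (_ : CommGroup A),
    Nonempty (↥(P : Subgroup G) ≃* A)) : AbP p G := by
  refine AbP.of_sylow fun P a ha b hb => ?_
  obtain ⟨A, _, ⟨e⟩⟩ := h P
  have : (⟨a, ha⟩ : ↥(P : Subgroup G)) * ⟨b, hb⟩ = ⟨b, hb⟩ * ⟨a, ha⟩ := by
    apply e.injective
    rw [map_mul, map_mul, mul_comm]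
  exact congrArg Subtype.val this

/-- a quotient by a subgroup of order prime to `p` -/
theorem AbP.of_surjective [Fact p.Prime] [Finite G] [Finite H] (h : AbP p G) {f : G →* H}
    (hf : Function.Surjective f) : AbP p H := by
  refine AbP.of_sylow fun P a ha b hb => ?_
  obtain ⟨Q⟩ := (inferInstance : Nonempty (Sylow p G))
  have hQ : ((Q : Subgroup G).map f) = ((Q.mapSurjective hf : Sylow p H) : Subgroup H) := rfl
  obtain ⟨g, hg⟩ := MulAction.exists_smul_eq H (Q.mapSurjective hf) P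
  have hmem : ∀ x ∈ P, ∃ y ∈ (Q : Subgroup G), g * f y * g⁻¹ = x := by
    intro x hx
    rw [← hg] at hx
    obtain ⟨y, hy, rfl⟩ := Subgroup.mem_map.1 (show x ∈ ((Q.mapSurjective hf : Sylow p H) : Subgroup H).map _ from hx)
    rw [← hQ] at hy
    obtain ⟨z, hz, rfl⟩ := Subgroup.mem_map.1 hy
    exact ⟨z, hz, rfl⟩
  obtain ⟨y, hy, rfl⟩ := hmem a ha
  obtain ⟨z, hz, rfl⟩ := hmem b hb
  have := h Q Q.2 y hy z hz
  have e : f y * f z = f z * f y := by rw [← map_mul, this, map_mul]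
  calc g * f y * g⁻¹ * (g * f z * g⁻¹) = g * (f y * f z) * g⁻¹ := by group
    _ = g * (f z * f y) * g⁻¹ := by rw [e]
    _ = g * f z * g⁻¹ * (g * f y * g⁻¹) := by group

/-- in a subgroup of index prime to `p` it is enough -/
theorem AbP.of_index [Fact p.Prime] [Finite G] {f : H →* G} (hf : Function.Injective f) (h : AbP p H)
    (hi : (Nat.card G).factorization p ≤ (Nat.card H).factorization p) : AbP p G := by
  have : Finite H := Finite.of_injective f hf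
  refine AbP.of_sylow fun P a ha b hb => ?_
  obtain ⟨Q⟩ := (inferInstance : Nonempty (Sylow p H))
  have hQc : Nat.card ((Q : Subgroup H).map f) = p ^ (Nat.card G).factorization p := by
    rw [Nat.card_congr ((Q : Subgroup H).equivMapOfInjective f hf).toEquiv.symm, Q.card_eq_multiplicity]
    congr 1
    refine le_antisymm ?_ hi
    have hd : Nat.card H ∣ Nat.card G := Subgroup.card_dvd_of_injective f hf
    exact (Nat.factorization_le_iff_dvd Nat.card_pos.ne' Nat.card_pos.ne').2 hd p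
  let Q' : Sylow p G := Sylow.ofCard ((Q : Subgroup H).map f) hQc
  obtain ⟨g, hg⟩ := MulAction.exists_smul_eq G Q' P
  have hmem : ∀ x ∈ P, ∃ y ∈ (Q : Subgroup H), g * f y * g⁻¹ = x := by
    intro x hx
    rw [← hg] at hx
    obtain ⟨y, hy, rfl⟩ := Subgroup.mem_map.1 (show x ∈ ((Q' : Sylow p G) : Subgroup G).map _ from hx)
    obtain ⟨z, hz, rfl⟩ := Subgroup.mem_map.1 (show y ∈ (Q : Subgroup H).map f from hy)
    exact ⟨z, hz, rfl⟩
  obtain ⟨y, hy, rfl⟩ := hmem a ha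
  obtain ⟨z, hz, rfl⟩ := hmem b hb
  have := h Q Q.2 y hy z hz
  have e : f y * f z = f z * f y := by rw [← map_mul, this, map_mul]
  calc g * f y * g⁻¹ * (g * f z * g⁻¹) = g * (f y * f z) * g⁻¹ := by group
    _ = g * (f z * f y) * g⁻¹ := by rw [e]
    _ = g * f z * g⁻¹ * (g * f y * g⁻¹) := by group

end basic

/-- the prime does not divide the order of the Weyl group -/
theorem abP_weyl {F : Type*} [Field F] [Fintype F] (c : Cfsg.Lie.ChevalleyDatum × List ℕ)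
    (hc : c ∈ [(Cfsg.Lie.chevG2, [2, 6]), (Cfsg.Lie.chevB2, [2, 4]), (Cfsg.Lie.chevD4, [2, 4, 4, 6]),
      (Cfsg.Lie.chevF4, [2, 6, 8, 12]), (Cfsg.Lie.chevE6, [2, 5, 6, 8, 9, 12]),
      (Cfsg.Lie.chevE7, [2, 6, 8, 10, 12, 14, 18]), (Cfsg.Lie.chevE8, [2, 8, 12, 14, 18, 20, 24, 30])])
    (r : ℕ) [Fact r.Prime] (hrq : ¬ r ∣ Fintype.card F) (hrW : ¬ r ∣ c.2.prod) : AbP r ↥(c.1.group F) := by
  by_cases hG : r ∣ Nat.card ↥(c.1.group F)
  · refine AbP.of_equiv fun P => ?_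
    obtain ⟨e⟩ := Cfsg.Agent.S2378.result (F := F) rfl c hc r hrq hrW hG P
    exact ⟨_, _, ⟨e⟩⟩
  · refine AbP.of_sylow fun P a ha b hb => ?_
    have h1 : Nat.card ↥(P : Subgroup ↥(c.1.group F)) = 1 := by
      rw [P.card_eq_multiplicity, Nat.factorization_eq_zero_of_not_dvd hG, pow_zero]
    have h2 := Subgroup.card_eq_one.1 h1
    rw [(Subgroup.mem_bot.1 (h2 ▸ ha : a ∈ (⊥ : Subgroup _))), (Subgroup.mem_bot.1 (h2 ▸ hb : b ∈ (⊥ : Subgroup _)))]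

theorem order_five {q : ℕ} (h0 : ¬ 5 ∣ q) :
    (q % 5 = 1 ∧ orderOf (q : ZMod 5) = 1) ∨ (q % 5 = 4 ∧ orderOf (q : ZMod 5) = 2) ∨
      ((q % 5 = 2 ∨ q % 5 = 3) ∧ orderOf (q : ZMod 5) = 4) := by
  have h1 : (q : ZMod 5) = ((q % 5 : ℕ) : ZMod 5) := by simp
  have h2 : q % 5 = 1 ∨ q % 5 = 2 ∨ q % 5 = 3 ∨ q % 5 = 4 := by omega
  rcases h2 with h | h | h | h
  · left; refine ⟨h, ?_⟩; rw [h1, h]; simp
  · right; right; refine ⟨Or.inl h, ?_⟩; rw [h1, h, orderOf_eq_iff (by norm_num)]; decide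
  · right; right; refine ⟨Or.inr h, ?_⟩; rw [h1, h, orderOf_eq_iff (by norm_num)]; decide
  · right; left; refine ⟨h, ?_⟩; rw [h1, h, orderOf_eq_iff (by norm_num)]; decide

theorem order_seven {q : ℕ} (h0 : ¬ 7 ∣ q) :
    (q % 7 = 1 ∧ orderOf (q : ZMod 7) = 1) ∨ (q % 7 = 6 ∧ orderOf (q : ZMod 7) = 2) ∨
      ((q % 7 = 2 ∨ q % 7 = 4) ∧ orderOf (q : ZMod 7) = 3) ∨ ((q % 7 = 3 ∨ q % 7 = 5) ∧ orderOf (q : ZMod 7) = 6) := by
  have h1 : (q : ZMod 7) = ((q % 7 : ℕ) : ZMod 7) := by simp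
  have h2 : q % 7 = 1 ∨ q % 7 = 2 ∨ q % 7 = 3 ∨ q % 7 = 4 ∨ q % 7 = 5 ∨ q % 7 = 6 := by omega
  rcases h2 with h | h | h | h | h | h
  · left; refine ⟨h, ?_⟩; rw [h1, h]; simp
  · right; right; left; refine ⟨Or.inl h, ?_⟩; rw [h1, h, orderOf_eq_iff (by norm_num)]; decide
  · right; right; right; refine ⟨Or.inl h, ?_⟩; rw [h1, h, orderOf_eq_iff (by norm_num)]; decide
  · right; right; left; refine ⟨Or.inr h, ?_⟩; rw [h1, h, orderOf_eq_iff (by norm_num)]; decide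
  · right; right; right; refine ⟨Or.inr h, ?_⟩; rw [h1, h, orderOf_eq_iff (by norm_num)]; decide
  · right; left; refine ⟨h, ?_⟩; rw [h1, h, orderOf_eq_iff (by norm_num)]; decide

section E6

variable {F : Type*} [Field F] [Fintype F] {q : ℕ} (hq : Fintype.card F = q)

theorem cert_E6_2 : Cert alE6 6 2 4 [0, 1, 2, 3, 4, 5] 6 1
    [[2, 0, 1, 1, -1, 0], [-1, 0, -1, -1, 0, 0], [1, 0, 0, 1, 0, 1], [0, 1, 0, 0, 0, 0]]
    [[0, 0, 0, 0, -1, 0], [0, 0, -1, 0, -1, 0], [0, 0, 0, 0, 0, 1], [0, 1, 0, 0, 0, 0]] := by decide +kernel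

theorem cert_E6_4 : Cert alE6 6 4 2 [0, 1, 2, 3, 4, 5] 3 1 [[0, 1, -1, 0, 0, 1], [1, 0, 1, 1, 0, 0]]
    [[0, -1, -1, 1, 0, 0], [0, -1, -1, 1, 1, 0]] := by decide +kernel

include hq in
theorem hX_E6 : Nat.gcd 3 (q - 1) * Nat.card ↥(Cfsg.Lie.chevE6.group F) =
    q ^ 36 * ([2, 5, 6, 8, 9, 12].map (fun i => q ^ i - 1)).prod := by
  rw [Cfsg.Agent.S1063.result hq]
  simp only [List.map_cons, List.map_nil, List.prod_cons, List.prod_nil]
  ring

theorem not_dvd_gcd {r a b : ℕ} (hr : r.Prime) (ha : a.Prime) (h : r ≠ a) : ¬ r ∣ Nat.gcd a b := by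
  intro h1
  exact h ((Nat.prime_dvd_prime_iff_eq hr ha).1 (h1.trans (Nat.gcd_dvd_left a b)))

include hq in
/-- **`E₆(q)`** -/
theorem E6 {r : ℕ} [hr : Fact r.Prime] (hrq : ¬ r ∣ q) (h5 : 5 ≤ r) (h : r = 5 → q % 5 ≠ 1) :
    AbP r ↥(Cfsg.Lie.chevE6.group F) := by
  by_cases hr5 : r = 5
  · subst hr5
    have hp : IsType Cfsg.Lie.chevE6 6 CoxeterMatrix.E₆ := by simp [IsType, typeList]
    rcases order_five hrq with ⟨h1, -⟩ | ⟨h1, h2⟩ | ⟨h1, h2⟩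
    · exact absurd h1 (h rfl)
    · refine AbP.of_equiv fun P => ?_
      obtain ⟨e⟩ := sylow_cert hq hp (degs := [2, 5, 6, 8, 9, 12]) invC_E6 three_ne_zero lists_E6 hrq (by norm_num)
        (by rw [h2]; decide) (by rw [h2]; exact cert_E6_2) (by rw [h2]; decide) (by norm_num) (hX_E6 hq)
        (not_dvd_gcd hr.out Nat.prime_three (by norm_num)) P
      exact ⟨_, _, ⟨e⟩⟩
    · refine AbP.of_equiv fun P => ?_
      obtain ⟨e⟩ := sylow_cert hq hp (degs := [2, 5, 6, 8, 9, 12]) invC_E6 three_ne_zero lists_E6 hrq (by norm_num)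
        (by rw [h2]; decide) (by rw [h2]; exact cert_E6_4) (by rw [h2]; decide) (by norm_num) (hX_E6 hq)
        (not_dvd_gcd hr.out Nat.prime_three (by norm_num)) P
      exact ⟨_, _, ⟨e⟩⟩
  · refine abP_weyl (F := F) (Cfsg.Lie.chevE6, [2, 5, 6, 8, 9, 12]) (by simp) r (by rwa [hq]) ?_
    intro h1
    have h2 : r ∣ 51840 := by simpa using h1
    have h3 : r ∣ 2 ^ 7 * 3 ^ 4 * 5 := by simpa using h2
    rcases (Nat.Prime.dvd_mul hr.out).1 h3 with h3 | h3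
    · rcases (Nat.Prime.dvd_mul hr.out).1 h3 with h3 | h3
      · have := Nat.le_of_dvd (by norm_num) (hr.out.dvd_of_dvd_pow h3); omega
      · have := Nat.le_of_dvd (by norm_num) (hr.out.dvd_of_dvd_pow h3); omega
    · exact hr5 ((Nat.prime_dvd_prime_iff_eq hr.out (by norm_num)).1 h3)

end E6

section E7

variable {F : Type*} [Field F] [Fintype F] {q : ℕ} (hq : Fintype.card F = q)

theorem cert_E7_3 : Cert alE7 7 3 3 [0, 1, 2, 3, 4, 5, 6] 6 2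
    [[1, 1, 1, 1, 0, 0, 0], [0, 0, 0, 0, 0, 1, 1], [0, 0, 1, 0, 1, 1, 0]]
    [[1, -1, -1, 1, 0, 1, -1], [2, -1, -1, 0, 0, 1, -1], [0, 1, -1, 0, 0, 1, -1]] := by decide +kernel

theorem cert_E7_4 : Cert alE7 7 4 2 [4, 1, 6, 5, 6, 2, 6, 6, 3] 2 2 [[0, 0, 0, 1, 0, 0, 0], [0, 1, 1, 0, 0, 0, 0]]
    [[0, 0, 0, 0, -2, 2, 0], [0, 0, 0, 0, -1, 2, 0]] := by decide +kernel

theorem cert_E7_6 : Cert alE7 7 6 3 [0, 1, 2, 3, 4, 5, 6] 3 1
    [[-1, -2, -1, -1, 1, 1, 1], [-1, 2, -1, 0, -1, 0, -1], [1, 1, 0, 1, 0, 0, 0]]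
    [[-1, -2, 0, 3, -3, 1, 0], [0, -2, 1, 2, -5, 4, 0], [-4, -5, -1, 9, -5, -1, 0]] := by decide +kernel

include hq in
theorem hX_E7 : Nat.gcd 2 (q - 1) * Nat.card ↥(Cfsg.Lie.chevE7.group F) =
    q ^ 63 * ([2, 6, 8, 10, 12, 14, 18].map (fun i => q ^ i - 1)).prod := by
  rw [Cfsg.Agent.S1064.result hq]
  simp only [List.map_cons, List.map_nil, List.prod_cons, List.prod_nil]
  ring

include hq in
/-- **`E₇(q)`** -/
theorem E7 {r : ℕ} [hr : Fact r.Prime] (hrq : ¬ r ∣ q) (h5 : 5 ≤ r) (h : r = 5 → q % 5 ≠ 1 ∧ q % 5 ≠ 4)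
    (h' : r = 7 → q % 7 ≠ 1 ∧ q % 7 ≠ 6) : AbP r ↥(Cfsg.Lie.chevE7.group F) := by
  have hp : IsType Cfsg.Lie.chevE7 7 CoxeterMatrix.E₇ := by simp [IsType, typeList]
  by_cases hr5 : r = 5
  · subst hr5
    rcases order_five hrq with ⟨h1, -⟩ | ⟨h1, -⟩ | ⟨h1, h2⟩
    · exact absurd h1 (h rfl).1
    · exact absurd h1 (h rfl).2
    · refine AbP.of_equiv fun P => ?_
      obtain ⟨e⟩ := sylow_cert hq hp (degs := [2, 6, 8, 10, 12, 14, 18]) invC_E7 two_ne_zero lists_E7 hrq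
        (by norm_num) (by rw [h2]; decide) (by rw [h2]; exact cert_E7_4) (by rw [h2]; decide) (by norm_num)
        (hX_E7 hq) (not_dvd_gcd hr.out Nat.prime_two (by norm_num)) P
      exact ⟨_, _, ⟨e⟩⟩
  by_cases hr7 : r = 7
  · subst hr7
    rcases order_seven hrq with ⟨h1, -⟩ | ⟨h1, -⟩ | ⟨h1, h2⟩ | ⟨h1, h2⟩
    · exact absurd h1 (h' rfl).1
    · exact absurd h1 (h' rfl).2
    · refine AbP.of_equiv fun P => ?_
      obtain ⟨e⟩ := sylow_cert hq hp (degs := [2, 6, 8, 10, 12, 14, 18]) invC_E7 two_ne_zero lists_E7 hrq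
        (by norm_num) (by rw [h2]; decide) (by rw [h2]; exact cert_E7_3) (by rw [h2]; decide) (by norm_num)
        (hX_E7 hq) (not_dvd_gcd hr.out Nat.prime_two (by norm_num)) P
      exact ⟨_, _, ⟨e⟩⟩
    · refine AbP.of_equiv fun P => ?_
      obtain ⟨e⟩ := sylow_cert hq hp (degs := [2, 6, 8, 10, 12, 14, 18]) invC_E7 two_ne_zero lists_E7 hrq
        (by norm_num) (by rw [h2]; decide) (by rw [h2]; exact cert_E7_6) (by rw [h2]; decide) (by norm_num)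
        (hX_E7 hq) (not_dvd_gcd hr.out Nat.prime_two (by norm_num)) P
      exact ⟨_, _, ⟨e⟩⟩
  · refine abP_weyl (F := F) (Cfsg.Lie.chevE7, [2, 6, 8, 10, 12, 14, 18]) (by simp) r (by rwa [hq]) ?_
    intro h1
    have h2 : r ∣ 2 ^ 10 * 3 ^ 4 * 5 * 7 := by simpa using h1
    rcases (Nat.Prime.dvd_mul hr.out).1 h2 with h3 | h3
    · rcases (Nat.Prime.dvd_mul hr.out).1 h3 with h3 | h3
      · rcases (Nat.Prime.dvd_mul hr.out).1 h3 with h3 | h3
        · have := Nat.le_of_dvd (by norm_num) (hr.out.dvd_of_dvd_pow h3); omega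
        · have := Nat.le_of_dvd (by norm_num) (hr.out.dvd_of_dvd_pow h3); omega
      · exact hr5 ((Nat.prime_dvd_prime_iff_eq hr.out (by norm_num)).1 h3)
    · exact hr7 ((Nat.prime_dvd_prime_iff_eq hr.out (by norm_num)).1 h3)

end E7

section E8

variable {F : Type*} [Field F] [Fintype F] {q : ℕ} (hq : Fintype.card F = q)

theorem cert_E8_3 : Cert alE8 8 3 4 [0, 1, 2, 3, 4, 5, 6, 7] 10 3
    [[1, 0, 0, 0, 0, 0, 1, 0], [0, 0, 0, 0, 0, 1, 0, 1], [0, 0, 0, 0, 1, 0, 1, 0], [0, 0, 1, 0, 1, 1, 1, 0]]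
    [[-2, -1, 0, 2, -2, 0, 2, 0], [-1, -2, 0, 1, -1, 0, 1, 0], [0, 1, -1, -1, 0, 1, 0, -1],
      [0, 1, 2, -1, 0, -2, 0, 2]] := by decide +kernel

theorem cert_E8_6 : Cert alE8 8 6 4 [0, 1, 2, 3, 4, 5, 6, 7] 5 1
    [[0, 1, 0, 0, 0, 0, 1, 0], [0, 0, 0, 0, 0, 0, 1, 0], [0, 0, 0, 0, 0, 0, 0, 1], [0, 0, 0, 1, 1, 0, 0, 0]]
    [[0, 0, -1, 1, -1, 1, 0, 0], [-1, 0, 1, 0, 0, -1, 0, 0], [1, 0, -1, 1, -1, 0, 0, 0],
      [0, 0, -1, 0, 0, 1, 0, 0]] := by decide +kernel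

include hq in
theorem hX_E8 : 1 * Nat.card ↥(Cfsg.Lie.chevE8.group F) =
    q ^ 120 * ([2, 8, 12, 14, 18, 20, 24, 30].map (fun i => q ^ i - 1)).prod := by
  rw [Cfsg.Agent.S1065.result hq]
  simp only [List.map_cons, List.map_nil, List.prod_cons, List.prod_nil]
  ring

include hq in
/-- **`E₈(q)`** -/
theorem E8 {r : ℕ} [hr : Fact r.Prime] (hrq : ¬ r ∣ q) (h5 : 7 ≤ r) (h' : r = 7 → q % 7 ≠ 1 ∧ q % 7 ≠ 6) :
    AbP r ↥(Cfsg.Lie.chevE8.group F) := by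
  have hp : IsType Cfsg.Lie.chevE8 8 CoxeterMatrix.E₈ := by simp [IsType, typeList]
  by_cases hr7 : r = 7
  · subst hr7
    rcases order_seven hrq with ⟨h1, -⟩ | ⟨h1, -⟩ | ⟨h1, h2⟩ | ⟨h1, h2⟩
    · exact absurd h1 (h' rfl).1
    · exact absurd h1 (h' rfl).2
    · refine AbP.of_equiv fun P => ?_
      obtain ⟨e⟩ := sylow_cert hq hp (degs := [2, 8, 12, 14, 18, 20, 24, 30]) invC_E8 one_ne_zero lists_E8 hrq
        (by norm_num) (by rw [h2]; decide) (by rw [h2]; exact cert_E8_3) (by rw [h2]; decide) (by norm_num)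
        (hX_E8 hq) (by norm_num) P
      exact ⟨_, _, ⟨e⟩⟩
    · refine AbP.of_equiv fun P => ?_
      obtain ⟨e⟩ := sylow_cert hq hp (degs := [2, 8, 12, 14, 18, 20, 24, 30]) invC_E8 one_ne_zero lists_E8 hrq
        (by norm_num) (by rw [h2]; decide) (by rw [h2]; exact cert_E8_6) (by rw [h2]; decide) (by norm_num)
        (hX_E8 hq) (by norm_num) P
      exact ⟨_, _, ⟨e⟩⟩
  · refine abP_weyl (F := F) (Cfsg.Lie.chevE8, [2, 8, 12, 14, 18, 20, 24, 30]) (by simp) r (by rwa [hq]) ?_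
    intro h1
    have h2 : r ∣ 2 ^ 14 * 3 ^ 5 * 5 ^ 2 * 7 := by simpa using h1
    rcases (Nat.Prime.dvd_mul hr.out).1 h2 with h3 | h3
    · rcases (Nat.Prime.dvd_mul hr.out).1 h3 with h3 | h3
      · rcases (Nat.Prime.dvd_mul hr.out).1 h3 with h3 | h3
        · have := Nat.le_of_dvd (by norm_num) (hr.out.dvd_of_dvd_pow h3); omega
        · have := Nat.le_of_dvd (by norm_num) (hr.out.dvd_of_dvd_pow h3); omega
      · have := Nat.le_of_dvd (by norm_num) (hr.out.dvd_of_dvd_pow h3); omega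
    · exact hr7 ((Nat.prime_dvd_prime_iff_eq hr.out (by norm_num)).1 h3)

end E8

section small

variable {F : Type*} [Field F] [Fintype F] {q : ℕ} (hq : Fintype.card F = q)

theorem not_dvd_two_three {r a b : ℕ} [hr : Fact r.Prime] (h5 : 5 ≤ r) : ¬ r ∣ 2 ^ a * 3 ^ b := by
  intro h3
  rcases (Nat.Prime.dvd_mul hr.out).1 h3 with h3 | h3
  · have := Nat.le_of_dvd (by norm_num) (hr.out.dvd_of_dvd_pow h3); omega
  · have := Nat.le_of_dvd (by norm_num) (hr.out.dvd_of_dvd_pow h3); omega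

include hq in
/-- **`G₂(q)`** -/
theorem G2 {r : ℕ} [hr : Fact r.Prime] (hrq : ¬ r ∣ q) (h5 : 5 ≤ r) : AbP r ↥(Cfsg.Lie.chevG2.group F) := by
  refine abP_weyl (F := F) (Cfsg.Lie.chevG2, [2, 6]) (by simp) r (by rwa [hq]) fun h1 => ?_
  exact not_dvd_two_three (a := 2) (b := 1) h5 (by simpa using h1)

include hq in
/-- **`B₂(q)`** -/
theorem B2 {r : ℕ} [hr : Fact r.Prime] (hrq : ¬ r ∣ q) (h5 : 5 ≤ r) : AbP r ↥(Cfsg.Lie.chevB2.group F) := by
  refine abP_weyl (F := F) (Cfsg.Lie.chevB2, [2, 4]) (by simp) r (by rwa [hq]) fun h1 => ?_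
  exact not_dvd_two_three (a := 3) (b := 0) h5 (by simpa using h1)

include hq in
/-- **`D₄(q)`** -/
theorem D4 {r : ℕ} [hr : Fact r.Prime] (hrq : ¬ r ∣ q) (h5 : 5 ≤ r) : AbP r ↥(Cfsg.Lie.chevD4.group F) := by
  refine abP_weyl (F := F) (Cfsg.Lie.chevD4, [2, 4, 4, 6]) (by simp) r (by rwa [hq]) fun h1 => ?_
  exact not_dvd_two_three (a := 6) (b := 1) h5 (by simpa using h1)

include hq in
/-- **`F₄(q)`** -/
theorem F4 {r : ℕ} [hr : Fact r.Prime] (hrq : ¬ r ∣ q) (h5 : 5 ≤ r) : AbP r ↥(Cfsg.Lie.chevF4.group F) := by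
  refine abP_weyl (F := F) (Cfsg.Lie.chevF4, [2, 6, 8, 12]) (by simp) r (by rwa [hq]) fun h1 => ?_
  exact not_dvd_two_three (a := 7) (b := 2) h5 (by simpa using h1)

end small

end Cfsg.Agent.H790.ExcAb
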