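import Cfsg.Agent.H790.SuperGrp

/-!
# Chains with cyclic factors and groups of automorphisms (helper790)

`CC A U`: the subgroup `U` of `P` is reached from the trivial subgroup by a chain of `A`-invariant subgroups, each (but the
last) normal in `P`, with cyclic steps. Then (`pow_of_cc`, `comm_of_cc`) every `a ^ (p - 1)`, `a ∈ A`, and every commutator
of elements of `A` acts on `U` with `p`-power order, if `P` is a finite `p`-group.
-/

set_option autoImplicit false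

namespace Cfsg.Agent.H790

/-- In a cyclic group `⟨y⟩` of finite order the order of an element decides membership in subgroups. -/
theorem mem_zpowers_of_orderOf_dvd {Q : Type*} [Group Q] {y a b : Q} (hy : IsOfFinOrder y)
    (ha : a ∈ Subgroup.zpowers y) (hb : b ∈ Subgroup.zpowers y) (h : orderOf b ∣ orderOf a) :
    b ∈ Subgroup.zpowers a := by
  rw [← SetLike.mem_coe, ← hy.powers_eq_zpowers] at ha hb
  obtain ⟨i, rfl⟩ := ha
  obtain ⟨j, rfl⟩ := hb
  simp only at h ⊢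
  have hN0 : 0 < orderOf y := hy.orderOf_pos
  rw [hy.orderOf_pow, hy.orderOf_pow] at h
  have h1 : (orderOf y).gcd i ∣ (orderOf y).gcd j := by
    obtain ⟨c, hc⟩ := h
    have h2 := Nat.div_mul_cancel (Nat.gcd_dvd_left (orderOf y) i)
    have h3 := Nat.div_mul_cancel (Nat.gcd_dvd_left (orderOf y) j)
    have h4 : 0 < orderOf y / (orderOf y).gcd j :=
      Nat.div_pos (Nat.le_of_dvd hN0 (Nat.gcd_dvd_left _ _)) (Nat.gcd_pos_of_pos_left _ hN0)
    refine ⟨c, ?_⟩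
    have h5 : orderOf y / (orderOf y).gcd j * (orderOf y).gcd j =
        orderOf y / (orderOf y).gcd j * ((orderOf y).gcd i * c) := by
      rw [h3, ← mul_assoc, mul_comm (orderOf y / (orderOf y).gcd j), mul_assoc, ← hc, mul_comm, h2]
    exact Nat.eq_of_mul_eq_mul_left h4 h5
  have h2 : (orderOf y).gcd i ∣ j := h1.trans (Nat.gcd_dvd_right _ _)
  obtain ⟨c, hc⟩ := h2
  have h3 : y ^ ((orderOf y).gcd i) ∈ Subgroup.zpowers (y ^ i) := by
    rw [Subgroup.mem_zpowers_iff]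
    refine ⟨(orderOf y).gcdB i, ?_⟩
    have h4 := Nat.gcd_eq_gcd_ab (orderOf y) i
    have h5 : y ^ ((orderOf y).gcd i : ℤ) = (y ^ i) ^ ((orderOf y).gcdB i) := by
      rw [h4, zpow_add, zpow_mul, zpow_mul, zpow_natCast, zpow_natCast, pow_orderOf_eq_one, one_zpow, one_mul]
    rw [← h5, zpow_natCast]
  show y ^ j ∈ _
  rw [hc, pow_mul]
  exact Subgroup.pow_mem _ h3 c

/-- An automorphism `f` leaving `⟨y⟩` invariant, `y` of `p`-power order: some `f ^ ((p - 1) p ^ N)` fixes `y`. -/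
theorem exists_pow_fix {p : ℕ} [Fact p.Prime] {Q : Type*} [Group Q] [Finite Q] (hQ : IsPGroup p Q)
    (f : MulAut Q) (y : Q) (h : f y ∈ Subgroup.zpowers y) : ∃ N : ℕ, (f ^ ((p - 1) * p ^ N)) y = y := by
  obtain ⟨k, hk⟩ := IsPGroup.iff_orderOf.1 hQ y
  rw [← SetLike.mem_coe, ← (isOfFinOrder_of_finite y).powers_eq_zpowers] at h
  obtain ⟨n, hn⟩ := h
  simp only at hn
  have hcop : n.Coprime (orderOf y) := by
    have h1 : orderOf (y ^ n) = orderOf y := by rw [hn]; exact MulEquiv.orderOf_eq f y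
    rw [orderOf_pow] at h1
    have h2 := Nat.div_mul_cancel (Nat.gcd_dvd_left (orderOf y) n)
    rw [h1] at h2
    have h3 : 0 < orderOf y := orderOf_pos y
    have h4 : (orderOf y).gcd n = 1 := Nat.eq_of_mul_eq_mul_left h3 (h2.trans (mul_one _).symm)
    exact Nat.Coprime.symm h4
  have hit : ∀ j : ℕ, (f ^ j) y = y ^ (n ^ j) := by
    intro j
    induction j with
    | zero => simp
    | succ j ih => rw [pow_succ, MulAut.mul_apply, ← hn, map_pow, ih, ← pow_mul, pow_succ]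
  refine ⟨k, ?_⟩
  rw [hit]
  have h1 : n ^ ((p - 1) * p ^ k) ≡ 1 [MOD orderOf y] := by
    have h2 : (orderOf y).totient ∣ (p - 1) * p ^ k := by
      rw [hk]
      rcases Nat.eq_zero_or_pos k with h0 | h0
      · subst h0; simp
      · rw [Nat.totient_prime_pow Fact.out h0, mul_comm]
        exact mul_dvd_mul_left _ (pow_dvd_pow p (Nat.sub_le k 1))
    obtain ⟨c, hc⟩ := h2
    have h3 := (Nat.ModEq.pow_totient hcop).pow c
    rwa [← pow_mul, one_pow, ← hc] at h3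
  have h4 := (pow_eq_pow_iff_modEq (x := y)).2 h1
  rw [h4, pow_one]

/-- Automorphisms leaving `⟨y⟩` invariant commute on `y`. -/
theorem comm_fix {Q : Type*} [Group Q] (f g : MulAut Q) (y : Q) (hf : f y ∈ Subgroup.zpowers y)
    (hg : g y ∈ Subgroup.zpowers y) : (f⁻¹ * g⁻¹ * f * g) y = y := by
  obtain ⟨m, hm⟩ := hf
  obtain ⟨n, hn⟩ := hg
  simp only at hm hn
  have h1 : (f * g) y = (g * f) y := by
    rw [MulAut.mul_apply, MulAut.mul_apply, ← hm, ← hn, map_zpow, map_zpow, ← hm, ← hn, ← zpow_mul, ← zpow_mul,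
      mul_comm]
  have h2 : f⁻¹ * g⁻¹ * f * g = (g * f)⁻¹ * (f * g) := by group
  rw [h2, MulAut.mul_apply, h1, ← MulAut.mul_apply, inv_mul_cancel, MulAut.one_apply]

/-- The action of an invariant group of automorphisms on the quotient. -/
def quotAct {P : Type*} [Group P] [Finite P] (A : Subgroup (MulAut P)) (T : Subgroup P) [T.Normal]
    (hT : ∀ a ∈ A, ∀ t ∈ T, a t ∈ T) : A →* MulAut (P ⧸ T) where
  toFun a := QuotientGroup.congr T T (a : MulAut P) (by
    apply le_antisymm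
    · rintro _ ⟨t, ht, rfl⟩
      exact hT a a.2 t ht
    · intro t ht
      exact ⟨(a : MulAut P)⁻¹ t, hT _ (A.inv_mem a.2) t ht, (a : MulAut P).apply_symm_apply t⟩)
  map_one' := by
    ext x
    obtain ⟨x, rfl⟩ := QuotientGroup.mk_surjective x
    rfl
  map_mul' a b := by
    ext x
    obtain ⟨x, rfl⟩ := QuotientGroup.mk_surjective x
    rfl

theorem quotAct_mk {P : Type*} [Group P] [Finite P] (A : Subgroup (MulAut P)) (T : Subgroup P) [T.Normal]
    (hT : ∀ a ∈ A, ∀ t ∈ T, a t ∈ T) (a : A) (x : P) :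
    quotAct A T hT a (x : P ⧸ T) = (((a : MulAut P) x : P) : P ⧸ T) := rfl

/-- Chains of invariant subgroups with cyclic steps. -/
inductive CC {P : Type*} [Group P] (A : Subgroup (MulAut P)) : Subgroup P → Prop
  | bot : CC A ⊥
  | step {T U : Subgroup P} (x : P) : CC A T → T.Normal → (∀ a ∈ A, ∀ t ∈ T, a t ∈ T) →
      (∀ a ∈ A, ∀ u ∈ U, a u ∈ U) → U = T ⊔ Subgroup.zpowers x → CC A U

section cc

variable {P : Type*} [Group P]

theorem mk_mem_zpowers {T U : Subgroup P} [T.Normal] {x : P} (hU : U = T ⊔ Subgroup.zpowers x) {u : P}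
    (hu : u ∈ U) : ((u : P) : P ⧸ T) ∈ Subgroup.zpowers ((x : P) : P ⧸ T) := by
  rw [hU] at hu
  obtain ⟨t, ht, y, ⟨k, rfl⟩, rfl⟩ := Subgroup.mem_sup_of_normal_left.1 hu
  refine ⟨k, ?_⟩
  have h1 : ((t : P) : P ⧸ T) = 1 := (QuotientGroup.eq_one_iff t).2 ht
  rw [QuotientGroup.mk_mul, h1, one_mul]
  rfl

theorem mem_of_mk_mem_zpowers {T U : Subgroup P} [T.Normal] {x : P} (hU : U = T ⊔ Subgroup.zpowers x) {u : P}
    (hu : ((u : P) : P ⧸ T) ∈ Subgroup.zpowers ((x : P) : P ⧸ T)) : u ∈ U := by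
  obtain ⟨k, hk⟩ := hu
  have h1 : ((x ^ k : P) : P ⧸ T) = ((u : P) : P ⧸ T) := hk
  have h2 := QuotientGroup.eq.1 h1
  have h3 : u = x ^ k * ((x ^ k)⁻¹ * u) := by group
  rw [h3, hU]
  exact Subgroup.mul_mem _ (Subgroup.mem_sup_right ⟨k, rfl⟩) (Subgroup.mem_sup_left h2)

/-- An automorphism trivial on `T` and on `U` modulo `T` has `p`-power order on `U`. -/
theorem pow_fix_of_step {T U : Subgroup P} (κ : MulAut P) (n : ℕ) (hn : ∀ t ∈ T, t ^ n = 1)
    (hT : ∀ t ∈ T, κ t = t) (hU : ∀ u ∈ U, u⁻¹ * κ u ∈ T) : ∀ u ∈ U, (κ ^ n) u = u := by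
  intro u hu
  have h1 : ∀ j : ℕ, (κ ^ j) u = u * (u⁻¹ * κ u) ^ j := by
    intro j
    induction j with
    | zero => simp
    | succ j ih =>
      rw [pow_succ', MulAut.mul_apply, ih, map_mul, map_pow, hT _ (hU u hu), pow_succ' (u⁻¹ * κ u), ← mul_assoc,
        mul_inv_cancel_left]
  rw [h1, hn _ (hU u hu), mul_one]

/-- **Powers.** -/
theorem pow_of_cc [Finite P] {p : ℕ} [Fact p.Prime] (hP : IsPGroup p P) {A : Subgroup (MulAut P)}
    {U : Subgroup P} (h : CC A U) : ∀ a ∈ A, ∃ N : ℕ, ∀ u ∈ U, (a ^ ((p - 1) * p ^ N)) u = u := by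
  obtain ⟨e, he⟩ := IsPGroup.iff_card.1 hP
  have hexp : ∀ t : P, t ^ p ^ e = 1 := fun t => by rw [← he]; exact pow_card_eq_one'
  induction h with
  | bot =>
    intro a _
    refine ⟨0, fun u hu => ?_⟩
    rw [Subgroup.mem_bot.1 hu, map_one]
  | @step T U x _ hTn hTA hUA hU ih =>
    intro a ha
    obtain ⟨N₁, hN₁⟩ := ih a ha
    have hQ : IsPGroup p (P ⧸ T) := hP.to_quotient T
    set f := quotAct A T hTA with hf
    have hxU : x ∈ U := by rw [hU]; exact Subgroup.mem_sup_right (Subgroup.mem_zpowers x)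
    obtain ⟨N₂, hN₂⟩ := exists_pow_fix hQ (f ⟨a, ha⟩) ((x : P) : P ⧸ T) (by
      rw [hf, quotAct_mk]
      exact mk_mem_zpowers hU (hUA a ha x hxU))
    refine ⟨N₁ + N₂ + e, ?_⟩
    have h1 : ∀ t ∈ T, (a ^ ((p - 1) * p ^ (N₁ + N₂))) t = t := by
      intro t ht
      have h2 : a ^ ((p - 1) * p ^ (N₁ + N₂)) = (a ^ ((p - 1) * p ^ N₁)) ^ p ^ N₂ := by
        rw [← pow_mul]; ring_nf
      rw [h2]
      generalize p ^ N₂ = m
      induction m with
      | zero => simp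
      | succ m ihm => rw [pow_succ, MulAut.mul_apply, hN₁ t ht, ihm]
    have h3 : ((f ⟨a, ha⟩) ^ ((p - 1) * p ^ (N₁ + N₂))) ((x : P) : P ⧸ T) = ((x : P) : P ⧸ T) := by
      have h2 : (f ⟨a, ha⟩) ^ ((p - 1) * p ^ (N₁ + N₂)) = ((f ⟨a, ha⟩) ^ ((p - 1) * p ^ N₂)) ^ p ^ N₁ := by
        rw [← pow_mul]; ring_nf
      rw [h2]
      generalize p ^ N₁ = m
      induction m with
      | zero => simp
      | succ m ihm => rw [pow_succ, MulAut.mul_apply, hN₂, ihm]
    have h4 : ∀ u ∈ U, u⁻¹ * (a ^ ((p - 1) * p ^ (N₁ + N₂))) u ∈ T := by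
      intro u hu
      rw [← QuotientGroup.eq]
      obtain ⟨k, hk⟩ := mk_mem_zpowers hU hu
      have h5 : (((a ^ ((p - 1) * p ^ (N₁ + N₂))) u : P) : P ⧸ T) =
          ((f ⟨a, ha⟩) ^ ((p - 1) * p ^ (N₁ + N₂))) ((u : P) : P ⧸ T) := by
        rw [← map_pow, hf, quotAct_mk]
        rfl
      rw [h5, ← hk]
      simp only
      rw [map_zpow, h3]
    have h6 : a ^ ((p - 1) * p ^ (N₁ + N₂ + e)) = (a ^ ((p - 1) * p ^ (N₁ + N₂))) ^ p ^ e := by
      rw [← pow_mul]; ring_nf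
    rw [h6]
    exact pow_fix_of_step _ _ (fun t _ => hexp t) h1 h4

/-- **Commutators.** -/
theorem comm_of_cc [Finite P] {p : ℕ} [Fact p.Prime] (hP : IsPGroup p P) {A : Subgroup (MulAut P)}
    {U : Subgroup P} (h : CC A U) :
    ∀ a ∈ A, ∀ b ∈ A, ∃ N : ℕ, ∀ u ∈ U, ((a⁻¹ * b⁻¹ * a * b) ^ p ^ N) u = u := by
  obtain ⟨e, he⟩ := IsPGroup.iff_card.1 hP
  have hexp : ∀ t : P, t ^ p ^ e = 1 := fun t => by rw [← he]; exact pow_card_eq_one'
  induction h with
  | bot =>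
    intro a _ b _
    refine ⟨0, fun u hu => ?_⟩
    rw [Subgroup.mem_bot.1 hu, map_one]
  | @step T U x _ hTn hTA hUA hU ih =>
    intro a ha b hb
    obtain ⟨N₁, hN₁⟩ := ih a ha b hb
    have hc : a⁻¹ * b⁻¹ * a * b ∈ A :=
      A.mul_mem (A.mul_mem (A.mul_mem (A.inv_mem ha) (A.inv_mem hb)) ha) hb
    set f := quotAct A T hTA with hf
    have hxU : x ∈ U := by rw [hU]; exact Subgroup.mem_sup_right (Subgroup.mem_zpowers x)
    have h0 : ((f ⟨a, ha⟩)⁻¹ * (f ⟨b, hb⟩)⁻¹ * f ⟨a, ha⟩ * f ⟨b, hb⟩) ((x : P) : P ⧸ T) = ((x : P) : P ⧸ T) := by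
      apply comm_fix
      · rw [hf, quotAct_mk]
        exact mk_mem_zpowers hU (hUA a ha x hxU)
      · rw [hf, quotAct_mk]
        exact mk_mem_zpowers hU (hUA b hb x hxU)
    have h0' : f ⟨_, hc⟩ ((x : P) : P ⧸ T) = ((x : P) : P ⧸ T) := by
      have h1 : (⟨_, hc⟩ : A) = (⟨a, ha⟩ : A)⁻¹ * (⟨b, hb⟩ : A)⁻¹ * ⟨a, ha⟩ * ⟨b, hb⟩ := rfl
      rw [h1, map_mul, map_mul, map_mul, map_inv, map_inv]
      exact h0
    refine ⟨N₁ + e, ?_⟩
    have h3 : ((f ⟨_, hc⟩) ^ (p ^ N₁)) ((x : P) : P ⧸ T) = ((x : P) : P ⧸ T) := by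
      generalize p ^ N₁ = m
      induction m with
      | zero => simp
      | succ m ihm => rw [pow_succ, MulAut.mul_apply, h0', ihm]
    have h4 : ∀ u ∈ U, u⁻¹ * ((a⁻¹ * b⁻¹ * a * b) ^ p ^ N₁) u ∈ T := by
      intro u hu
      rw [← QuotientGroup.eq]
      obtain ⟨k, hk⟩ := mk_mem_zpowers hU hu
      have h5 : ((((a⁻¹ * b⁻¹ * a * b) ^ p ^ N₁) u : P) : P ⧸ T) =
          ((f ⟨_, hc⟩) ^ p ^ N₁) ((u : P) : P ⧸ T) := by
        rw [← map_pow, hf, quotAct_mk]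
        rfl
      rw [h5, ← hk]
      simp only
      rw [map_zpow, h3]
    have h6 : (a⁻¹ * b⁻¹ * a * b) ^ p ^ (N₁ + e) = ((a⁻¹ * b⁻¹ * a * b) ^ p ^ N₁) ^ p ^ e := by
      rw [← pow_mul]; ring_nf
    rw [h6]
    exact pow_fix_of_step _ _ (fun t _ => hexp t) hN₁ h4

/-- An element of order prime to `p` with a power `a ^ (m p ^ N) = 1` satisfies `a ^ m = 1`. -/
theorem pow_eq_one_of_coprime {G : Type*} [Group G] {p m N : ℕ} {a : G} (ha : (orderOf a).Coprime p)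
    (h : a ^ (m * p ^ N) = 1) : a ^ m = 1 := by
  rw [← orderOf_dvd_iff_pow_eq_one] at h ⊢
  exact (Nat.Coprime.pow_right N ha).dvd_of_dvd_mul_right h

/-- A `p'`-group of automorphisms leaving a chain with cyclic steps invariant. -/
theorem abelian_of_cc [Finite P] {p : ℕ} [Fact p.Prime] (hP : IsPGroup p P) {A : Subgroup (MulAut P)}
    (h : CC A ⊤) (H : Subgroup (MulAut P)) (hHA : H ≤ A) (hH : (Nat.card H).Coprime p) :
    IsMulCommutative H ∧ ∀ a ∈ H, a ^ (p - 1) = 1 := by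
  have := finite_mulAut P
  have hord : ∀ a ∈ H, (orderOf a).Coprime p := by
    intro a ha
    have h1 : orderOf a ∣ Nat.card H := by
      have := orderOf_dvd_natCard (⟨a, ha⟩ : H)
      rwa [Subgroup.orderOf_mk] at this
    exact Nat.Coprime.coprime_dvd_left h1 hH
  constructor
  · refine ⟨⟨fun a b => Subtype.ext ?_⟩⟩
    obtain ⟨a, ha⟩ := a
    obtain ⟨b, hb⟩ := b
    show a * b = b * a
    obtain ⟨N, hN⟩ := comm_of_cc hP h a (hHA ha) b (hHA hb)
    have h1 : (a⁻¹ * b⁻¹ * a * b) ^ (1 * p ^ N) = 1 := by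
      rw [one_mul]
      ext u
      exact hN u (Subgroup.mem_top u)
    have h2 := pow_eq_one_of_coprime (hord _
      (H.mul_mem (H.mul_mem (H.mul_mem (H.inv_mem ha) (H.inv_mem hb)) ha) hb)) h1
    rw [pow_one] at h2
    have h3 : b * a * (a⁻¹ * b⁻¹ * a * b) = a * b := by group
    rw [← h3, h2, mul_one]
  · intro a ha
    obtain ⟨N, hN⟩ := pow_of_cc hP h a (hHA ha)
    refine pow_eq_one_of_coprime (N := N) (hord a ha) ?_
    ext u
    exact hN u (Subgroup.mem_top u)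

end cc

end Cfsg.Agent.H790
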