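import Cfsg.Agent.H790.IrrCrit

/-!
# The criterion `IrrHyp` from coordinates (helper790)

`T` is described by four characters `b j` with values in a field; `n1`, `n2` act by signs, `n3` permutes the
coordinates cyclically (up to exponents prime to `p`).
-/

set_option autoImplicit false
set_option linter.unusedSectionVars false

namespace Cfsg.Agent.H790.IrrCoord

open Subgroup Cfsg.Agent.H790.IrrCrit

/-- coordinates -/
structure Coord {G : Type*} [Group G] {k : Type*} [Field k] (p m : ℕ) (T : Subgroup G) (b : Fin 4 → G → k)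
    (n1 n2 n3 : G) (κ : Fin 4 → ℤ) : Prop where
  comm : ∀ a ∈ T, ∀ b ∈ T, a * b = b * a
  mul : ∀ j, ∀ s ∈ T, ∀ t ∈ T, b j (s * t) = b j s * b j t
  inj : ∀ t ∈ T, (∀ j, b j t = 1) → t = 1
  exp : ∀ t ∈ T, t ^ p ^ m = 1
  nT : ∀ n ∈ ({n1, n2, n3} : Set G), ∀ t ∈ T, n * t * n⁻¹ ∈ T
  c1 : ∀ j, ∀ t ∈ T, b j (n1 * t * n1⁻¹) = b j t ^ (![1, 1, -1, -1] : Fin 4 → ℤ) j
  c2 : ∀ j, ∀ t ∈ T, b j (n2 * t * n2⁻¹) = b j t ^ (![1, -1, 1, -1] : Fin 4 → ℤ) j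
  c3 : ∀ j, ∀ t ∈ T, b j (n3 * t * n3⁻¹) = b (j + 1) t ^ κ j
  cop : ∀ j, IsCoprime (κ j) (p : ℤ)

theorem iter_zero : ∀ j : Fin 4, (fun x : Fin 4 => x + 1)^[(j : ℕ)] 0 = j := by decide

theorem iter_neg : ∀ l i : Fin 4, (fun x : Fin 4 => x + 1)^[((-i : Fin 4) : ℕ)] l = l - i := by decide

namespace Coord

variable {G : Type*} [Group G] {k : Type*} [Field k] {p m : ℕ} [hpp : Fact p.Prime] {T : Subgroup G}
  {b : Fin 4 → G → k} {n1 n2 n3 : G} {κ : Fin 4 → ℤ} (C : Coord p m T b n1 n2 n3 κ)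

include C

theorem one (j : Fin 4) : b j 1 = 1 ∨ b j 1 = 0 := by
  have h := C.mul j 1 (one_mem _) 1 (one_mem _)
  rw [mul_one] at h
  rcases eq_or_ne (b j 1) 0 with h0 | h0
  · exact Or.inr h0
  · left
    exact (mul_eq_left₀ h0).1 h.symm

theorem pow_mul' (j : Fin 4) {t : G} (ht : t ∈ T) (i : ℕ) (h1 : b j 1 = 1) : b j (t ^ i) = b j t ^ i := by
  induction i with
  | zero => rw [pow_zero, pow_zero, h1]
  | succ i ih => rw [pow_succ, C.mul j _ (T.pow_mem ht i) _ ht, ih, pow_succ]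

variable (hne : ∀ j, ∀ t ∈ T, b j t ≠ 0)

include hne

theorem b_one (j : Fin 4) : b j 1 = 1 := by
  rcases C.one j with h | h
  · exact h
  · exact absurd h (hne j 1 (one_mem _))

theorem b_pow (j : Fin 4) {t : G} (ht : t ∈ T) (i : ℕ) : b j (t ^ i) = b j t ^ i :=
  C.pow_mul' j ht i (C.b_one hne j)

theorem b_exp (j : Fin 4) {t : G} (ht : t ∈ T) : b j t ^ p ^ m = 1 := by
  rw [← C.b_pow hne j ht, C.exp t ht, C.b_one hne]

omit C hne in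
/-- inverting a unit power -/
theorem unit_pow {a : k} (ha : a ^ p ^ m = 1) {c : ℤ} (hc : IsCoprime c (p : ℤ)) (ha0 : a ≠ 0) :
    ∃ e : ℕ, (a ^ c) ^ e = a := by
  have h1 : IsCoprime c ((p : ℤ) ^ m) := hc.pow_right
  obtain ⟨u, v, huv⟩ := h1
  have ha' : a ^ ((p : ℤ) ^ m) = 1 := by
    have : ((p : ℤ) ^ m) = ((p ^ m : ℕ) : ℤ) := by push_cast; rfl
    rw [this, zpow_natCast, ha]
  -- a nonnegative representative of `u`
  have hpm : (0 : ℤ) < (p : ℤ) ^ m := by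
    have := hpp.out.pos
    positivity
  refine ⟨(u % ((p : ℤ) ^ m)).toNat, ?_⟩
  have h2 : (((u % ((p : ℤ) ^ m)).toNat : ℕ) : ℤ) = u % ((p : ℤ) ^ m) :=
    Int.toNat_of_nonneg (Int.emod_nonneg _ hpm.ne')
  rw [← zpow_natCast, h2, ← zpow_mul]
  have h3 : c * (u % (p : ℤ) ^ m) = 1 + (p : ℤ) ^ m * (-v - c * (u / (p : ℤ) ^ m)) := by
    have h4 := Int.emod_add_mul_ediv u ((p : ℤ) ^ m)
    have h5 : u % (p : ℤ) ^ m = u - (p : ℤ) ^ m * (u / (p : ℤ) ^ m) := by linarith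
    rw [h5]
    linear_combination huv
  rw [h3, zpow_add₀ ha0, zpow_one, zpow_mul, ha', one_zpow, mul_one]

/-- the isolated first coordinate -/
theorem proj (h2 : p ≠ 2) {B : Subgroup G} (hBT : B ≤ T)
    (hB : ∀ n ∈ ({n1, n2, n3} : Set G), ∀ x ∈ B, n * x * n⁻¹ ∈ B) {t : G} (ht : t ∈ B) :
    ∃ s ∈ B, b 0 s = b 0 t ∧ ∀ l, l ≠ 0 → b l s = 1 := by
  have htT := hBT ht
  have h1 : n1 * t * n1⁻¹ ∈ B := hB n1 (by simp) t ht
  have h1' : t * (n1 * t * n1⁻¹) ∈ B := B.mul_mem ht h1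
  have h3 : n2 * (t * (n1 * t * n1⁻¹)) * n2⁻¹ ∈ B := hB n2 (by simp) _ h1'
  have h3' : t * (n1 * t * n1⁻¹) * (n2 * (t * (n1 * t * n1⁻¹)) * n2⁻¹) ∈ B := B.mul_mem h1' h3
  have e1 : ∀ j, b j (t * (n1 * t * n1⁻¹)) = b j t * b j t ^ (![1, 1, -1, -1] : Fin 4 → ℤ) j := fun j => by
    rw [C.mul j t htT _ (hBT h1), C.c1 j t htT]
  have e2 : ∀ j, b j (t * (n1 * t * n1⁻¹) * (n2 * (t * (n1 * t * n1⁻¹)) * n2⁻¹)) =
      b j (t * (n1 * t * n1⁻¹)) * b j (t * (n1 * t * n1⁻¹)) ^ (![1, -1, 1, -1] : Fin 4 → ℤ) j := fun j => by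
    rw [C.mul j _ (hBT h1') _ (hBT h3), C.c2 j _ (hBT h1')]
  have n0 := hne 0 t htT
  have n1' := hne 1 t htT
  have n2' := hne 2 t htT
  have n3' := hne 3 t htT
  have f0 : b 0 (t * (n1 * t * n1⁻¹) * (n2 * (t * (n1 * t * n1⁻¹)) * n2⁻¹)) = b 0 t ^ (4 : ℤ) := by
    rw [e2, e1]
    simp only [Matrix.cons_val_zero, zpow_one]
    rw [show (4 : ℤ) = ((4 : ℕ) : ℤ) by rfl, zpow_natCast]
    ring
  have f1 : ∀ l, l ≠ 0 → b l (t * (n1 * t * n1⁻¹) * (n2 * (t * (n1 * t * n1⁻¹)) * n2⁻¹)) = 1 := by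
    intro l hl
    have nl := hne l t htT
    have nl' := hne l _ (hBT h1')
    rw [e2]
    fin_cases l
    · exact absurd rfl hl
    · show b 1 (t * (n1 * t * n1⁻¹)) * b 1 (t * (n1 * t * n1⁻¹)) ^ (-1 : ℤ) = 1
      rw [zpow_neg_one]
      exact mul_inv_cancel₀ nl'
    · show b 2 (t * (n1 * t * n1⁻¹)) * b 2 (t * (n1 * t * n1⁻¹)) ^ (1 : ℤ) = 1
      have : b 2 (t * (n1 * t * n1⁻¹)) = 1 := by
        rw [e1]
        show b 2 t * b 2 t ^ (-1 : ℤ) = 1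
        rw [zpow_neg_one]
        exact mul_inv_cancel₀ nl
      rw [this, one_zpow, one_mul]
    · show b 3 (t * (n1 * t * n1⁻¹)) * b 3 (t * (n1 * t * n1⁻¹)) ^ (-1 : ℤ) = 1
      rw [zpow_neg_one]
      exact mul_inv_cancel₀ nl'
  have h4 : IsCoprime (4 : ℤ) (p : ℤ) := by
    have : Nat.Coprime (2 ^ 2) p := Nat.Coprime.pow_left 2 ((Nat.coprime_primes Nat.prime_two hpp.out).2 (Ne.symm h2))
    have h5 := Nat.isCoprime_iff_coprime.2 this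
    exact_mod_cast h5
  obtain ⟨e, he⟩ := unit_pow (p := p) (m := m) (C.b_exp hne 0 htT) h4 n0
  refine ⟨_, B.pow_mem h3' e, ?_, fun l hl => ?_⟩
  · rw [C.b_pow hne 0 (hBT h3'), f0, he]
  · rw [C.b_pow hne l (hBT h3'), f1 l hl, one_pow]

/-- the rotations -/
theorem rot (s : ℕ) : ∀ i : Fin 4, ∃ c : ℤ, IsCoprime c (p : ℤ) ∧ ∀ t ∈ T, n3 ^ s * t * (n3 ^ s)⁻¹ ∈ T ∧
    b i (n3 ^ s * t * (n3 ^ s)⁻¹) = b ((fun x : Fin 4 => x + 1)^[s] i) t ^ c := by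
  induction s with
  | zero =>
    intro i
    refine ⟨1, isCoprime_one_left, fun t ht => ?_⟩
    have h1 : n3 ^ 0 * t * (n3 ^ 0)⁻¹ = t := by group
    rw [h1, zpow_one]
    exact ⟨ht, rfl⟩
  | succ s ih =>
    intro i
    obtain ⟨c, hc, h1⟩ := ih (i + 1)
    refine ⟨c * κ i, hc.mul_left (C.cop i), fun t ht => ?_⟩
    obtain ⟨h2, h3⟩ := h1 t ht
    have e : n3 ^ (s + 1) * t * (n3 ^ (s + 1))⁻¹ = n3 * (n3 ^ s * t * (n3 ^ s)⁻¹) * n3⁻¹ := by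
      rw [pow_succ']; group
    rw [e]
    refine ⟨C.nT n3 (by simp) _ h2, ?_⟩
    rw [C.c3 i _ h2, h3, zpow_mul]
    rfl

/-- moving a value to another coordinate -/
theorem spread (h2 : p ≠ 2) {B : Subgroup G} (hBT : B ≤ T)
    (hB : ∀ n ∈ ({n1, n2, n3} : Set G), ∀ x ∈ B, n * x * n⁻¹ ∈ B) {t : G} (ht : t ∈ B) (j i : Fin 4) :
    ∃ s ∈ B, b i s = b j t ∧ ∀ l, l ≠ i → b l s = 1 := by
  have hBn : ∀ s : ℕ, ∀ x ∈ B, n3 ^ s * x * (n3 ^ s)⁻¹ ∈ B := by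
    intro s
    induction s with
    | zero => intro x hx; simpa using hx
    | succ s ih =>
      intro x hx
      have e : n3 ^ (s + 1) * x * (n3 ^ (s + 1))⁻¹ = n3 * (n3 ^ s * x * (n3 ^ s)⁻¹) * n3⁻¹ := by
        rw [pow_succ']; group
      rw [e]
      exact hB n3 (by simp) _ (ih x hx)
  -- first to coordinate `0`
  obtain ⟨t1, ht1, e1⟩ : ∃ t1 ∈ B, b 0 t1 = b j t := by
    obtain ⟨c, hc, h3⟩ := C.rot hne (j : ℕ) 0
    obtain ⟨h4, h5⟩ := h3 t (hBT ht)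
    have h6 := iter_zero j
    rw [h6] at h5
    obtain ⟨e, he⟩ := unit_pow (p := p) (m := m) (C.b_exp hne j (hBT ht)) hc (hne j t (hBT ht))
    exact ⟨_, B.pow_mem (hBn j t ht) e, by rw [C.b_pow hne 0 h4, h5, he]⟩
  obtain ⟨t2, ht2, e2, e3⟩ := C.proj hne h2 hBT hB ht1
  -- then to coordinate `i`
  have hs : ∀ l, ∃ c : ℤ, IsCoprime c (p : ℤ) ∧ b l (n3 ^ (((-i : Fin 4) : ℕ)) * t2 * (n3 ^ (((-i : Fin 4) : ℕ)))⁻¹) =
      b (l - i) t2 ^ c := by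
    intro l
    obtain ⟨c, hc, h3⟩ := C.rot hne (((-i : Fin 4) : ℕ)) l
    obtain ⟨h4, h5⟩ := h3 t2 (hBT ht2)
    refine ⟨c, hc, ?_⟩
    rw [h5, iter_neg]
  have ht3 := hBn (((-i : Fin 4) : ℕ)) t2 ht2
  obtain ⟨c, hc, h5⟩ := hs i
  rw [sub_self] at h5
  obtain ⟨e, he⟩ := unit_pow (p := p) (m := m) (C.b_exp hne 0 (hBT ht2)) hc (hne 0 t2 (hBT ht2))
  refine ⟨_, B.pow_mem ht3 e, ?_, fun l hl => ?_⟩
  · rw [C.b_pow hne i (hBT ht3), h5, he, e2, e1]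
  · obtain ⟨c', -, h6⟩ := hs l
    rw [C.b_pow hne l (hBT ht3), h6, e3 _ (sub_ne_zero.2 hl), one_zpow, one_pow]

/-- **the hull** -/
theorem mem_of (h2 : p ≠ 2) {B : Subgroup G} (hBT : B ≤ T)
    (hB : ∀ n ∈ ({n1, n2, n3} : Set G), ∀ x ∈ B, n * x * n⁻¹ ∈ B) {t : G} (ht : t ∈ B) (j : Fin 4) {u : G}
    (hu : u ∈ T) (h : ∀ i, ∃ e : ℕ, b i u = b j t ^ e) : u ∈ B := by
  choose e he using h
  have hsp := fun i => C.spread hne h2 hBT hB ht j i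
  choose s hs hs1 hs2 using hsp
  have hprod : s 0 ^ e 0 * s 1 ^ e 1 * s 2 ^ e 2 * s 3 ^ e 3 ∈ B :=
    B.mul_mem (B.mul_mem (B.mul_mem (B.pow_mem (hs 0) _) (B.pow_mem (hs 1) _)) (B.pow_mem (hs 2) _))
      (B.pow_mem (hs 3) _)
  have hval : ∀ l, b l (s 0 ^ e 0 * s 1 ^ e 1 * s 2 ^ e 2 * s 3 ^ e 3) = b l u := by
    intro l
    have m0 := T.pow_mem (hBT (hs 0)) (e 0)
    have m1 := T.pow_mem (hBT (hs 1)) (e 1)
    have m2 := T.pow_mem (hBT (hs 2)) (e 2)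
    have m3 := T.pow_mem (hBT (hs 3)) (e 3)
    rw [C.mul l _ (T.mul_mem (T.mul_mem m0 m1) m2) _ m3, C.mul l _ (T.mul_mem m0 m1) _ m2, C.mul l _ m0 _ m1,
      C.b_pow hne l (hBT (hs 0)), C.b_pow hne l (hBT (hs 1)), C.b_pow hne l (hBT (hs 2)), C.b_pow hne l (hBT (hs 3))]
    have key : ∀ i, b l (s i) ^ e i = if l = i then b l u else 1 := by
      intro i
      by_cases hl : l = i
      · subst hl
        rw [if_pos rfl, hs1, he]
      · rw [if_neg hl, hs2 i l hl, one_pow]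
    rw [key, key, key, key]
    fin_cases l <;> simp
  have h1 : u * (s 0 ^ e 0 * s 1 ^ e 1 * s 2 ^ e 2 * s 3 ^ e 3)⁻¹ = 1 := by
    have hmT := T.mul_mem hu (T.inv_mem (hBT hprod))
    refine C.inj _ hmT fun l => ?_
    have h3 := C.mul l _ hmT _ (hBT hprod)
    rw [inv_mul_cancel_right, hval] at h3
    exact (mul_eq_right₀ (hne l u hu)).1 h3.symm
  rw [mul_inv_eq_one] at h1
  rw [h1]
  exact hprod

omit C hne in
/-- powers of a nontrivial element -/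
theorem pow_of_ne_one {c a : k} (hc1 : c ≠ 1) (hc : c ^ p ^ m = 1) (ha : a ^ p = 1) : ∃ e : ℕ, a = c ^ e := by
  obtain ⟨s, hs, h1⟩ := (Nat.dvd_prime_pow hpp.out).1 (orderOf_dvd_of_pow_eq_one hc)
  have hs0 : s ≠ 0 := by
    rintro rfl
    rw [pow_zero, orderOf_eq_one_iff] at h1
    exact hc1 h1
  obtain ⟨v, rfl⟩ := Nat.exists_eq_succ_of_ne_zero hs0
  have h2 : IsPrimitiveRoot c (p ^ (v + 1)) := by
    rw [← h1]
    exact IsPrimitiveRoot.orderOf c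
  have h3 : IsPrimitiveRoot (c ^ p ^ v) p := h2.pow (pow_pos hpp.out.pos _) (by rw [pow_succ])
  obtain ⟨i, -, hi⟩ := h3.eq_pow_of_pow_eq_one ha
  exact ⟨p ^ v * i, by rw [pow_mul, hi]⟩

/-- **`IrrHyp` from coordinates.** -/
theorem irrHyp (h2 : p ≠ 2) (hm : 0 < m) {x0 t0 : G} (norm : ∀ t ∈ T, x0 * t * x0⁻¹ ∈ T) (pow : x0 ^ p = 1)
    (t0T : t0 ∈ T) (conj : ∃ g, g * x0 * g⁻¹ = t0)
    (hprim : ∃ t ∈ T, ∃ j, IsPrimitiveRoot (b j (x0 * t * x0⁻¹ * t⁻¹)) (p ^ m)) :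
    IrrHyp p T x0 t0 ({n1, n2, n3} : Set G) where
  comm := C.comm
  exp := ⟨m, C.exp⟩
  norm := norm
  pow := pow
  t0T := t0T
  conj := conj
  nontriv := by
    obtain ⟨t, ht, j, h⟩ := hprim
    refine ⟨t, ht, fun h3 => ?_⟩
    have h4 : x0 * t * x0⁻¹ * t⁻¹ = 1 := by rw [h3]; group
    rw [h4, C.b_one hne] at h
    have h5 := h.unique IsPrimitiveRoot.one
    exact (Nat.one_lt_pow hm.ne' hpp.out.one_lt).ne' h5
  normN := C.nT
  one := by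
    intro B hBT hBne hB
    obtain ⟨⟨y, hy⟩, hy1⟩ := Subgroup.ne_bot_iff_exists_ne_one.1 hBne
    have hy1' : y ≠ 1 := fun h => hy1 (Subtype.ext h)
    obtain ⟨j, hj⟩ : ∃ j, b j y ≠ 1 := by
      by_contra hcon
      push Not at hcon
      exact hy1' (C.inj y (hBT hy) hcon)
    refine C.mem_of hne h2 hBT hB hy j t0T fun i => ?_
    obtain ⟨g, hg⟩ := conj
    have ht0p : t0 ^ p = 1 := by rw [← hg, conj_pow, pow, mul_one, mul_inv_cancel]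
    refine pow_of_ne_one (p := p) (m := m) hj (C.b_exp hne j (hBT hy)) ?_
    rw [← C.b_pow hne i t0T, ht0p, C.b_one hne]
  two := by
    intro B hBT hB hc u hu
    obtain ⟨t, ht, j, h⟩ := hprim
    refine C.mem_of hne h2 hBT hB (hc t ht) j hu fun i => ?_
    have : NeZero (p ^ m) := ⟨pow_ne_zero _ hpp.out.ne_zero⟩
    obtain ⟨e, -, he⟩ := h.eq_pow_of_pow_eq_one (C.b_exp hne i hu)
    exact ⟨e, he.symm⟩

end Coord

end Cfsg.Agent.H790.IrrCoord
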