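import Cfsg.Agent.H790.TwPair
import Cfsg.Agent.H790.IrrCoord
import Cfsg.Agent.H790.E8Data
import Cfsg.Agent.H790.TriMain
import Cfsg.Agent.S1065

/-!
# `Full 5` for `E₈(q)`, `q² ≡ -1 mod 5` (helper790)
-/

set_option autoImplicit false
set_option linter.unusedSectionVars false

namespace Cfsg.Agent.H790.E8Main

open CoxeterSystem Cfsg Cfsg.Lie Cfsg.Lie.ChevalleyDatum
open Cfsg.Agent.ChevalleyStructure Cfsg.Agent.ChevalleyStructure.Elts Cfsg.Agent.ChevalleyStructure.CoxeterGeom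
  Cfsg.Agent.ChevalleyStructure.CoxeterGeomTypes Cfsg.Agent.ChevalleyStructure.NPerm
open Cfsg.Agent.Tits.Roots Cfsg.Agent.Tits.Core Cfsg.Agent.Nodes Cfsg.Agent.Nodes.Reps Cfsg.Agent.Nodes.BNOf
  Cfsg.Agent.Nodes.RGDChev Cfsg.Agent.Nodes.Bruhat
open Cfsg.Agent.KFacts.RgdField Cfsg.Agent.KFacts.RgdChevCoord Cfsg.Agent.BpExc.TorCent Cfsg.Agent.BpExc.TorChev
open Cfsg.Agent.GpExc.Field Cfsg.Agent.BpExc.Tow Cfsg.Agent.BpExc.TowChev Cfsg.Agent.BpExc.Fr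
  Cfsg.Agent.BpExc.LangFr Cfsg.Agent.H129.TorusChar Cfsg.Agent.H129.TorusMain Cfsg.Agent.H123.ExcZ
open Cfsg.Agent.BpExc Cfsg.Agent.H795.LangT Cfsg.Agent.H795.Core Cfsg.Agent.H129.WData
  Cfsg.Agent.H795.NotAbT Cfsg.Agent.H795.NotAbCert Cfsg.Agent.H790.TwFix Cfsg.Agent.H629.ExcTor Cfsg.Agent.H790.TriV
  Cfsg.Agent.H790.E8Data Cfsg.Agent.H790.TwLevi Cfsg.Agent.H790.TwPair Cfsg.Agent.H629.ExcLevi
  Cfsg.Agent.H790.IrrCrit Cfsg.Agent.H790.IrrCoord Cfsg.Agent.H790.TriMain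
  Cfsg.Agent.TitsThree.KExcRT Cfsg.Agent.H629

universe u v

/-! ### arithmetic -/

/-- the `5`-part of the order -/
theorem not_dvd_ord {x Q c : ℤ} {m : ℕ} (hx : Q = x ^ 2) (hc : Q + 1 = 5 ^ m * c) (hm : 0 < m) (hc5 : ¬ (5 : ℤ) ∣ c) :
    ¬ (5 : ℤ) ^ (4 * m + 2) ∣ x ^ 120 * (x ^ 2 - 1) * (x ^ 8 - 1) * (x ^ 12 - 1) * (x ^ 14 - 1) * (x ^ 18 - 1) *
      (x ^ 20 - 1) * (x ^ 24 - 1) * (x ^ 30 - 1) := by
  intro h
  have h5 : Prime (5 : ℤ) := Int.prime_iff_natAbs_prime.2 (by norm_num)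
  obtain ⟨b, hb⟩ : (5 : ℤ) ∣ Q + 1 := by rw [hc]; exact Dvd.dvd.mul_right (dvd_pow_self 5 hm.ne') c
  have hQ : Q = 5 * b - 1 := by linarith
  have hQz : (Q : ZMod 5) = -1 := by
    rw [hQ]
    push_cast
    have : (5 : ZMod 5) = 0 := by decide
    rw [this]; ring
  have hnd : ∀ X : ℤ, (X : ZMod 5) ≠ 0 → ¬ (5 : ℤ) ∣ X := fun X hX h => hX ((ZMod.intCast_zmod_eq_zero_iff_dvd X 5).2
    (by exact_mod_cast h))
  -- the factor `Φ₁₀`
  obtain ⟨v, hv⟩ : ∃ v, Q ^ 4 - Q ^ 3 + Q ^ 2 - Q + 1 = 5 * (1 + 5 * v) :=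
    ⟨-(2 * b) + 10 * b ^ 2 - 25 * b ^ 3 + 25 * b ^ 4, by rw [hQ]; ring⟩
  have e : x ^ 120 * (x ^ 2 - 1) * (x ^ 8 - 1) * (x ^ 12 - 1) * (x ^ 14 - 1) * (x ^ 18 - 1) *
      (x ^ 20 - 1) * (x ^ 24 - 1) * (x ^ 30 - 1) =
      5 ^ (4 * m + 1) * (Q ^ 60 * (Q - 1) * (c * (Q - 1) * (Q ^ 2 + 1)) *
        (c * ((Q - 1) * (Q ^ 2 + Q + 1) * (Q ^ 2 - Q + 1))) * (Q ^ 7 - 1) * (Q ^ 9 - 1) *
        (c * ((Q - 1) * (Q ^ 4 + Q ^ 3 + Q ^ 2 + Q + 1) * (1 + 5 * v))) *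
        (c * ((Q - 1) * (Q ^ 2 + Q + 1) * (Q ^ 2 - Q + 1) * (Q ^ 6 + 1))) * (Q ^ 15 - 1)) := by
    have e8 : x ^ 8 - 1 = 5 ^ m * (c * (Q - 1) * (Q ^ 2 + 1)) := by
      have : x ^ 8 - 1 = (Q + 1) * ((Q - 1) * (Q ^ 2 + 1)) := by rw [hx]; ring
      rw [this, hc]; ring
    have e12 : x ^ 12 - 1 = 5 ^ m * (c * ((Q - 1) * (Q ^ 2 + Q + 1) * (Q ^ 2 - Q + 1))) := by
      have : x ^ 12 - 1 = (Q + 1) * ((Q - 1) * (Q ^ 2 + Q + 1) * (Q ^ 2 - Q + 1)) := by rw [hx]; ring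
      rw [this, hc]; ring
    have e20 : x ^ 20 - 1 = 5 ^ m * 5 * (c * ((Q - 1) * (Q ^ 4 + Q ^ 3 + Q ^ 2 + Q + 1) * (1 + 5 * v))) := by
      have : x ^ 20 - 1 = (Q + 1) * ((Q - 1) * (Q ^ 4 + Q ^ 3 + Q ^ 2 + Q + 1) *
          (Q ^ 4 - Q ^ 3 + Q ^ 2 - Q + 1)) := by rw [hx]; ring
      rw [this, hv, hc]; ring
    have e24 : x ^ 24 - 1 = 5 ^ m * (c * ((Q - 1) * (Q ^ 2 + Q + 1) * (Q ^ 2 - Q + 1) * (Q ^ 6 + 1))) := by
      have : x ^ 24 - 1 = (Q + 1) * ((Q - 1) * (Q ^ 2 + Q + 1) * (Q ^ 2 - Q + 1) * (Q ^ 6 + 1)) := by rw [hx]; ring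
      rw [this, hc]; ring
    have e2 : x ^ 2 - 1 = Q - 1 := by rw [hx]
    have e14 : x ^ 14 - 1 = Q ^ 7 - 1 := by rw [hx]; ring
    have e18 : x ^ 18 - 1 = Q ^ 9 - 1 := by rw [hx]; ring
    have e30 : x ^ 30 - 1 = Q ^ 15 - 1 := by rw [hx]; ring
    have e120 : x ^ 120 = Q ^ 60 := by rw [hx]; ring
    have ep : (5 : ℤ) ^ (4 * m + 1) = 5 ^ m * 5 ^ m * (5 ^ m * 5) * 5 ^ m := by ring
    rw [e2, e8, e12, e14, e18, e20, e24, e30, e120, ep]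
    generalize (5 : ℤ) ^ m = P
    generalize Q ^ 60 = Q60
    generalize Q ^ 15 - 1 = Q15
    generalize Q ^ 7 - 1 = Q7
    generalize Q ^ 9 - 1 = Q9
    generalize (Q - 1) * (Q ^ 2 + Q + 1) * (Q ^ 2 - Q + 1) * (Q ^ 6 + 1) = X1
    generalize (Q - 1) * (Q ^ 4 + Q ^ 3 + Q ^ 2 + Q + 1) * (1 + 5 * v) = X2
    generalize (Q - 1) * (Q ^ 2 + Q + 1) * (Q ^ 2 - Q + 1) = X3
    generalize Q ^ 2 + 1 = X4
    ring
  rw [e, show 4 * m + 2 = (4 * m + 1) + 1 by ring, pow_succ] at h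
  have h6 := Int.dvd_of_mul_dvd_mul_left (pow_ne_zero (4 * m + 1) (by norm_num : (5 : ℤ) ≠ 0)) h
  revert h6
  have hcz : ((c : ℤ) : ZMod 5) ≠ 0 := fun h => hc5 (by
    have := (ZMod.intCast_zmod_eq_zero_iff_dvd c 5).1 h
    exact_mod_cast this)
  refine hnd _ ?_
  push_cast
  rw [hQz]
  have h50 : (5 : ZMod 5) = 0 := by decide
  rw [h50, zero_mul, add_zero]
  generalize ((c : ℤ) : ZMod 5) = y at hcz
  revert y
  decide

/-- the exponent `q² + 1` on a `5`-element -/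
theorem pow_of_two {k : Type*} [Field k] {a : k} {P C N : ℕ} (hC : ¬ 5 ∣ C)
    (h : a ^ (P * C) = 1) (hN : a ^ 5 ^ N = 1) : a ^ P = 1 := by
  obtain ⟨s, hs, h1⟩ := (Nat.dvd_prime_pow Nat.prime_five).1 (orderOf_dvd_of_pow_eq_one hN)
  have h2 : orderOf a ∣ P * C := orderOf_dvd_of_pow_eq_one h
  rw [h1] at h2
  have h3 : 5 ^ s ∣ P := by
    refine Nat.Coprime.dvd_of_dvd_mul_right ?_ h2
    exact Nat.Coprime.pow_left s ((Nat.Prime.coprime_iff_not_dvd Nat.prime_five).2 hC)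
  rw [← h1] at h3
  exact orderOf_dvd_iff_pow_eq_one.1 h3

/-! ### the twisted action -/

section Theta

variable {θ : (Fin 8 → ℤ) ≃+ (Fin 8 → ℤ)} (hTh : ∀ j, θ (sr j) = wwM j)

include hTh

theorem theta_apply (x : Fin 8 → ℤ) (m : Fin 8) : θ x m = ∑ n, x n * wwM n m :=
  apply_of_sr (f := θ.toAddMonoidHom) (U := wwM) hTh x m

theorem theta_sq (x : Fin 8 → ℤ) : θ (θ x) = -x := by
  refine addHom_ext (f := θ.toAddMonoidHom.comp θ.toAddMonoidHom) (f' := -AddMonoidHom.id _) (fun j => ?_) x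
  show θ (θ (sr j)) = -(sr j)
  rw [hTh]
  funext m
  rw [theta_apply hTh, ww_sq, Pi.neg_apply, sr_apply']
  split <;> rfl

theorem theta_av (j : Fin 4) : θ (av j) = wav j := by
  funext m
  rw [theta_apply hTh, wav_eq]

theorem theta_x1 : θ x1 = y0 := by
  funext m
  rw [theta_apply hTh, chk_y0]

theorem theta_x2 : θ x2 = x3 := by
  funext m
  rw [theta_apply hTh, chk_x3]

end Theta

section Main

variable {k : Type u} [Field k] [IsAlgClosed k] {r e : ℕ} [Fact r.Prime] [CharP k r] (hk : LocFin k)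
  (hp : IsType chevE8 8 CoxeterMatrix.E₈)
  {τ : MulAut ↥(chevE8.group k)} {θ : (Fin 8 → ℤ) ≃+ (Fin 8 → ℤ)} (hτ : IsFrob r e τ)
  (F : Fr CoxeterMatrix.E₈.toCoxeterSystem hp.isCartan (TT chevE8 k) (XX chevE8 8 k) τ θ)
  (hTh : ∀ j, θ (sr j) = wwM j)

include hτ F hTh in
theorem lfr : LFr (k := k) CoxeterMatrix.E₈.toCoxeterSystem hp 5 rt8 c8 r (e + e) (τ * τ) (θ.trans θ) (-1) where
  frob := hτ.mul hτ
  fr := F.mul F
  pair := by
    intro j _ x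
    have h1 : (θ.trans θ) x = -x := theta_sq hTh x
    rw [h1, neg_one_mul]
    unfold pairing
    rw [← Finset.sum_neg_distrib]
    exact Finset.sum_congr rfl fun n _ => by rw [Pi.neg_apply]; ring
  root := by
    intro i j _
    have h1 : (θ.trans θ) (vec chevE8 8 (rt8 i j)) = -vec chevE8 8 (rt8 i j) := theta_sq hTh _
    rw [h1, neg_one_smul]
  sgn := Or.inr rfl

theorem cw_eq : cw CoxeterMatrix.E₈.toCoxeterSystem c8 (5 - 1) = cc := by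
  unfold cw cc ccL CoxeterSystem.wordProd
  simp [c8, List.range_succ]
  rfl

include hτ F hTh in
/-- elements of the torus with given exponents -/
theorem mk_T {m : ℕ} {ζ : k} (hζ : ζ ^ 5 ^ m = 1) (hdvd : ((5 ^ m : ℕ) : ℤ) ∣ ((r ^ e : ℕ) : ℤ) ^ 2 + 1)
    (v : Fin 4 → ℤ) :
    ∃ t ∈ TG hp τ 5, ∀ x, cX hp (t : ↥(chevE8.group k)) x =
      ζ ^ (∑ i, x i * ∑ j, v j * (AA j i + ((r ^ e : ℕ) : ℤ) * BB j i)) := by
  obtain ⟨t, ht, hct, hτt⟩ := exists_tor_exp hp hτ F invC_E8 one_ne_zero hζ (pow_ne_zero m (by norm_num))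
    (fun i => ∑ j, v j * (AA j i + ((r ^ e : ℕ) : ℤ) * BB j i)) (Th := wwM) hTh (by
      intro l
      have h1 : ∑ i, wwM l i * ∑ j, v j * (AA j i + ((r ^ e : ℕ) : ℤ) * BB j i) =
          ∑ j, v j * (-BB j l + ((r ^ e : ℕ) : ℤ) * AA j l) := by
        simp only [Finset.mul_sum]
        rw [Finset.sum_comm]
        refine Finset.sum_congr rfl fun j _ => ?_
        rw [← ww_AA, ← ww_BB, Finset.mul_sum, ← Finset.sum_add_distrib, Finset.mul_sum]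
        exact Finset.sum_congr rfl fun i _ => by ring
      rw [h1, Finset.mul_sum, ← Finset.sum_sub_distrib]
      refine Finset.dvd_sum fun j _ => ?_
      have h2 : v j * (-BB j l + ((r ^ e : ℕ) : ℤ) * AA j l) -
          ((r ^ e : ℕ) : ℤ) * (v j * (AA j l + ((r ^ e : ℕ) : ℤ) * BB j l)) =
          (((r ^ e : ℕ) : ℤ) ^ 2 + 1) * (-(v j * BB j l)) := by ring
      rw [h2]
      exact hdvd.mul_right _)
  refine ⟨⟨t, hτt⟩, ⟨ht, m, Subtype.ext ?_⟩, hct⟩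
  show t ^ 5 ^ m = 1
  refine cX_inj hp (pow_mem ht _) (one_mem _) fun i => ?_
  rw [cX_pow hp ht, hct, cX_one, ← zpow_natCast, ← zpow_mul, mul_comm, zpow_mul, zpow_natCast, hζ, one_zpow]

/-- the exponents on the roots `av j` -/
theorem exp_av (Q : ℤ) (v : Fin 4 → ℤ) (l : Fin 4) :
    ∑ i, av l i * ∑ j, v j * (AA j i + Q * BB j i) = 2 * v l := by
  simp only [Finset.mul_sum]
  rw [Finset.sum_comm]
  have h1 : ∀ j, ∑ i, av l i * (v j * (AA j i + Q * BB j i)) = v j * (if l = j then 2 else 0) := by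
    intro j
    have h2 := av_AA l j
    have h3 := av_BB l j
    calc ∑ i, av l i * (v j * (AA j i + Q * BB j i)) =
        v j * ∑ i, av l i * AA j i + v j * (Q * ∑ i, av l i * BB j i) := by
          rw [Finset.mul_sum, Finset.mul_sum, Finset.mul_sum, ← Finset.sum_add_distrib]
          exact Finset.sum_congr rfl fun i _ => by ring
      _ = _ := by rw [h2, h3]; ring
  simp only [h1]
  simp [mul_comm]

/-- the exponent on `y0` -/
theorem exp_y0 (Q : ℤ) : ∑ i, y0 i * ∑ j, (Pi.single 1 1 : Fin 4 → ℤ) j * (AA j i + Q * BB j i) = -1 := by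
  have h1 : ∀ i, ∑ j, (Pi.single 1 1 : Fin 4 → ℤ) j * (AA j i + Q * BB j i) = AA 1 i + Q * BB 1 i := by
    intro i
    rw [Finset.sum_eq_single 1]
    · simp
    · intro j _ hj
      simp [hj]
    · simp
  simp only [h1]
  have h2 : ∑ i, y0 i * (AA 1 i + Q * BB 1 i) = ∑ i, y0 i * AA 1 i + Q * ∑ i, y0 i * BB 1 i := by
    rw [Finset.mul_sum, ← Finset.sum_add_distrib]
    exact Finset.sum_congr rfl fun i _ => by ring
  rw [h2, y0_AA, y0_BB]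
  ring

end Main

/-! ### the coordinates -/

section Final

variable {k : Type u} [Field k] [IsAlgClosed k] {r e : ℕ} [Fact r.Prime] [CharP k r] (hk : LocFin k)
  (hp : IsType chevE8 8 CoxeterMatrix.E₈)
  {τ : MulAut ↥(chevE8.group k)} {θ : (Fin 8 → ℤ) ≃+ (Fin 8 → ℤ)} (hτ : IsFrob r e τ)
  (F : Fr CoxeterMatrix.E₈.toCoxeterSystem hp.isCartan (TT chevE8 k) (XX chevE8 8 k) τ θ)
  (hTh : ∀ j, θ (sr j) = wwM j)

/-- the signs -/
def eps : Fin 4 → ℤ := ![1, 1, -1, -1]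

theorem eps_sq : ∀ j, eps j * eps j = 1 := by decide

theorem eps_two : ∀ j, eps (j + 1) * eps j = (![1, -1, 1, -1] : Fin 4 → ℤ) j := by decide

theorem rep_dd (j : Fin 4) : rep CoxeterMatrix.E₈.toCoxeterSystem hp.isCartan dd (av j) = eps j • av j := by
  funext m
  rw [(is_dd hp).apply, dd_av, Pi.smul_apply, smul_eq_mul]
  rfl

theorem rep_pp (j : Fin 4) : rep CoxeterMatrix.E₈.toCoxeterSystem hp.isCartan pp (av (j + 1)) = av j := by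
  funext m
  rw [(is_pp hp).apply, pp_av]

theorem rep_x1 : rep CoxeterMatrix.E₈.toCoxeterSystem hp.isCartan cc x1 = x2 := by
  funext m
  rw [(is_cc hp).apply, chk_x2]

theorem rep_x3 : rep CoxeterMatrix.E₈.toCoxeterSystem hp.isCartan cc x3 = av 0 := by
  funext m
  rw [(is_cc hp).apply, chk_a0]

theorem two_sr' (i : Fin 8) : (2 : ℤ) • (sr i : Fin 8 → ℤ) = ∑ j, (AA j i • av j + BB j i • wav j) := by
  funext m
  rw [Finset.sum_apply, Pi.smul_apply, sr_apply', smul_eq_mul]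
  have h := two_sr i m
  simp only [Pi.add_apply, Pi.smul_apply, smul_eq_mul]
  rw [h]
  split <;> rfl

/-- the coordinates -/
noncomputable def bb (hp : IsType chevE8 8 CoxeterMatrix.E₈) (τ : MulAut ↥(chevE8.group k)) (j : Fin 4)
    (t : ↥(fixS τ)) : k := cX hp (t : ↥(chevE8.group k)) (av j)

theorem conj_TG {v : CoxeterMatrix.E₈.Group} {n : ↥(fixS τ)}
    (hn : Rp CoxeterMatrix.E₈.toCoxeterSystem (tow hp CoxeterMatrix.E₈.toCoxeterSystem hk r).nsys v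
      (n : ↥(chevE8.group k))) {t : ↥(fixS τ)} (ht : t ∈ TG hp τ 5) : n * t * n⁻¹ ∈ TG hp τ 5 := by
  obtain ⟨ht, i, hi⟩ := ht
  exact ⟨rp_conj_mem hp hk hn ht, i, by rw [conj_pow, hi, mul_one, mul_inv_cancel]⟩

include hτ F hTh in
/-- the exponent `q² + 1` -/
theorem cX_exp {t : ↥(chevE8.group k)} (ht : t ∈ TT chevE8 k) (h : τ t = t) (x : Fin 8 → ℤ) :
    cX hp t x ^ (r ^ e * r ^ e + 1) = 1 := by
  have h1 := cX_of_fix hp hτ F ht h x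
  have h2 := cX_of_fix hp hτ F ht h (θ x)
  rw [theta_sq hTh, h1, (isMC_cX hp ht).neg, ← pow_mul] at h2
  rw [pow_succ, ← h2, inv_mul_cancel₀ ((isMC_cX hp ht).ne_zero x)]

include hk hτ F hTh in
/-- **The coordinates.** -/
theorem coord {m C : ℕ} (hC : ¬ 5 ∣ C) (hq : r ^ e * r ^ e + 1 = 5 ^ m * C) {n1 n3 : ↥(fixS τ)}
    (hn1 : Rp CoxeterMatrix.E₈.toCoxeterSystem (tow hp CoxeterMatrix.E₈.toCoxeterSystem hk r).nsys dd
      (n1 : ↥(chevE8.group k)))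
    (hn3 : Rp CoxeterMatrix.E₈.toCoxeterSystem (tow hp CoxeterMatrix.E₈.toCoxeterSystem hk r).nsys pp
      (n3 : ↥(chevE8.group k))) :
    Coord 5 m (TG hp τ 5) (bb hp τ) n1 (n1 * (n3 * n1 * n3⁻¹)) n3 (fun _ => 1) := by
  have hexp : ∀ t ∈ TG hp τ 5, ∀ x, cX hp (t : ↥(chevE8.group k)) x ^ 5 ^ m = 1 := by
    intro t ht x
    obtain ⟨N, hN⟩ := ht.2
    refine pow_of_two hC (N := N) ?_ ?_
    · rw [← hq]
      exact cX_exp hp hτ F hTh ht.1 t.2 x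
    · rw [← cX_pow hp ht.1]
      have : (t : ↥(chevE8.group k)) ^ 5 ^ N = 1 := congrArg Subtype.val hN
      rw [this, cX_one]
  have h1 : ∀ t ∈ TG hp τ 5, ∀ j, bb hp τ j (n1 * t * n1⁻¹) = bb hp τ j t ^ eps j := by
    intro t ht j
    have h2 := cX_rp' hp hk hn1 ht.1 (av j)
    rw [rep_dd hp, (isMC_cX hp (rp_conj_mem hp hk hn1 ht.1)).zsmul] at h2
    show cX hp ((n1 : ↥(chevE8.group k)) * (t : ↥(chevE8.group k)) * (n1 : ↥(chevE8.group k))⁻¹) (av j) =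
      cX hp (t : ↥(chevE8.group k)) (av j) ^ eps j
    rw [← h2, ← zpow_mul, eps_sq, zpow_one]
  have h3 : ∀ t ∈ TG hp τ 5, ∀ j, bb hp τ j (n3 * t * n3⁻¹) = bb hp τ (j + 1) t := by
    intro t ht j
    have h2 := cX_rp' hp hk hn3 ht.1 (av (j + 1))
    rw [rep_pp hp] at h2
    exact h2
  have c1 : ∀ t ∈ TG hp τ 5, n1 * t * n1⁻¹ ∈ TG hp τ 5 := fun t ht => conj_TG hk hp hn1 ht
  have c3 : ∀ t ∈ TG hp τ 5, n3 * t * n3⁻¹ ∈ TG hp τ 5 := fun t ht => conj_TG hk hp hn3 ht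
  have c3' : ∀ t ∈ TG hp τ 5, n3⁻¹ * t * n3⁻¹⁻¹ ∈ TG hp τ 5 := fun t ht => conj_TG hk hp (n := n3⁻¹) hn3.inv ht
  have e2 : ∀ t, n1 * (n3 * n1 * n3⁻¹) * t * (n1 * (n3 * n1 * n3⁻¹))⁻¹ =
      n1 * (n3 * (n1 * (n3⁻¹ * t * n3⁻¹⁻¹) * n1⁻¹) * n3⁻¹) * n1⁻¹ := fun t => by group
  constructor
  · intro a ha b hb
    exact Subtype.ext (TT_comm hp _ ha.1 _ hb.1)
  · intro j s hs t ht
    exact cX_mul hp hs.1 ht.1 _
  · -- inj
    intro t ht h
    have hmc := isMC_cX hp ht.1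
    have hw : ∀ j, cX hp (t : ↥(chevE8.group k)) (wav j) = 1 := by
      intro j
      rw [← theta_av hTh, cX_of_fix hp hτ F ht.1 t.2]
      have : cX hp (t : ↥(chevE8.group k)) (av j) = 1 := h j
      rw [this, one_pow]
    apply Subtype.ext
    refine cX_inj hp ht.1 (one_mem _) fun i => ?_
    have h4 : cX hp (t : ↥(chevE8.group k)) (sr i) ^ (2 : ℤ) = 1 := by
      rw [← hmc.zsmul, two_sr', hmc.sum]
      refine Finset.prod_eq_one fun j _ => ?_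
      have : cX hp (t : ↥(chevE8.group k)) (av j) = 1 := h j
      rw [hmc.add, hmc.zsmul, hmc.zsmul, hw, this, one_zpow, one_zpow, one_mul]
    have h5 : cX hp (t : ↥(chevE8.group k)) (sr i) ^ 2 = 1 := by exact_mod_cast h4
    have h6 := hexp t ht (sr i)
    have h7 : orderOf (cX hp (t : ↥(chevE8.group k)) (sr i)) ∣ 1 := by
      have hcop : Nat.Coprime 2 (5 ^ m) := Nat.Coprime.pow_right m (by norm_num)
      rw [← Nat.Coprime.gcd_eq_one hcop]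
      exact Nat.dvd_gcd (orderOf_dvd_of_pow_eq_one h5) (orderOf_dvd_of_pow_eq_one h6)
    rw [Nat.dvd_one, orderOf_eq_one_iff] at h7
    rw [h7]
    exact (cX_one hp _).symm
  · intro t ht
    apply Subtype.ext
    show (t : ↥(chevE8.group k)) ^ 5 ^ m = 1
    refine cX_inj hp (pow_mem ht.1 _) (one_mem _) fun i => ?_
    rw [cX_pow hp ht.1, hexp t ht, cX_one]
  · intro n hn t ht
    rcases hn with rfl | rfl | rfl
    · exact c1 t ht
    · rw [e2]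
      exact c1 _ (c3 _ (c1 _ (c3' _ ht)))
    · exact c3 t ht
  · intro j t ht
    exact h1 t ht j
  · intro j t ht
    rw [e2, h1 _ (c3 _ (c1 _ (c3' _ ht))), h3 _ (c1 _ (c3' _ ht)), h1 _ (c3' _ ht), ← h3 _ (c3' _ ht), ← zpow_mul,
      eps_two]
    congr 2
    group
  · intro j t ht
    rw [zpow_one]
    exact h3 t ht j
  · intro j
    exact isCoprime_one_left

include hk hτ F hTh in
/-- **The hypotheses of the criterion.** -/
theorem irr [Finite ↥(fixS τ)] (h5r : 5 ≠ r) {m C : ℕ} (hm : 0 < m) (hC : ¬ 5 ∣ C)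
    (hq : r ^ e * r ^ e + 1 = 5 ^ m * C) {n1 n3 : ↥(fixS τ)}
    (hn1 : Rp CoxeterMatrix.E₈.toCoxeterSystem (tow hp CoxeterMatrix.E₈.toCoxeterSystem hk r).nsys dd
      (n1 : ↥(chevE8.group k)))
    (hn3 : Rp CoxeterMatrix.E₈.toCoxeterSystem (tow hp CoxeterMatrix.E₈.toCoxeterSystem hk r).nsys pp
      (n3 : ↥(chevE8.group k))) :
    ∃ (x0 t0 : ↥(fixS τ)) (N : Set ↥(fixS τ)), IrrHyp 5 (TG hp τ 5) x0 t0 N ∧ 5 ^ (4 * m) ≤ Nat.card (TG hp τ 5) := by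
  have h5 : Fact (Nat.Prime 5) := ⟨Nat.prime_five⟩
  have C0 := coord hk hp hτ F hTh hC hq hn1 hn3
  have hne : ∀ j, ∀ t ∈ TG hp τ 5, bb hp τ j t ≠ 0 := fun j t ht => (isMC_cX hp ht.1).ne_zero _
  -- roots of unity
  have h5k : ((5 : ℕ) : k) ≠ 0 := by
    rw [Ne, CharP.cast_eq_zero_iff k r]
    intro h
    exact h5r ((Nat.prime_dvd_prime_iff_eq Fact.out Nat.prime_five).1 h).symm
  have hroot : ∀ c : ℕ, ∃ ζ : k, IsPrimitiveRoot ζ (5 ^ c) := fun c => by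
    have : NeZero ((5 ^ c : ℕ) : k) := ⟨by push_cast; exact pow_ne_zero _ (by exact_mod_cast h5k)⟩
    exact HasEnoughRootsOfUnity.exists_primitiveRoot k (5 ^ c)
  obtain ⟨ω, hω⟩ := hroot 1
  rw [pow_one] at hω
  obtain ⟨ζ, hζ⟩ := hroot m
  have hdvd : ((5 ^ m : ℕ) : ℤ) ∣ ((r ^ e : ℕ) : ℤ) ^ 2 + 1 := by
    refine ⟨C, ?_⟩
    have h1 : ((r ^ e * r ^ e + 1 : ℕ) : ℤ) = ((5 ^ m * C : ℕ) : ℤ) := by rw [hq]
    push_cast at h1 ⊢
    linarith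
  have hdvd5 : (5 : ℤ) ∣ -1 * ((r ^ (e + e) : ℕ) : ℤ) - 1 := by
    have h1 : (5 : ℤ) ∣ ((5 ^ m : ℕ) : ℤ) := by exact_mod_cast dvd_pow_self 5 hm.ne'
    have h2 := h1.trans hdvd
    have h3 : -1 * ((r ^ (e + e) : ℕ) : ℤ) - 1 = -(((r ^ e : ℕ) : ℤ) ^ 2 + 1) := by
      rw [pow_add]; push_cast; ring
    rw [h3]
    exact h2.neg_right
  have hQ1 : (-1 : ℤ) * ((r ^ (e + e) : ℕ) : ℤ) ≠ 1 := by
    have : (0 : ℤ) ≤ ((r ^ (e + e) : ℕ) : ℤ) := Int.natCast_nonneg _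
    omega
  -- the element `x0`
  have hcomm := comm_levi (k := k) (n := 5) (hp := hp) (rt := rt8) (im := im8) nil8 F (fun i j hij => by
    funext m
    rw [theta_apply hTh, im8_eq i j hij])
  obtain ⟨g0, y, t0, hg0', hτx0, hx05, hτy, hconj, ht0⟩ :=
    exists_pair (hN := nsysT hp hk r) ltab8 (by norm_num) (by decide) cop8 F (lfr hp hτ F hTh) hQ1
      (by exact_mod_cast hdvd5) hω hcomm
  have hg0 : Rp CoxeterMatrix.E₈.toCoxeterSystem (tow hp CoxeterMatrix.E₈.toCoxeterSystem hk r).nsys cc g0 := by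
    rw [cw_eq] at hg0'
    exact rp_cast (TL_eq hp hk).symm hg0'
  -- conjugation by `x0`
  have hcx : ∀ t ∈ TG hp τ 5, τ ((g0 : ↥(chevE8.group k)) * (t : ↥(chevE8.group k)) * g0⁻¹) =
      τ g0 * (t : ↥(chevE8.group k)) * (τ g0)⁻¹ := by
    intro t ht
    have : τ (t : ↥(chevE8.group k)) = t := t.2
    rw [map_mul, map_mul, map_inv, this]
  have hx0t : ∀ t ∈ TG hp τ 5, g0 * τ g0 * (t : ↥(chevE8.group k)) * (g0 * τ g0)⁻¹ =
      g0 * τ (g0 * (t : ↥(chevE8.group k)) * g0⁻¹) * g0⁻¹ := by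
    intro t ht
    rw [hcx t ht]
    group
  have hmem1 : ∀ t ∈ TG hp τ 5, τ (g0 * (t : ↥(chevE8.group k)) * g0⁻¹) ∈ TT chevE8 k := fun t ht =>
    (F.tor _).2 (rp_conj_mem hp hk hg0 ht.1)
  have hmem2 : ∀ t ∈ TG hp τ 5, g0 * τ g0 * (t : ↥(chevE8.group k)) * (g0 * τ g0)⁻¹ ∈ TT chevE8 k := by
    intro t ht
    rw [hx0t t ht]
    exact rp_conj_mem hp hk hg0 (hmem1 t ht)
  have hval : ∀ t ∈ TG hp τ 5, cX hp (g0 * τ g0 * (t : ↥(chevE8.group k)) * (g0 * τ g0)⁻¹) (av 0) =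
      cX hp (t : ↥(chevE8.group k)) y0 := by
    intro t ht
    rw [hx0t t ht, ← rep_x3 hp, cX_rp' hp hk hg0 (hmem1 t ht), ← theta_x2 hTh,
      cX_sigma hp CoxeterMatrix.E₈.toCoxeterSystem hτ F (rp_conj_mem hp hk hg0 ht.1), ← rep_x1 hp,
      cX_rp' hp hk hg0 ht.1, ← theta_x1 hTh, cX_of_fix hp hτ F ht.1 t.2]
  let x0 : ↥(fixS τ) := ⟨g0 * τ g0, hτx0⟩
  have hx0p : x0 ^ 5 = 1 := Subtype.ext hx05
  have hτt0 : τ t0 = t0 := by rw [← hconj, map_mul, map_mul, map_inv, hτy, hτx0]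
  let t0' : ↥(fixS τ) := ⟨t0, hτt0⟩
  have hyx : (⟨y, hτy⟩ : ↥(fixS τ)) * x0 * (⟨y, hτy⟩ : ↥(fixS τ))⁻¹ = t0' := Subtype.ext hconj
  refine ⟨x0, t0', _, C0.irrHyp hne (by norm_num) hm ?_ hx0p ?_ ⟨_, hyx⟩ ?_, ?_⟩
  · rintro t ht
    refine ⟨hmem2 t ht, ?_⟩
    obtain ⟨i, hi⟩ := ht.2
    exact ⟨i, by rw [conj_pow, hi, mul_one, mul_inv_cancel]⟩
  · refine ⟨ht0, 1, ?_⟩
    rw [← hyx, pow_one, conj_pow, hx0p, mul_one, mul_inv_cancel]
  · obtain ⟨t, ht, hct⟩ := mk_T hp hτ F hTh hζ.pow_eq_one hdvd (Pi.single 1 1)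
    refine ⟨t, ht, 0, ?_⟩
    have h1 : cX hp (t : ↥(chevE8.group k)) (av 0) = 1 := by
      rw [hct, exp_av]
      simp
    have h2 : cX hp (t : ↥(chevE8.group k)) y0 = ζ⁻¹ := by
      rw [hct, exp_y0, zpow_neg_one]
    have h3 : bb hp τ 0 (x0 * t * x0⁻¹ * t⁻¹) = ζ⁻¹ := by
      show cX hp (g0 * τ g0 * (t : ↥(chevE8.group k)) * (g0 * τ g0)⁻¹ * (t : ↥(chevE8.group k))⁻¹) (av 0) = ζ⁻¹
      rw [cX_mul hp (hmem2 t ht) (inv_mem ht.1), cX_inv hp ht.1, hval t ht, h1, h2, inv_one, mul_one]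
    rw [h3]
    exact hζ.inv
  · -- the order
    have hex : ∀ v : Fin 4 → Fin (5 ^ m), ∃ t ∈ TG hp τ 5, ∀ l, cX hp (t : ↥(chevE8.group k)) (av l) =
        ζ ^ (2 * ((v l : ℕ) : ℤ)) := by
      intro v
      obtain ⟨t, ht, hct⟩ := mk_T hp hτ F hTh hζ.pow_eq_one hdvd (fun j => ((v j : ℕ) : ℤ))
      exact ⟨t, ht, fun l => by rw [hct, exp_av]⟩
    choose f hf hfc using hex
    have hinj : Function.Injective (fun v : Fin 4 → Fin (5 ^ m) => (⟨f v, hf v⟩ : ↥(TG hp τ 5))) := by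
      intro v v' h
      have h1 : f v = f v' := congrArg Subtype.val h
      funext l
      have h2 : ζ ^ (2 * ((v l : ℕ) : ℤ)) = ζ ^ (2 * ((v' l : ℕ) : ℤ)) := by rw [← hfc, ← hfc, h1]
      have h3 : (ζ ^ 2) ^ (v l : ℕ) = (ζ ^ 2) ^ (v' l : ℕ) := by
        rw [← pow_mul, ← pow_mul]
        exact_mod_cast h2
      have hζ2 : IsPrimitiveRoot (ζ ^ 2) (5 ^ m) := hζ.pow_of_coprime 2 (Nat.Coprime.pow_right m (by norm_num))
      exact Fin.ext (hζ2.pow_inj (v l).2 (v' l).2 h3)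
    have h9 := Nat.card_le_card_of_injective _ hinj
    rw [Nat.card_fun, Nat.card_fin, Nat.card_fin, ← pow_mul, mul_comm m 4] at h9
    exact h9

end Final

/-! ### the theorem -/

theorem refl_trans {D : ChevalleyDatum} {l : ℕ} {M : CoxeterMatrix (Fin l)} (hp : IsType D l M) (w : M.Group)
    (x : Fin l → ℤ) : ((AddEquiv.refl (Fin l → ℤ)).trans (repAut M.toCoxeterSystem hp.isCartan w)) x =
      rep M.toCoxeterSystem hp.isCartan w x := rfl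

open Cfsg.Agent.H795.NotAbRows Cfsg.Agent.BpExc.RowsUntw in
open Cfsg.Agent.H129.TorusUntw (phi isFrob_phi fr_phi phi_emb fix_range exists_closure) in
/-- **`E₈(q)`, `p = 5`, `q² ≡ -1 mod 5`.** -/
theorem full_e8 {K : Type u} [Field K] [Fintype K] (h : 5 ∣ Fintype.card K ^ 2 + 1) :
    Exc.Full 5 ↥(chevE8.group K) := by
  obtain ⟨r, e, hr, hrK, hrk, he, hq, hk⟩ := exists_closure (F := K) rfl
  have h5 : Fact (Nat.Prime 5) := ⟨Nat.prime_five⟩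
  rw [hq] at h
  have h5r : 5 ≠ r := by
    rintro rfl
    have h1 : 5 ∣ (5 ^ e) ^ 2 := (dvd_pow_self 5 he.ne').trans (dvd_pow_self _ two_ne_zero)
    have h2 := (Nat.dvd_add_right h1).1 h
    omega
  let k := AlgebraicClosure K
  let f := emb e8T.inList (algebraMap K k)
  have hf : Function.Injective f := emb_injective e8T.inList _
  have hfix : ∀ x, phi chevE8 k r e (f x) = f x := fun x => phi_emb e8T (algebraMap K k) hq x
  have hsurj : ∀ y, phi chevE8 k r e y = y → ∃ x, f x = y := fun y hy =>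
    fix_range e8T CoxeterMatrix.E₈.toCoxeterSystem (algebraMap K k) hq invC_E8 one_ne_zero (fun a => ⟨a, pow_one a⟩) hy
  have hσ : IsFrob r e (phi chevE8 k r e) := isFrob_phi
  have F := fr_phi (k := k) (p := r) (e := e) e8T CoxeterMatrix.E₈.toCoxeterSystem
  obtain ⟨n, z, hn, hz, hτ, Fτ⟩ := exists_tau e8T hk he hσ F ww
  have hTh : ∀ j, ((AddEquiv.refl (Fin 8 → ℤ)).trans (repAut CoxeterMatrix.E₈.toCoxeterSystem e8T.isCartan ww)) (sr j) =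
      wwM j := fun j => (refl_trans e8T ww _).trans (is_ww e8T j)
  obtain ⟨e1⟩ := iso_of hf hfix hsurj hz
  have hGfin : Finite ↥(chevE8.group K) := inferInstance
  have hfin1 : Finite ↥(fixS (MulAut.conj n * phi chevE8 k r e)) := Finite.of_equiv _ e1.toEquiv
  obtain ⟨m1, hm1, hτ1⟩ := exists_lift_tau e8T hk invC_E8 one_ne_zero he hσ F hτ Fτ
    (comm_of refl_mat (is_ww e8T) (is_dd e8T) id_ww comm_dd)
  obtain ⟨m3, hm3, hτ3⟩ := exists_lift_tau e8T hk invC_E8 one_ne_zero he hσ F hτ Fτ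
    (comm_of refl_mat (is_ww e8T) (is_pp e8T) id_ww comm_pp)
  -- the exponent
  have h0 : r ^ e * r ^ e + 1 ≠ 0 := by omega
  obtain ⟨m, C, hC, hmC⟩ := Nat.exists_eq_pow_mul_and_not_dvd h0 5 (by norm_num)
  have hm : 0 < m := by
    rcases Nat.eq_zero_or_pos m with h1 | h1
    · rw [h1, pow_zero, one_mul] at hmC
      rw [pow_two, hmC] at h
      exact absurd h hC
    · exact h1
  obtain ⟨x0, t0, N, HI, hT⟩ := irr hk e8T hτ Fτ hTh h5r hm hC hmC (n1 := ⟨m1, hτ1⟩) (n3 := ⟨m3, hτ3⟩) hm1 hm3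
  refine Exc.full_congr e1.symm (HI.full ?_)
  intro hdvd
  have hTp : IsPGroup 5 (TG e8T (MulAut.conj n * phi chevE8 k r e) 5) := by
    rintro ⟨t, ht⟩
    obtain ⟨i, hi⟩ := ht.2
    exact ⟨i, Subtype.ext hi⟩
  obtain ⟨s, hs⟩ := IsPGroup.iff_card.1 hTp
  rw [hs] at hT hdvd
  have hs' : 4 * m ≤ s := (Nat.pow_le_pow_iff_right (by norm_num)).1 hT
  have h6 : 5 ^ (4 * m + 2) ∣ Nat.card ↥(chevE8.group K) := by
    have h7 : Nat.card ↥(chevE8.group K) = Nat.card ↥(fixS (MulAut.conj n * phi chevE8 k r e)) :=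
      Nat.card_congr e1.toEquiv
    rw [h7]
    refine dvd_trans ?_ hdvd
    rw [← pow_add]
    exact Nat.pow_dvd_pow 5 (by omega)
  rw [Cfsg.Agent.S1065.result rfl, hq] at h6
  have hpos : ∀ i, 1 ≤ (r ^ e) ^ i := fun i => Nat.one_le_pow _ _ (pow_pos hr.out.pos e)
  have h7 := Int.natCast_dvd_natCast.2 h6
  refine not_dvd_ord (x := ((r ^ e : ℕ) : ℤ)) (c := C) rfl ?_ hm ?_ ?_ (m := m)
  · have h8 : ((r ^ e * r ^ e + 1 : ℕ) : ℤ) = ((5 ^ m * C : ℕ) : ℤ) := by rw [hmC]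
    push_cast at h8 ⊢
    linarith
  · intro h8
    exact hC (by exact_mod_cast h8)
  · push_cast [Nat.cast_sub (hpos _)] at h7 ⊢
    exact h7

/-- **`E₈(q)`, `p = 5`, `q² ≡ -1 mod 5`.** -/
theorem fullP_e8 {K : Type u} [Field K] [Fintype K] (h : 5 ∣ Fintype.card K ^ 2 + 1) :
    H749.FullP 5 ↥(chevE8.group K) := by
  have h5' : Fact (Nat.Prime 5) := ⟨Nat.prime_five⟩
  have hGfin : Finite ↥(chevE8.group K) := inferInstance
  exact Exc.fullP_of_full (full_e8 h)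

end Cfsg.Agent.H790.E8Main
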