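import Cfsg.Agent.H130.ChevSyl
import Cfsg.Agent.H130.TorEmb

/-!
# Sylow subgroups of Chevalley groups from one certificate (helper790)

`sylow_cert` : variant of `H130.ChevSyl.sylow` for a prime `r` which may divide the order of the Weyl group, but does
not divide any degree divisible by the order `e` of `q` modulo `r`, given one certificate for `e` with `r ∤ c`.
-/

set_option autoImplicit false

namespace Cfsg.Agent.H790.ExcCert

open Cfsg Cfsg.Agent.Nodes.RGDChev Cfsg.Agent.H129.TorusChar Cfsg.Agent.H130.ChevSyl Cfsg.Agent.H130.Homo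
  Cfsg.Agent.H130.WeylTab Cfsg.Agent.H130.WeylCk Cfsg.Agent.H130.PolyL
  Cfsg.Agent.ChevalleyStructure.CoxeterGeomTypes Cfsg.Agent.ChevalleyStructure.CoxeterGeom

section Val

variable {r q : ℕ} [hr : Fact r.Prime]

/-- the `r`-part of `∏ (q ^ d_i - 1)` -/
theorem val_prod (hrq : ¬ r ∣ q) (hq : 1 < q) (degs : List ℕ)
    (hd : ∀ i ∈ degs, i ≠ 0 ∧ (orderOf (q : ZMod r) ∣ i → ¬ r ∣ i)) :
    (degs.map (fun i => q ^ i - 1)).prod ≠ 0 ∧ ((degs.map (fun i => q ^ i - 1)).prod).factorization r =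
      (degs.filter (fun i => orderOf (q : ZMod r) ∣ i)).length * val r q := by
  induction degs with
  | nil => simp
  | cons i L ih =>
    obtain ⟨hi0, h1⟩ := hd i List.mem_cons_self
    obtain ⟨ih0, ih1⟩ := ih fun j hj => hd j (List.mem_cons_of_mem _ hj)
    have h3 : q ^ i - 1 ≠ 0 := by
      have : 1 < q ^ i := Nat.one_lt_pow hi0 hq
      omega
    rw [List.map_cons, List.prod_cons]
    refine ⟨mul_ne_zero h3 ih0, ?_⟩
    rw [Nat.factorization_mul h3 ih0, Finsupp.add_apply, ih1, Nat.factorization_def _ hr.out,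
      val_pow_sub_one hrq hq h1, List.filter_cons]
    by_cases h : orderOf (q : ZMod r) ∣ i
    · simp only [h, if_true, decide_true, List.length_cons]
      ring
    · simp only [h, if_false, decide_false, Bool.false_eq_true]
      ring

/-- the `r`-part of the order -/
theorem val_card (hrq : ¬ r ∣ q) (hq : 1 < q) {degs : List ℕ}
    (hd : ∀ i ∈ degs, i ≠ 0 ∧ (orderOf (q : ZMod r) ∣ i → ¬ r ∣ i)) {X g N : ℕ}
    (hX : g * X = q ^ N * (degs.map (fun i => q ^ i - 1)).prod) (hg : ¬ r ∣ g) :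
    X.factorization r = (degs.filter (fun i => orderOf (q : ZMod r) ∣ i)).length * val r q := by
  obtain ⟨h0, h1⟩ := val_prod hrq hq degs hd
  have hqN : q ^ N ≠ 0 := pow_ne_zero _ (by omega)
  have hne : g * X ≠ 0 := by rw [hX]; exact mul_ne_zero hqN h0
  have hg0 : g ≠ 0 := fun h => hne (by rw [h, zero_mul])
  have hX0 : X ≠ 0 := fun h => hne (by rw [h, mul_zero])
  have h2 : (g * X).factorization r = (q ^ N * (degs.map (fun i => q ^ i - 1)).prod).factorization r := by rw [hX]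
  rw [Nat.factorization_mul hg0 hX0, Nat.factorization_mul hqN h0, Finsupp.add_apply, Finsupp.add_apply,
    Nat.factorization_eq_zero_of_not_dvd hg, zero_add,
    Nat.factorization_eq_zero_of_not_dvd (fun h => hrq (hr.out.dvd_of_dvd_pow h)), zero_add, h1] at h2
  exact h2

end Val

/-- **the assembly with one certificate** -/
theorem sylow_cert {F : Type*} [Field F] [Fintype F] {q : ℕ} (hq : Fintype.card F = q)
    {D : Cfsg.Lie.ChevalleyDatum} {l : ℕ} {M : CoxeterMatrix (Fin l)} (hp : IsType D l M)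
    {d : ℕ} {B : Fin l → Fin l → ℤ} (hB : InvC D l d B) (hd : d ≠ 0)
    {degs : List ℕ} {Al : List (List ℤ)} (hA : MatList (cartanOf D l) Al)
    {r : ℕ} [hr : Fact r.Prime] (hrq : ¬ r ∣ q) (hrd : ¬ r ∣ d)
    (hdeg : ∀ i ∈ degs, i ≠ 0 ∧ (orderOf (q : ZMod r) ∣ i → ¬ r ∣ i))
    {word : List (Fin l)} {k : ℕ} {c : ℤ} {xs ys : List (List ℤ)}
    (hC : Cert Al l (orderOf (q : ZMod r)) (degs.filter (fun i => orderOf (q : ZMod r) ∣ i)).length word k c xs ys)
    (hidx : orderOf (q : ZMod r) ∈ idx) (hc : ¬ (r : ℤ) ∣ c) {g N : ℕ}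
    (hX : g * Nat.card ↥(D.group F) = q ^ N * (degs.map (fun i => q ^ i - 1)).prod) (hg : ¬ r ∣ g)
    (P : Sylow r ↥(D.group F)) :
    Nonempty (↥(P : Subgroup ↥(D.group F)) ≃*
      (Fin (degs.filter (fun i => orderOf (q : ZMod r) ∣ i)).length → Multiplicative (ZMod (r ^ val r q)))) := by
  have hq1 : 1 < q := hq ▸ Fintype.one_lt_card
  have : NeZero (r ^ val r q) := ⟨pow_ne_zero _ hr.out.ne_zero⟩
  have hcard : Nat.card (Fin (degs.filter (fun i => orderOf (q : ZMod r) ∣ i)).length →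
      Multiplicative (ZMod (r ^ val r q))) = r ^ (Nat.card ↥(D.group F)).factorization r := by
    rw [val_card hrq hq1 hdeg hX hg, mul_comm, pow_mul, Nat.card_fun, Nat.card_fin]
    congr 1
    exact Nat.card_zmod _
  obtain ⟨w, f, hf⟩ := hC.exists_hom hidx hrq hq1 hc hA M.toCoxeterSystem hp.isCartan
  obtain ⟨f', hf'⟩ := Cfsg.Agent.H130.TorEmb.exists_hom hp M.toCoxeterSystem hq hB hd w (m := r ^ val r q)
    (Nat.Coprime.pow_left _ ((Nat.Prime.coprime_iff_not_dvd hr.out).2 hrd)) (pow_model _ _) f hf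
  exact sylow_equiv_of_hom f' hf' hcard P

end Cfsg.Agent.H790.ExcCert
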