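import Cfsg.Agent.H790.TriCrit

/-!
# A criterion for `Full p G` (helper790), used for `E₈(q)`, `p = 5`, `q² ≡ -1`

`T ≤ G` an abelian `p`-subgroup, `x0` of order `p` normalising `T`, `p² |T|` does not divide `|G|`; `x0` is conjugate to
`t0 ∈ T`; every nontrivial subgroup of `T` invariant under a set `N` of elements normalising `T` contains `t0`, every
subgroup of `T` invariant under `N` containing `[x0, T]` is `T`.
-/

set_option autoImplicit false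
set_option linter.unusedSectionVars false

namespace Cfsg.Agent.H790.IrrCrit

open Subgroup Cfsg.Agent.H629 Cfsg.Agent.H749

/-- the hypotheses -/
structure IrrHyp {G : Type*} [Group G] (p : ℕ) (T : Subgroup G) (x0 t0 : G) (N : Set G) : Prop where
  comm : ∀ a ∈ T, ∀ b ∈ T, a * b = b * a
  exp : ∃ m : ℕ, ∀ t ∈ T, t ^ p ^ m = 1
  norm : ∀ t ∈ T, x0 * t * x0⁻¹ ∈ T
  pow : x0 ^ p = 1
  t0T : t0 ∈ T
  conj : ∃ g, g * x0 * g⁻¹ = t0
  nontriv : ∃ t ∈ T, x0 * t ≠ t * x0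
  normN : ∀ n ∈ N, ∀ t ∈ T, n * t * n⁻¹ ∈ T
  one : ∀ B : Subgroup G, B ≤ T → B ≠ ⊥ → (∀ n ∈ N, ∀ b ∈ B, n * b * n⁻¹ ∈ B) → t0 ∈ B
  two : ∀ B : Subgroup G, B ≤ T → (∀ n ∈ N, ∀ b ∈ B, n * b * n⁻¹ ∈ B) →
    (∀ t ∈ T, x0 * t * x0⁻¹ * t⁻¹ ∈ B) → T ≤ B

namespace IrrHyp

variable {G : Type*} [Group G] {p : ℕ} [hpp : Fact p.Prime] {T : Subgroup G} {x0 t0 : G} {N : Set G}
  (H : IrrHyp p T x0 t0 N)

include H

theorem norm_pow (i : ℕ) {t : G} (ht : t ∈ T) : x0 ^ i * t * (x0 ^ i)⁻¹ ∈ T := by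
  induction i with
  | zero => simpa using ht
  | succ i ih =>
    have := H.norm _ ih
    have e : x0 ^ (i + 1) * t * (x0 ^ (i + 1))⁻¹ = x0 * (x0 ^ i * t * (x0 ^ i)⁻¹) * x0⁻¹ := by
      rw [pow_succ']; group
    rwa [e]

theorem inv_pow' (i : ℕ) : (x0 ^ i)⁻¹ = x0 ^ ((p - 1) * i) := by
  rw [inv_eq_iff_mul_eq_one, ← pow_add]
  have h1 : i + (p - 1) * i = p * i := by
    have := hpp.out.pos
    obtain ⟨m, rfl⟩ : ∃ m, p = m + 1 := ⟨p - 1, by omega⟩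
    rw [Nat.add_sub_cancel]; ring
  rw [h1, pow_mul, H.pow, one_pow]

/-- the Sylow subgroup -/
def S (H : IrrHyp p T x0 t0 N) : Subgroup G where
  carrier := {g | ∃ t ∈ T, ∃ i : ℕ, g = t * x0 ^ i}
  one_mem' := ⟨1, one_mem _, 0, by simp⟩
  mul_mem' := by
    rintro _ _ ⟨t, ht, i, rfl⟩ ⟨s, hs, j, rfl⟩
    exact ⟨t * (x0 ^ i * s * (x0 ^ i)⁻¹), T.mul_mem ht (H.norm_pow i hs), i + j, by rw [pow_add]; group⟩
  inv_mem' := by
    rintro _ ⟨t, ht, i, rfl⟩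
    refine ⟨x0 ^ ((p - 1) * i) * t⁻¹ * (x0 ^ ((p - 1) * i))⁻¹, H.norm_pow _ (T.inv_mem ht), (p - 1) * i, ?_⟩
    rw [mul_inv_rev, H.inv_pow']
    group

theorem T_le : T ≤ H.S := fun t ht => ⟨t, ht, 0, by simp⟩

theorem x0_mem : x0 ∈ H.S := ⟨1, one_mem _, 1, by simp⟩

theorem x0_notMem : x0 ∉ T := by
  intro h
  obtain ⟨t, ht, e⟩ := H.nontriv
  exact e (H.comm x0 h t ht)

/-- the elements of `S` outside `T` -/
theorem comm_x0 {i : ℕ} (hi : ¬ p ∣ i) {t : G} (h : x0 ^ i * t = t * x0 ^ i) : x0 * t = t * x0 := by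
  have hco : Nat.Coprime i p := (Nat.coprime_comm.1 ((Nat.Prime.coprime_iff_not_dvd hpp.out).2 hi))
  have h1 : x0 = (x0 ^ i) ^ (Nat.gcdA i p) := by
    have h2 : (1 : ℤ) = i * Nat.gcdA i p + p * Nat.gcdB i p := by
      rw [← Nat.gcd_eq_gcd_ab, hco.gcd_eq_one]; rfl
    calc x0 = x0 ^ (1 : ℤ) := (zpow_one _).symm
      _ = (x0 ^ i) ^ (Nat.gcdA i p) := by
        rw [h2, zpow_add, zpow_mul, zpow_mul, zpow_natCast, zpow_natCast, H.pow, one_zpow, mul_one]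
  have hc : Commute ((x0 ^ i) ^ (Nat.gcdA i p)) t := (show Commute (x0 ^ i) t from h).zpow_left _
  rw [← h1] at hc
  exact hc

theorem isPGroup : IsPGroup p H.S := by
  -- `T` is normal in `S` with cyclic quotient
  rw [isPGroup_iff]
  rintro _ ⟨t, ht, i, rfl⟩
  obtain ⟨m, hm⟩ := H.exp
  refine ⟨m + 1, ?_⟩
  have h1 : ∀ j : ℕ, ∃ s ∈ T, (t * x0 ^ i) ^ j = s * x0 ^ (i * j) := by
    intro j
    induction j with
    | zero => exact ⟨1, one_mem _, by simp⟩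
    | succ j ih =>
      obtain ⟨s, hs, e⟩ := ih
      refine ⟨s * (x0 ^ (i * j) * t * (x0 ^ (i * j))⁻¹), T.mul_mem hs (H.norm_pow _ ht), ?_⟩
      rw [pow_succ, e, mul_add, mul_one, pow_add x0 (i * j) i]
      group
  obtain ⟨s, hs, e⟩ := h1 p
  rw [pow_succ', pow_mul, e, mul_comm i p, pow_mul, H.pow, one_pow, mul_one]
  exact hm _ hs

/-- **the criterion** -/
theorem full [Finite G] (hcard : ¬ p ^ 2 * Nat.card T ∣ Nat.card G) : Exc.Full p G := by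
  obtain ⟨P, hP⟩ := H.isPGroup.exists_le_sylow
  -- `P = S`
  have hidx : ∀ {A B : Subgroup G}, A ≤ B → B ≤ P → ¬ B ≤ A → p * Nat.card A ∣ Nat.card B := by
    intro A B hAB hBP hn
    have hBp : IsPGroup p B := P.2.to_le hBP
    have e : A.relIndex B * Nat.card A = Nat.card B := by
      have e1 := Subgroup.relIndex_mul_relIndex ⊥ A B bot_le hAB
      rw [relIndex_bot_left, relIndex_bot_left] at e1
      rw [mul_comm]; exact e1
    have h4 : p ∣ A.relIndex B := by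
      have h5 : A.relIndex B ≠ 1 := fun h => hn (Subgroup.relIndex_eq_one.1 h)
      obtain ⟨n, hn⟩ := (IsPGroup.iff_card.1 hBp)
      rw [hn] at e
      obtain ⟨m, hm, h6⟩ := (Nat.dvd_prime_pow hpp.out).1 (Dvd.intro _ e)
      rw [h6] at h5 ⊢
      exact dvd_pow_self p (fun h0 => h5 (by rw [h0, pow_zero]))
    rw [← e]
    exact Nat.mul_dvd_mul_right h4 _
  have hSP : (P : Subgroup G) = H.S := by
    by_contra hne
    have h4 : ¬ (P : Subgroup G) ≤ H.S := fun h => hne (le_antisymm h hP)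
    have h5 := hidx hP le_rfl h4
    have h6 := hidx H.T_le hP (fun h => H.x0_notMem (h H.x0_mem))
    apply hcard
    have h7 : p ^ 2 * Nat.card T = p * (p * Nat.card T) := by ring
    rw [h7]
    exact ((Nat.mul_dvd_mul_left p h6).trans h5).trans (Subgroup.card_subgroup_dvd_card _)
  refine Exc.full_of_one P fun A hA hne => ?_
  rw [hSP] at hA ⊢
  have hAS := hA.1
  have hAc := hA.2
  -- `A ∩ T ≠ 1`
  obtain ⟨y, hyA, hyT, hy1⟩ : ∃ y ∈ A, y ∈ T ∧ y ≠ 1 := by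
    have hn : (A.subgroupOf H.S).Normal := by
      refine ⟨fun a ha g => ?_⟩
      rw [mem_subgroupOf] at ha ⊢
      exact hAc _ ha _ (g * a * g⁻¹).2
    have hAn : A.subgroupOf H.S ≠ ⊥ := by
      intro h
      rw [subgroupOf_eq_bot] at h
      exact hne (le_bot_iff.1 (h.le_bot |>.trans' (le_inf le_rfl hAS)))
    have : Finite H.S := inferInstance
    have h4 : (A.subgroupOf H.S ⊓ center H.S : Subgroup H.S) ≠ ⊥ :=
      Cfsg.Agent.H790.TriCrit.inf_center_ne_bot H.isPGroup hAn hn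
    obtain ⟨⟨⟨y, hyS⟩, hyA, hyc⟩, hy1⟩ := Subgroup.ne_bot_iff_exists_ne_one.1 h4
    have hy1' : y ≠ 1 := fun h => hy1 (Subtype.ext (Subtype.ext h))
    have hcen : ∀ s ∈ H.S, s * y = y * s := fun s hs => congrArg Subtype.val (mem_center_iff.1 hyc ⟨s, hs⟩)
    refine ⟨y, hyA, ?_, hy1'⟩
    obtain ⟨t, ht, i, e⟩ := hyS
    by_cases hi : p ∣ i
    · obtain ⟨c, rfl⟩ := hi
      rw [pow_mul, H.pow, one_pow, mul_one] at e
      rw [e]; exact ht
    · exfalso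
      obtain ⟨s, hs, hsx⟩ := H.nontriv
      apply hsx
      refine H.comm_x0 hi ?_
      have h5 := hcen s (H.T_le hs)
      rw [e] at h5
      have h6 : t⁻¹ * s = s * t⁻¹ := H.comm _ (T.inv_mem ht) _ hs
      calc x0 ^ i * s = t⁻¹ * (t * x0 ^ i * s) := by group
        _ = t⁻¹ * (s * (t * x0 ^ i)) := by rw [h5]
        _ = t⁻¹ * s * (t * x0 ^ i) := by group
        _ = s * t⁻¹ * (t * x0 ^ i) := by rw [h6]
        _ = s * x0 ^ i := by group
  -- `B = A ∩ T`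
  have hBinv : ∀ n ∈ N, ∀ b ∈ A ⊓ T, n * b * n⁻¹ ∈ A ⊓ T := by
    intro n hn b hb
    have h5 := H.normN n hn b hb.2
    exact ⟨hAc b hb.1 n (H.T_le h5), h5⟩
  have ht0A : t0 ∈ A := (H.one (A ⊓ T) inf_le_right (fun h => hy1 (by
    have : y ∈ A ⊓ T := ⟨hyA, hyT⟩
    rw [h, Subgroup.mem_bot] at this
    exact this)) hBinv).1
  obtain ⟨g, hg⟩ := H.conj
  have hx0A : x0 ∈ A := by
    have h5 := hAc t0 ht0A g⁻¹
    have h6 : g⁻¹ * t0 * g⁻¹⁻¹ = x0 := by rw [← hg]; group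
    rw [h6] at h5
    exact h5 H.x0_mem
  have hTA : T ≤ A := by
    refine (H.two (A ⊓ T) inf_le_right hBinv fun t ht => ⟨?_, ?_⟩).trans inf_le_left
    · have h5 := hAc x0⁻¹ (A.inv_mem hx0A) t
        (H.S.mul_mem (H.S.mul_mem (H.T_le ht) (H.S.inv_mem H.x0_mem)) (H.S.inv_mem (H.T_le ht)))
      have h6 : x0 * t * x0⁻¹ * t⁻¹ = x0 * (t * x0⁻¹ * t⁻¹) := by group
      rw [h6]
      exact A.mul_mem hx0A h5
    · exact T.mul_mem (H.norm t ht) (T.inv_mem ht)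
  rintro _ ⟨t, ht, i, rfl⟩
  exact A.mul_mem (hTA ht) (A.pow_mem hx0A i)

end IrrHyp

end Cfsg.Agent.H790.IrrCrit
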