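import Cfsg.Agent.H790.PCube
import Cfsg.Agent.S0215
import Cfsg.Agent.H759.FusTransportD

/-!
# Simple groups whose Sylow subgroups are of supersoluble type (helper790)

* `exists_strong` : a subgroup of order `p` strongly closed in `T`;
* `two_false` : a non-abelian simple group has no supersoluble 2-fusion system with `T ≠ 1`;
* `cyclic_of_irr` : `T` abelian and `N(T)` irreducible on `Ω₁(T)`;
* `star_of_embedding` : if every saturated system over `T` is supersoluble and `T` is (isomorphic to) a Sylow subgroup of `Y` then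
  `Star p Y`.
-/

set_option autoImplicit false
set_option linter.unusedSectionVars false

namespace Cfsg.Agent.H790

open Cfsg Cfsg.FusionSystem Cfsg.Agent.H759

section Cyc

theorem card_ker_pow_le {A : Type*} [CommGroup A] [Finite A] {p : ℕ} (h : Nat.card (powMonoidHom (α := A) p).ker ≤ p)
    (k : ℕ) : Nat.card (powMonoidHom (α := A) (p ^ k)).ker ≤ p ^ k := by
  induction k with
  | zero =>
    have : (powMonoidHom (α := A) (p ^ 0)).ker = ⊥ := by
      ext x
      rw [MonoidHom.mem_ker, powMonoidHom_apply, pow_zero, pow_one, Subgroup.mem_bot]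
    rw [this, Subgroup.card_bot, pow_zero]
  | succ k ih =>
    set K := (powMonoidHom (α := A) (p ^ (k + 1))).ker with hK
    let f : K →* A := (powMonoidHom p).comp K.subtype
    have h1 : Nat.card K = Nat.card f.ker * Nat.card f.range := by
      rw [← Subgroup.card_mul_index f.ker, Subgroup.index_ker]
    have h2 : Nat.card f.ker ≤ p := by
      refine le_trans ?_ h
      refine Nat.card_le_card_of_injective (fun x : f.ker => (⟨((x : K) : A), x.2⟩ : (powMonoidHom (α := A) p).ker)) ?_
      intro x y hxy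
      exact Subtype.ext (Subtype.ext (Subtype.mk.inj hxy))
    have h3 : Nat.card f.range ≤ p ^ k := by
      refine le_trans ?_ ih
      refine Nat.card_le_card_of_injective (fun x : f.range =>
        (⟨(x : A), ?_⟩ : (powMonoidHom (α := A) (p ^ k)).ker)) ?_
      · obtain ⟨_, y, rfl⟩ := x
        rw [MonoidHom.mem_ker]
        have h4 : ((y : A)) ^ p ^ (k + 1) = 1 := y.2
        show ((y : A) ^ p) ^ p ^ k = 1
        rw [← pow_mul, ← h4, pow_succ']
      · intro x y hxy
        exact Subtype.ext (Subtype.mk.inj hxy)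
    rw [h1, pow_succ']
    exact Nat.mul_le_mul h2 h3

/-- an abelian `p`-group with at most `p` elements of order dividing `p` is cyclic -/
theorem isCyclic_of_ker_pow {A : Type*} [CommGroup A] [Finite A] {p : ℕ} [Fact p.Prime] (hA : IsPGroup p A)
    (h : Nat.card (powMonoidHom (α := A) p).ker ≤ p) : IsCyclic A := by
  classical
  have : Fintype A := Fintype.ofFinite A
  refine isCyclic_of_card_pow_eq_one_le fun n hn => ?_
  obtain ⟨e, he⟩ := IsPGroup.iff_card.1 hA
  obtain ⟨k, -, hk⟩ := (Nat.dvd_prime_pow Fact.out).1 (Nat.gcd_dvd_right n (p ^ e))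
  have h1 : (Finset.univ.filter fun a : A => a ^ n = 1).card ≤ Nat.card (powMonoidHom (α := A) (p ^ k)).ker := by
    rw [← Fintype.card_subtype, ← Nat.card_eq_fintype_card]
    refine Nat.card_le_card_of_injective (fun x : {a : A // a ^ n = 1} =>
        (⟨(x : A), ?_⟩ : (powMonoidHom (α := A) (p ^ k)).ker)) ?_
    · rw [MonoidHom.mem_ker, powMonoidHom_apply, ← hk, pow_gcd_eq_one]
      exact ⟨x.2, by rw [← he]; exact pow_card_eq_one'⟩
    · intro x y hxy
      exact Subtype.ext (Subtype.mk.inj hxy)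
  refine (h1.trans (card_ker_pow_le h k)).trans ?_
  rw [← hk]
  exact Nat.gcd_le_left _ hn

end Cyc

section Strong

variable {G : Type*} [Group G] [Finite G] {p : ℕ} [Fact p.Prime]

theorem exists_strong_of_ss {T : Subgroup G} (hT : IsPGroup p T) {U : Subgroup G}
    (h : SS (groupFusionSystem T) U) (hU : U ≠ ⊥) :
    ∃ x ∈ T, orderOf x = p ∧ ∀ y ∈ Subgroup.zpowers x, ∀ g : G, g * y * g⁻¹ ∈ T → g * y * g⁻¹ ∈ Subgroup.zpowers x := by
  induction h with
  | bot => exact absurd rfl hU
  | @step V U x₀ hV hx₀ hUs he ih =>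
    by_cases hV0 : V = ⊥
    · rw [hV0, bot_sup_eq] at he
      have hx1 : x₀ ≠ 1 := by
        rintro rfl
        apply hU
        rw [he, Subgroup.zpowers_one_eq_bot]
      have hd : p ∣ orderOf x₀ := by
        have := hT.dvd_orderOf (g := ⟨x₀, hx₀⟩) (fun h => hx1 (congrArg Subtype.val h))
        rwa [Subgroup.orderOf_mk] at this
      have hpos : 0 < orderOf x₀ := orderOf_pos x₀
      set x := x₀ ^ (orderOf x₀ / p) with hx
      have hxo : orderOf x = p := by
        rw [hx]
        exact orderOf_pow_orderOf_div hpos.ne' hd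
      refine ⟨x, T.pow_mem hx₀ _, hxo, fun y hy g hg => ?_⟩
      have hyU : y ∈ U := by
        rw [he]
        obtain ⟨k, rfl⟩ := hy
        simp only
        rw [hx]
        exact Subgroup.zpow_mem _ (Subgroup.pow_mem _ (Subgroup.mem_zpowers x₀) _) k
      have h1 : g * y * g⁻¹ ∈ U := by
        have hφ : conjHom (Subgroup.zpowers y) g ∈ (groupFusionSystem T).Hom (Subgroup.zpowers y) := by
          refine ⟨?_, ?_, g, fun x => rfl⟩
          · rw [Subgroup.zpowers_le]; exact hUs.1 hyU
          · rintro ⟨_, k, rfl⟩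
            show g * y ^ k * g⁻¹ ∈ T
            rw [← conj_zpow]
            exact T.zpow_mem hg k
        exact hUs.2 (Subgroup.zpowers y) (by rwa [Subgroup.zpowers_le]) _ hφ ⟨y, Subgroup.mem_zpowers y⟩
      rw [he] at h1
      refine mem_zpowers_of_orderOf_dvd (isOfFinOrder_of_finite x₀)
        (Subgroup.pow_mem _ (Subgroup.mem_zpowers x₀) _) h1 ?_
      have h2 : orderOf (g * y * g⁻¹) = orderOf y := by
        have := (MulAut.conj g).orderOf_eq y
        exact this
      rw [h2]
      exact orderOf_dvd_of_mem_zpowers hy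
    · exact ih hV0

theorem exists_strong {T : Subgroup G} (hT : IsPGroup p T) (h : Super (groupFusionSystem T)) (hne : T ≠ ⊥) :
    ∃ x ∈ T, orderOf x = p ∧ ∀ y ∈ Subgroup.zpowers x, ∀ g : G, g * y * g⁻¹ ∈ T → g * y * g⁻¹ ∈ Subgroup.zpowers x :=
  exists_strong_of_ss hT (ss_of_super h) hne

/-- `p = 2` -/
theorem two_false [IsSimpleGroup G] (hna : ¬ IsMulCommutative G) (T : Sylow 2 G)
    (h : Super (groupFusionSystem (T : Subgroup G))) : (T : Subgroup G) = ⊥ := by
  by_contra hne
  have : Fact (Nat.Prime 2) := ⟨Nat.prime_two⟩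
  obtain ⟨u, huT, hu, hstr⟩ := exists_strong T.2 h hne
  obtain ⟨N, hN, hodd, hc⟩ := S0215.result T u hu huT (by
    intro g hg
    obtain ⟨k, hk⟩ := hstr u (Subgroup.mem_zpowers u) g hg
    have hk' : u ^ k = g * u * g⁻¹ := hk
    have h2 : u ^ (2 : ℤ) = 1 := by
      have := pow_orderOf_eq_one u
      rw [hu] at this
      exact_mod_cast this
    rcases Int.even_or_odd k with ⟨m, hm⟩ | ⟨m, hm⟩
    · exfalso
      have h3 : u ^ k = 1 := by
        rw [hm, ← two_mul, zpow_mul, h2, one_zpow]
      rw [h3] at hk'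
      have h4 : u = 1 := by
        have : u = g⁻¹ * (g * u * g⁻¹) * g := by group
        rw [this, ← hk']; group
      rw [h4, orderOf_one] at hu
      exact absurd hu (by norm_num)
    · rw [← hk', hm, zpow_add, zpow_mul, h2, one_zpow, one_mul, zpow_one])
  rcases hN.eq_bot_or_eq_top with h1 | h1
  · have hz : u ∈ Subgroup.center G := by
      rw [Subgroup.mem_center_iff]
      intro g
      have h2 := hc g
      rw [h1, Subgroup.mem_bot] at h2
      have : u * g * u⁻¹ * g⁻¹ * (g * u) = g * u := by rw [h2, one_mul]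
      rw [← this]; group
    have hcen : (Subgroup.center G).Normal := inferInstance
    rcases hcen.eq_bot_or_eq_top with h2 | h2
    · rw [h2, Subgroup.mem_bot] at hz
      rw [hz, orderOf_one] at hu
      exact absurd hu (by norm_num)
    · exact hna ⟨⟨fun a b => (Subgroup.mem_center_iff.1 (h2 ▸ Subgroup.mem_top b) a)⟩⟩
  · rw [h1, Subgroup.card_top] at hodd
    have h2 : 2 ∣ Nat.card G := hu ▸ orderOf_dvd_natCard u
    exact (Nat.not_even_iff_odd.2 hodd) (even_iff_two_dvd.2 h2)

/-- `T` abelian, `N(T)` irreducible on the elements of order dividing `p` -/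
theorem cyclic_of_irr (T : Sylow p G) (hab : IsMulCommutative (T : Subgroup G))
    (h : Super (groupFusionSystem (T : Subgroup G)))
    (hirr : ∀ Ω : Subgroup G, (∀ x : G, x ∈ Ω ↔ x ∈ (T : Subgroup G) ∧ x ^ p = 1) →
      ∀ B : Subgroup G, B ≤ Ω → (∀ n ∈ Subgroup.normalizer ((T : Subgroup G) : Set G), ∀ b ∈ B, n * b * n⁻¹ ∈ B) →
        B = ⊥ ∨ B = Ω) : IsCyclic (T : Subgroup G) := by
  by_cases hne : (T : Subgroup G) = ⊥
  · have : Subsingleton (T : Subgroup G) := by rw [hne]; infer_instance
    infer_instance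
  obtain ⟨u, huT, hu, hstr⟩ := exists_strong T.2 h hne
  have hcomm : ∀ a ∈ (T : Subgroup G), ∀ b ∈ (T : Subgroup G), a * b = b * a := fun a ha b hb =>
    congrArg Subtype.val (hab.1.1 ⟨a, ha⟩ ⟨b, hb⟩)
  let Om : Subgroup G :=
    { carrier := {x | x ∈ (T : Subgroup G) ∧ x ^ p = 1}
      one_mem' := ⟨one_mem _, one_pow p⟩
      mul_mem' := by
        rintro a b ⟨ha, ha'⟩ ⟨hb, hb'⟩
        refine ⟨mul_mem ha hb, ?_⟩
        rw [(show Commute a b from hcomm a ha b hb).mul_pow, ha', hb', one_mul]
      inv_mem' := by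
        rintro a ⟨ha, ha'⟩
        refine ⟨inv_mem ha, ?_⟩
        rw [inv_pow, ha', inv_one] }
  have hOm : ∀ x : G, x ∈ Om ↔ x ∈ (T : Subgroup G) ∧ x ^ p = 1 := fun x => Iff.rfl
  have h1 := hirr Om hOm (Subgroup.zpowers u) (by
    rw [Subgroup.zpowers_le, hOm]
    exact ⟨huT, by rw [← hu]; exact pow_orderOf_eq_one u⟩) (by
    intro n hn b hb
    exact hstr b hb n ((Subgroup.mem_normalizer_iff.1 hn b).1 ((Subgroup.zpowers_le.2 huT) hb)))
  rcases h1 with h1 | h1
  · exfalso
    rw [Subgroup.zpowers_eq_bot] at h1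
    rw [h1, orderOf_one] at hu
    exact (Fact.out : p.Prime).one_lt.ne hu
  · let _ : CommGroup (T : Subgroup G) := { (inferInstance : Group (T : Subgroup G)) with mul_comm := hab.1.1 }
    refine isCyclic_of_ker_pow T.2 ?_
    have h2 : Nat.card Om = p := by
      rw [← h1, Nat.card_zpowers, hu]
    conv_rhs => rw [← h2]
    refine Nat.card_le_card_of_injective (fun x : (powMonoidHom (α := (T : Subgroup G)) p).ker =>
        (⟨((x : (T : Subgroup G)) : G), ?_⟩ : Om)) ?_
    · have h3 : (x : (T : Subgroup G)) ^ p = 1 := x.2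
      exact ⟨Subtype.property _, congrArg Subtype.val h3⟩
    · intro x y hxy
      exact Subtype.ext (Subtype.ext (Subtype.mk.inj hxy))

/-- **Embeddings.** If `T` is a Sylow subgroup of the finite group `Y` (through the injective `f`) and every saturated system
over `T` is supersoluble then `Star p Y`. -/
theorem star_of_embedding {Y : Type*} [Group Y] [Finite Y] (f : G →* Y) (hf : Function.Injective f) (T : Sylow p G)
    (hall : ∀ F : FusionSystem (T : Subgroup G), F.IsSaturated p → Super F)
    (hidx : ¬ p ∣ ((T : Subgroup G).map f).index) : Star p Y := by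
  let S : Sylow p Y := (T.2.map f : IsPGroup p ((T : Subgroup G).map f)).toSylow hidx
  have hS : (S : Subgroup Y) = (T : Subgroup G).map f := rfl
  refine Star.of_super S ?_
  have hsat := H802.groupFusionSystem_isSaturated S
  rw [hS] at hsat ⊢
  obtain ⟨X₁, hX⟩ := exists_pull hf (groupFusionSystem ((T : Subgroup G).map f))
  have h1 := hall X₁ (hX.isSaturated_iff.1 hsat)
  obtain ⟨m, c, h0, hl, hs, hst⟩ := h1
  refine ⟨m, fun i => (c i).map f, ?_, ?_, fun i => (hX.stronglyClosed_iff).2 (hs i), fun i => ?_⟩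
  · simp only [h0, Subgroup.map_bot]
  · simp only [hl]
  · obtain ⟨h2, x, hx, h3⟩ := hst i
    refine ⟨Subgroup.map_mono h2, f x, ⟨x, hx, rfl⟩, ?_⟩
    simp only [h3, Subgroup.map_sup, MonoidHom.map_zpowers]

end Strong

end Cfsg.Agent.H790
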