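import Cfsg.Agent.H790.SuperMain
import Cfsg.Agent.S0071

/-!
# The property of the finite groups with a supersoluble fusion system (helper790)

`Star p G` : for every `p`-subgroup `Q`: `h ^ ((p - 1) p ^ N)` centralizes `Q` for `h` in `N(Q)`, and for `g` such that `Q` and
`Q ^ g` generate a `p`-group and `h` in `N(Q) ⊓ N(Q ^ g)` some `p ^ N`-th power of `g⁻¹ h⁻¹ g h` centralizes `Q`.

* `Star.of_super` : a finite group whose fusion system has a chain of strongly closed subgroups with cyclic steps;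
* `Star.mono` : subgroups, `Star.quotient` : quotients by normal `p'`-subgroups;
* `Star.not_dvd` (Lemma C) : `H` commuting with a conjugate `H ^ g` has a normal `p`-complement; so if `H` is generated by
  `p'`-elements then `p` does not divide `|H|`.
-/

set_option autoImplicit false

namespace Cfsg.Agent.H790

open Cfsg Cfsg.FusionSystem Cfsg.Agent.H759

/-- conjugation as an automorphism: pointwise action of a product -/
theorem conj_fix_iff {G : Type*} [Group G] (c : G) (Q : Subgroup G) :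
    c ∈ Subgroup.centralizer (Q : Set G) ↔ ∀ x ∈ Q, c * x * c⁻¹ = x := by
  rw [Subgroup.mem_centralizer_iff]
  refine forall₂_congr fun x _ => ?_
  rw [mul_inv_eq_iff_eq_mul]
  exact eq_comm

/-- **The property.** -/
structure Star (p : ℕ) (G : Type*) [Group G] : Prop where
  pow : ∀ (Q : Subgroup G) (h : G), IsPGroup p Q → h ∈ Subgroup.normalizer (Q : Set G) →
    ∃ N : ℕ, h ^ ((p - 1) * p ^ N) ∈ Subgroup.centralizer (Q : Set G)
  comm : ∀ (Q : Subgroup G) (g h : G), IsPGroup p ↥(Q ⊔ Q.map (MulAut.conj g).toMonoidHom) →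
    h ∈ Subgroup.normalizer (Q : Set G) →
    h ∈ Subgroup.normalizer ((Q.map (MulAut.conj g).toMonoidHom : Subgroup G) : Set G) →
    ∃ N : ℕ, (g⁻¹ * h⁻¹ * g * h) ^ p ^ N ∈ Subgroup.centralizer (Q : Set G)

section Of

variable {G : Type*} [Group G] [Finite G] {p : ℕ} [Fact p.Prime]

/-- control of fusion by `N(T)` and the action of `N(T)` on `T` -/
structure Ctl (p : ℕ) (T : Subgroup G) : Prop where
  ctl : ∀ (R : Subgroup G) (g : G), R ≤ T → (∀ x ∈ R, g * x * g⁻¹ ∈ T) →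
    ∃ n ∈ Subgroup.normalizer (T : Set G), ∀ x ∈ R, n * x * n⁻¹ = g * x * g⁻¹
  comm : ∀ a ∈ Subgroup.normalizer (T : Set G), ∀ b ∈ Subgroup.normalizer (T : Set G),
    ∃ N : ℕ, (a⁻¹ * b⁻¹ * a * b) ^ p ^ N ∈ Subgroup.centralizer (T : Set G)
  pow : ∀ a ∈ Subgroup.normalizer (T : Set G), ∃ N : ℕ, a ^ ((p - 1) * p ^ N) ∈ Subgroup.centralizer (T : Set G)

theorem mem_centralizer_of_aut {T : Subgroup G} (a : Subgroup.normalizer (T : Set G))
    (h : Subgroup.normalizerMonoidHom T a = 1) : (a : G) ∈ Subgroup.centralizer (T : Set G) := by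
  rw [conj_fix_iff]
  intro x hx
  have h1 := congrArg (fun f : MulAut T => ((f ⟨x, hx⟩ : T) : G)) h
  exact h1

theorem Ctl.of_super (T : Sylow p G) (h : Super (groupFusionSystem (T : Subgroup G))) :
    Ctl p (T : Subgroup G) := by
  have hsat := H802.groupFusionSystem_isSaturated T
  have hn := isNormal_of_super T.2 hsat h
  have hcc := cc_of_ss (ss_of_super h)
  rw [Subgroup.subgroupOf_self] at hcc
  have hmem : ∀ a : Subgroup.normalizer ((T : Subgroup G) : Set G),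
      Subgroup.normalizerMonoidHom (T : Subgroup G) a ∈ (groupFusionSystem (T : Subgroup G)).autGroup (T : Subgroup G) := by
    intro a
    rw [H802.mem_autGroup_iff _ le_rfl]
    exact ⟨le_rfl, fun x => Subtype.property _, a, fun x => rfl⟩
  refine ⟨?_, ?_, ?_⟩
  · intro R g hR hg
    have hφ : conjHom R g ∈ (groupFusionSystem (T : Subgroup G)).Hom R :=
      ⟨hR, fun x => hg x x.2, g, fun x => rfl⟩
    obtain ⟨α, hα, h1⟩ := exists_aut_of_isNormal hn hφ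
    rw [H802.mem_autGroup_iff _ le_rfl] at hα
    obtain ⟨-, -, n, hn⟩ := hα
    have hn' : ∀ x : (T : Subgroup G), ((α x : (T : Subgroup G)) : G) = n * x * n⁻¹ := hn
    refine ⟨n, ?_, fun x hx => ?_⟩
    · exact H802.mem_normalizer_of_aut hn'
    · have := h1 x hx (hR hx)
      rw [hn'] at this
      exact this.symm
  · intro a ha b hb
    obtain ⟨N, hN⟩ := comm_of_cc T.2 hcc _ (hmem ⟨a, ha⟩) _ (hmem ⟨b, hb⟩)
    refine ⟨N, ?_⟩
    refine mem_centralizer_of_aut ((⟨a, ha⟩⁻¹ * ⟨b, hb⟩⁻¹ * ⟨a, ha⟩ * ⟨b, hb⟩ : Subgroup.normalizer ((T : Subgroup G) : Set G)) ^ p ^ N) ?_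
    rw [map_pow, map_mul, map_mul, map_mul, map_inv, map_inv]
    ext u
    rw [hN u (Subgroup.mem_top u)]
    rfl
  · intro a ha
    obtain ⟨N, hN⟩ := pow_of_cc T.2 hcc _ (hmem ⟨a, ha⟩)
    refine ⟨N, ?_⟩
    refine mem_centralizer_of_aut ((⟨a, ha⟩ : Subgroup.normalizer ((T : Subgroup G) : Set G)) ^ ((p - 1) * p ^ N)) ?_
    rw [map_pow]
    ext u
    rw [hN u (Subgroup.mem_top u)]
    rfl

omit [Finite G] in
/-- powers of two elements inducing the same map of `Q` into itself -/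
theorem pow_agree {Q : Subgroup G} {a b : G} (ha : ∀ x ∈ Q, a * x * a⁻¹ ∈ Q) (hab : ∀ x ∈ Q, a * x * a⁻¹ = b * x * b⁻¹)
    (k : ℕ) : ∀ x ∈ Q, a ^ k * x * (a ^ k)⁻¹ ∈ Q ∧ a ^ k * x * (a ^ k)⁻¹ = b ^ k * x * (b ^ k)⁻¹ := by
  induction k with
  | zero => intro x hx; simpa using hx
  | succ k ih =>
    intro x hx
    obtain ⟨h1, h2⟩ := ih x hx
    have e1 : a ^ (k + 1) * x * (a ^ (k + 1))⁻¹ = a * (a ^ k * x * (a ^ k)⁻¹) * a⁻¹ := by
      rw [pow_succ']; group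
    have e2 : b ^ (k + 1) * x * (b ^ (k + 1))⁻¹ = b * (b ^ k * x * (b ^ k)⁻¹) * b⁻¹ := by
      rw [pow_succ']; group
    rw [e1, e2]
    refine ⟨ha _ h1, ?_⟩
    rw [hab _ h1, h2]

omit [Finite G] in
theorem mem_normalizer_conj {Q : Subgroup G} {h : G} (hh : h ∈ Subgroup.normalizer (Q : Set G)) :
    ∀ x ∈ Q, h * x * h⁻¹ ∈ Q := fun x hx => (Subgroup.mem_normalizer_iff.1 hh x).1 hx

omit [Finite G] in
theorem mem_normalizer_conj' {Q : Subgroup G} {h : G} (hh : h ∈ Subgroup.normalizer (Q : Set G)) :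
    ∀ x ∈ Q, h⁻¹ * x * h ∈ Q := fun x hx => by
  have := mem_normalizer_conj (Subgroup.inv_mem _ hh) x hx
  rwa [inv_inv] at this

omit [Finite G] [Fact p.Prime] in
theorem Ctl.comm_of_le {T : Subgroup G} (C : Ctl p T) {Q : Subgroup G} {g h : G} (hQ : Q ≤ T)
    (hQg : Q.map (MulAut.conj g).toMonoidHom ≤ T) (hh : h ∈ Subgroup.normalizer (Q : Set G))
    (hh' : h ∈ Subgroup.normalizer ((Q.map (MulAut.conj g).toMonoidHom : Subgroup G) : Set G)) :
    ∃ N : ℕ, (g⁻¹ * h⁻¹ * g * h) ^ p ^ N ∈ Subgroup.centralizer (Q : Set G) := by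
  set Q' := Q.map (MulAut.conj g).toMonoidHom with hQ'
  have hgm : ∀ x ∈ Q, g * x * g⁻¹ ∈ Q' := fun x hx => ⟨x, hx, rfl⟩
  have hgm' : ∀ z ∈ Q', g⁻¹ * z * g ∈ Q := by
    rintro _ ⟨x, hx, rfl⟩
    have : g⁻¹ * (MulAut.conj g).toMonoidHom x * g = x := by
      show g⁻¹ * (g * x * g⁻¹) * g = x
      group
    rwa [this]
  have hn : h ∈ Subgroup.normalizer ((Q ⊔ Q' : Subgroup G) : Set G) :=
    Subgroup.normalizer_inf_normalizer_le_normalizer_sup Q Q' (Subgroup.mem_inf.2 ⟨hh, hh'⟩)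
  have hR : Q ⊔ Q' ≤ T := sup_le hQ hQg
  obtain ⟨n, hnT, hnR⟩ := C.ctl (Q ⊔ Q') h hR (fun x hx => hR (mem_normalizer_conj hn x hx))
  obtain ⟨m, hmT, hmQ⟩ := C.ctl Q g hQ (fun x hx => hQg (hgm x hx))
  obtain ⟨N, hN⟩ := C.comm m hmT n hnT
  have hQR : Q ≤ Q ⊔ Q' := le_sup_left
  have hQR' : Q' ≤ Q ⊔ Q' := le_sup_right
  -- inverse maps
  have hn' : ∀ z ∈ Q', n⁻¹ * z * n = h⁻¹ * z * h := by
    intro z hz
    have h1 := hnR (h⁻¹ * z * h) (hQR' (mem_normalizer_conj' hh' z hz))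
    have h2 : h * (h⁻¹ * z * h) * h⁻¹ = z := by group
    rw [h2] at h1
    calc n⁻¹ * z * n = n⁻¹ * (n * (h⁻¹ * z * h) * n⁻¹) * n := by rw [h1]
      _ = h⁻¹ * z * h := by group
  have hm' : ∀ z ∈ Q', m⁻¹ * z * m = g⁻¹ * z * g := by
    intro z hz
    have h1 := hmQ (g⁻¹ * z * g) (hgm' z hz)
    have h2 : g * (g⁻¹ * z * g) * g⁻¹ = z := by group
    rw [h2] at h1
    calc m⁻¹ * z * m = m⁻¹ * (m * (g⁻¹ * z * g) * m⁻¹) * m := by rw [h1]
      _ = g⁻¹ * z * g := by group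
  have key : ∀ x ∈ Q, (g⁻¹ * h⁻¹ * g * h) * x * (g⁻¹ * h⁻¹ * g * h)⁻¹ ∈ Q ∧
      (g⁻¹ * h⁻¹ * g * h) * x * (g⁻¹ * h⁻¹ * g * h)⁻¹ = (m⁻¹ * n⁻¹ * m * n) * x * (m⁻¹ * n⁻¹ * m * n)⁻¹ := by
    intro x hx
    have e1 : (g⁻¹ * h⁻¹ * g * h) * x * (g⁻¹ * h⁻¹ * g * h)⁻¹ =
        g⁻¹ * (h⁻¹ * (g * (h * x * h⁻¹) * g⁻¹) * h) * g := by group
    have e2 : (m⁻¹ * n⁻¹ * m * n) * x * (m⁻¹ * n⁻¹ * m * n)⁻¹ =
        m⁻¹ * (n⁻¹ * (m * (n * x * n⁻¹) * m⁻¹) * n) * m := by group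
    have h1 : h * x * h⁻¹ ∈ Q := mem_normalizer_conj hh x hx
    have h2 : g * (h * x * h⁻¹) * g⁻¹ ∈ Q' := hgm _ h1
    have h3 : h⁻¹ * (g * (h * x * h⁻¹) * g⁻¹) * h ∈ Q' := mem_normalizer_conj' hh' _ h2
    rw [e1, e2]
    refine ⟨hgm' _ h3, ?_⟩
    rw [hnR x (hQR hx), hmQ _ h1, hn' _ h2, hm' _ h3]
  refine ⟨N, ?_⟩
  rw [conj_fix_iff]
  intro x hx
  rw [(pow_agree (fun x hx => (key x hx).1) (fun x hx => (key x hx).2) (p ^ N) x hx).2]
  exact (conj_fix_iff _ _).1 hN x (hQ hx)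

omit [Finite G] [Fact p.Prime] in
theorem Ctl.pow_of_le {T : Subgroup G} (C : Ctl p T) {Q : Subgroup G} {h : G} (hQ : Q ≤ T)
    (hh : h ∈ Subgroup.normalizer (Q : Set G)) :
    ∃ N : ℕ, h ^ ((p - 1) * p ^ N) ∈ Subgroup.centralizer (Q : Set G) := by
  obtain ⟨n, hnT, hnR⟩ := C.ctl Q h hQ (fun x hx => hQ (mem_normalizer_conj hh x hx))
  obtain ⟨N, hN⟩ := C.pow n hnT
  refine ⟨N, ?_⟩
  rw [conj_fix_iff]
  intro x hx
  rw [(pow_agree (fun x hx => mem_normalizer_conj hh x hx) (fun x hx => (hnR x hx).symm) ((p - 1) * p ^ N) x hx).2]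
  exact (conj_fix_iff _ _).1 hN x (hQ hx)

omit [Finite G] in
theorem map_conj_mem_centralizer {Q : Subgroup G} {y c : G}
    (h : y * c * y⁻¹ ∈ Subgroup.centralizer ((Q.map (MulAut.conj y).toMonoidHom : Subgroup G) : Set G)) :
    c ∈ Subgroup.centralizer (Q : Set G) := by
  rw [conj_fix_iff] at h ⊢
  intro x hx
  have h1 : (y * c * y⁻¹) * (y * x * y⁻¹) * (y * c * y⁻¹)⁻¹ = y * x * y⁻¹ := h _ ⟨x, hx, rfl⟩
  have h2 : (y * c * y⁻¹) * (y * x * y⁻¹) * (y * c * y⁻¹)⁻¹ = y * (c * x * c⁻¹) * y⁻¹ := by group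
  rw [h2] at h1
  exact mul_left_cancel (mul_right_cancel h1)

omit [Finite G] in
theorem map_conj_mem_normalizer {Q : Subgroup G} {y h : G} (hh : h ∈ Subgroup.normalizer (Q : Set G)) :
    y * h * y⁻¹ ∈ Subgroup.normalizer ((Q.map (MulAut.conj y).toMonoidHom : Subgroup G) : Set G) := by
  have h1 := Subgroup.map_normalizer_eq_of_bijective Q (f := (MulAut.conj y).toMonoidHom) (MulAut.conj y).bijective
  rw [← h1]
  exact ⟨h, hh, rfl⟩

theorem exists_conj_le (T : Sylow p G) {R : Subgroup G} (hR : IsPGroup p R) :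
    ∃ y : G, R.map (MulAut.conj y).toMonoidHom ≤ (T : Subgroup G) := by
  obtain ⟨P, hP⟩ := hR.exists_le_sylow
  obtain ⟨y, hy⟩ := MulAction.exists_smul_eq G P T
  refine ⟨y, ?_⟩
  rw [← hy]
  rintro _ ⟨x, hx, rfl⟩
  exact Subgroup.smul_mem_pointwise_smul x (MulAut.conj y) (P : Subgroup G) (hP hx)

theorem Star.of_ctl {T : Sylow p G} (C : Ctl p (T : Subgroup G)) : Star p G := by
  refine ⟨?_, ?_⟩
  · intro Q h hQ hh
    obtain ⟨y, hy⟩ := exists_conj_le T hQ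
    obtain ⟨N, hN⟩ := C.pow_of_le hy (map_conj_mem_normalizer (y := y) hh)
    refine ⟨N, map_conj_mem_centralizer (y := y) ?_⟩
    rwa [conj_pow] at hN
  · intro Q g h hR hh hh'
    obtain ⟨y, hy⟩ := exists_conj_le T hR
    rw [Subgroup.map_sup] at hy
    have e1 : (Q.map (MulAut.conj y).toMonoidHom).map (MulAut.conj (y * g * y⁻¹)).toMonoidHom =
        (Q.map (MulAut.conj g).toMonoidHom).map (MulAut.conj y).toMonoidHom := by
      rw [Subgroup.map_map, Subgroup.map_map]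
      congr 1
      ext x
      show (y * g * y⁻¹) * (y * x * y⁻¹) * (y * g * y⁻¹)⁻¹ = y * (g * x * g⁻¹) * y⁻¹
      group
    obtain ⟨N, hN⟩ := C.comm_of_le (g := y * g * y⁻¹) (h := y * h * y⁻¹) (le_trans le_sup_left hy)
      (by rw [e1]; exact le_trans le_sup_right hy) (map_conj_mem_normalizer (y := y) hh)
      (by rw [e1]; exact map_conj_mem_normalizer (y := y) hh')
    refine ⟨N, map_conj_mem_centralizer (y := y) ?_⟩
    have e2 : (y * g * y⁻¹)⁻¹ * (y * h * y⁻¹)⁻¹ * (y * g * y⁻¹) * (y * h * y⁻¹) = y * (g⁻¹ * h⁻¹ * g * h) * y⁻¹ := by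
      group
    rwa [e2, conj_pow] at hN

/-- **Groups whose fusion system is supersoluble.** -/
theorem Star.of_super (T : Sylow p G) (h : Super (groupFusionSystem (T : Subgroup G))) : Star p G :=
  Star.of_ctl (Ctl.of_super T h)

end Of

end Cfsg.Agent.H790
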