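import Cfsg.Agent.H790.StarQ

/-!
# Consequences of `Star p` (helper790)

* `Star.pow_mem` : `h` of order prime to `p` in `N(Q)`: `h ^ (p - 1)` centralizes the `p`-subgroup `Q`;
* `Star.comm_mem` : `g, h` in `N(Q)` whose commutator `g⁻¹ h⁻¹ g h` has order prime to `p`: it centralizes `Q`;
* `Star.exists_complement` (Lemma C): if `H` commutes with `H ^ g` then `H` has a normal `p`-complement;
* `Star.not_dvd` : if moreover `H` is generated by `p'`-elements then `p` does not divide `|H|`.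
-/

set_option autoImplicit false

namespace Cfsg.Agent.H790

open Cfsg

variable {G : Type*} [Group G] {p : ℕ}

theorem mem_of_pow_mem {c : G} {N : ℕ} (hc : (orderOf c).Coprime p) {H : Subgroup G} (h : c ^ p ^ N ∈ H) : c ∈ H := by
  rcases Nat.eq_zero_or_pos (orderOf c) with h0 | h0
  · rw [h0, Nat.coprime_zero_left] at hc
    rwa [hc, one_pow, pow_one] at h
  · have h1 : (orderOf c).Coprime (p ^ N) := Nat.Coprime.pow_right N hc
    obtain ⟨m, hm⟩ := exists_pow_eq_self_of_coprime (x := c) (n := p ^ N) h1.symm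
    rw [← hm]
    exact H.pow_mem h m

theorem Star.pow_mem (hG : Star p G) {Q : Subgroup G} (hQ : IsPGroup p Q) {h : G}
    (hh : h ∈ Subgroup.normalizer (Q : Set G)) (hc : (orderOf h).Coprime p) :
    h ^ (p - 1) ∈ Subgroup.centralizer (Q : Set G) := by
  obtain ⟨N, hN⟩ := hG.pow Q h hQ hh
  rw [pow_mul] at hN
  refine mem_of_pow_mem (N := N) ?_ hN
  exact Nat.Coprime.coprime_dvd_left (orderOf_pow_dvd _) hc

theorem Star.comm_mem (hG : Star p G) {Q : Subgroup G} (hQ : IsPGroup p Q) {g h : G}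
    (hg : g ∈ Subgroup.normalizer (Q : Set G)) (hh : h ∈ Subgroup.normalizer (Q : Set G))
    (hc : (orderOf (g⁻¹ * h⁻¹ * g * h)).Coprime p) : g⁻¹ * h⁻¹ * g * h ∈ Subgroup.centralizer (Q : Set G) := by
  have h1 : Q.map (MulAut.conj g).toMonoidHom = Q := by
    apply le_antisymm
    · rintro _ ⟨x, hx, rfl⟩
      exact mem_normalizer_conj hg x hx
    · intro x hx
      refine ⟨g⁻¹ * x * g, mem_normalizer_conj' hg x hx, ?_⟩
      show g * (g⁻¹ * x * g) * g⁻¹ = x
      group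
  obtain ⟨N, hN⟩ := hG.comm Q g h (by rw [h1, sup_idem]; exact hQ) hh (by rw [h1]; exact hh)
  exact mem_of_pow_mem hc hN

/-- **Lemma C**, first form. -/
theorem Star.pow_mem_of_commute (hG : Star p G) {H : Subgroup G} {g : G}
    (hc : ∀ a ∈ H, ∀ b ∈ H, Commute a (g * b * g⁻¹)) {Q : Subgroup G} (hQ : IsPGroup p Q) (hQH : Q ≤ H) {h : G}
    (hh : h ∈ H) (hn : h ∈ Subgroup.normalizer (Q : Set G)) :
    ∃ N : ℕ, h ^ p ^ N ∈ Subgroup.centralizer (Q : Set G) := by
  set Q' := Q.map (MulAut.conj g).toMonoidHom with hQ'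
  have hcQ : ∀ a ∈ H, ∀ z ∈ Q', a * z * a⁻¹ = z := by
    rintro a ha _ ⟨b, hb, rfl⟩
    have h1 : a * (g * b * g⁻¹) = (g * b * g⁻¹) * a := hc a ha b (hQH hb)
    show a * (g * b * g⁻¹) * a⁻¹ = g * b * g⁻¹
    rw [h1]; group
  have hHn : H ≤ Subgroup.normalizer (Q' : Set G) := by
    intro a ha
    rw [Subgroup.mem_normalizer_iff]
    intro z
    constructor
    · intro hz
      rw [hcQ a ha z hz]; exact hz
    · intro hz
      have h1 := hcQ a⁻¹ (H.inv_mem ha) _ hz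
      have h2 : a⁻¹ * (a * z * a⁻¹) * a⁻¹⁻¹ = z := by group
      rw [h2] at h1
      rw [h1]; exact hz
  have hR : IsPGroup p ↥(Q ⊔ Q') := hQ.to_sup_of_normal_right' (hQ.map _) (hQH.trans hHn)
  obtain ⟨N, hN⟩ := hG.comm Q g h hR hn (hHn hh)
  refine ⟨N, ?_⟩
  have h1 : Commute (g⁻¹ * h⁻¹ * g) h := by
    have h2 : h⁻¹ * (g * h * g⁻¹) = (g * h * g⁻¹) * h⁻¹ := hc _ (H.inv_mem hh) h hh
    show g⁻¹ * h⁻¹ * g * h = h * (g⁻¹ * h⁻¹ * g)
    calc g⁻¹ * h⁻¹ * g * h = g⁻¹ * (h⁻¹ * (g * h * g⁻¹)) * g := by group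
      _ = g⁻¹ * ((g * h * g⁻¹) * h⁻¹) * g := by rw [h2]
      _ = h * (g⁻¹ * h⁻¹ * g) := by group
  have h3 : g⁻¹ * h⁻¹ * g ∈ Subgroup.centralizer (Q : Set G) := by
    rw [conj_fix_iff]
    intro x hx
    have h4 := hcQ _ (H.inv_mem hh) _ ⟨x, hx, rfl⟩
    have h5 : h⁻¹ * (g * x * g⁻¹) * h⁻¹⁻¹ = g * x * g⁻¹ := h4
    calc g⁻¹ * h⁻¹ * g * x * (g⁻¹ * h⁻¹ * g)⁻¹ = g⁻¹ * (h⁻¹ * (g * x * g⁻¹) * h⁻¹⁻¹) * g := by group
      _ = x := by rw [h5]; group
  rw [h1.mul_pow] at hN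
  have h4 := (Subgroup.centralizer (Q : Set G)).mul_mem
    ((Subgroup.centralizer (Q : Set G)).inv_mem ((Subgroup.centralizer (Q : Set G)).pow_mem h3 (p ^ N))) hN
  rwa [inv_mul_cancel_left] at h4

/-- **Lemma C.** A subgroup commuting with a conjugate has a normal `p`-complement. -/
theorem Star.exists_complement [Finite G] [Fact p.Prime] (hG : Star p G) {H : Subgroup G} {g : G}
    (hc : ∀ a ∈ H, ∀ b ∈ H, Commute a (g * b * g⁻¹)) (P : Sylow p H) :
    ∃ N : Subgroup H, N.Normal ∧ N.IsComplement' (P : Subgroup H) := by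
  rw [S0071.result P]
  intro Q hQ h hh hcop
  have h1 : IsPGroup p (Q.map H.subtype) := (P.2.to_le hQ : IsPGroup p Q).map _
  have h2 : (h : G) ∈ Subgroup.normalizer ((Q.map H.subtype : Subgroup G) : Set G) := by
    rw [Subgroup.mem_normalizer_iff]
    intro y
    constructor
    · rintro ⟨x, hx, rfl⟩
      exact ⟨_, (Subgroup.mem_normalizer_iff.1 hh x).1 hx, rfl⟩
    · rintro ⟨x, hx, hxy⟩
      refine ⟨h⁻¹ * x * h, mem_normalizer_conj' hh x hx, ?_⟩
      show (h : G)⁻¹ * (x : G) * (h : G) = y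
      have h3 : (x : G) = h * y * (h : G)⁻¹ := hxy
      rw [h3]; group
  obtain ⟨N, hN⟩ := hG.pow_mem_of_commute hc h1 (Subgroup.map_subtype_le Q) h.2 h2
  have h3 : (h : G) ∈ Subgroup.centralizer ((Q.map H.subtype : Subgroup G) : Set G) := by
    refine mem_of_pow_mem (N := N) ?_ hN
    rwa [Subgroup.orderOf_coe]
  rw [Subgroup.mem_centralizer_iff] at h3 ⊢
  intro x hx
  exact Subtype.ext (h3 _ ⟨x, hx, rfl⟩)

/-- a finite group generated by `p'`-elements with a normal `p`-complement has order prime to `p` -/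
theorem not_dvd_of_complement {H : Type*} [Group H] [Finite H] [Fact p.Prime] (P : Sylow p H)
    (h : ∃ N : Subgroup H, N.Normal ∧ N.IsComplement' (P : Subgroup H))
    (hgen : Subgroup.closure {x : H | (orderOf x).Coprime p} = ⊤) : ¬ p ∣ Nat.card H := by
  obtain ⟨N, hN, hc⟩ := h
  have h1 : N = ⊤ := by
    rw [eq_top_iff, ← hgen, Subgroup.closure_le]
    intro x hx
    have h2 : IsPGroup p (H ⧸ N) := by
      refine IsPGroup.of_surjective P.2 ((QuotientGroup.mk' N).comp (P : Subgroup H).subtype) ?_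
      intro y
      obtain ⟨y, rfl⟩ := QuotientGroup.mk_surjective y
      obtain ⟨⟨⟨n, hn⟩, ⟨z, hz⟩⟩, hnz⟩ := hc.2 y
      have hnz' : n * z = y := hnz
      refine ⟨⟨z, hz⟩, ?_⟩
      show ((z : H) : H ⧸ N) = y
      rw [← hnz', QuotientGroup.mk_mul, (QuotientGroup.eq_one_iff n).2 hn, one_mul]
    obtain ⟨k, hk⟩ := h2 (x : H ⧸ N)
    have h3 : x ^ p ^ k ∈ N := by
      rw [← QuotientGroup.eq_one_iff, QuotientGroup.mk_pow]
      exact hk
    exact mem_of_pow_mem hx h3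
  intro hd
  have h2 : (P : Subgroup H) = ⊥ := by
    have := hc.disjoint
    rw [h1, top_disjoint] at this
    exact this
  have h3 := P.2
  obtain ⟨x, hx⟩ := exists_prime_orderOf_dvd_card' p hd
  have h4 : IsPGroup p (Subgroup.zpowers x) := by
    refine IsPGroup.of_card (n := 1) ?_
    rw [Nat.card_zpowers, hx, pow_one]
  obtain ⟨S, hS⟩ := h4.exists_le_sylow
  obtain ⟨g, hg⟩ := MulAction.exists_smul_eq H P S
  have h5 : Nat.card (S : Subgroup H) = 1 := by
    rw [Subgroup.card_eq_one]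
    have h6 : ((g • P : Sylow p H) : Subgroup H) = ⊥ := by
      rw [Sylow.coe_subgroup_smul, h2, Subgroup.smul_bot]
    rw [← h6, hg]
  have h7 : x ∈ (S : Subgroup H) := hS (Subgroup.mem_zpowers x)
  rw [Subgroup.card_eq_one] at h5
  rw [h5, Subgroup.mem_bot] at h7
  rw [h7, orderOf_one] at hx
  exact (Fact.out : p.Prime).one_lt.ne hx

/-- **Lemma C**, numerical form. -/
theorem Star.not_dvd [Finite G] [Fact p.Prime] (hG : Star p G) {H : Subgroup G} {g : G}
    (hc : ∀ a ∈ H, ∀ b ∈ H, Commute a (g * b * g⁻¹))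
    (hgen : H ≤ Subgroup.closure {x : G | x ∈ H ∧ (orderOf x).Coprime p}) : ¬ p ∣ Nat.card H := by
  obtain ⟨P⟩ : Nonempty (Sylow p H) := inferInstance
  refine not_dvd_of_complement P (hG.exists_complement hc P) ?_
  rw [eq_top_iff]
  rintro ⟨x, hx⟩ -
  have h1 : ({x : G | x ∈ H ∧ (orderOf x).Coprime p}) = H.subtype '' {x : H | (orderOf x).Coprime p} := by
    ext y
    constructor
    · rintro ⟨hy, hy'⟩
      refine ⟨⟨y, hy⟩, ?_, rfl⟩
      show (orderOf (⟨y, hy⟩ : H)).Coprime p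
      rwa [Subgroup.orderOf_mk]
    · rintro ⟨z, hz, rfl⟩
      refine ⟨z.2, ?_⟩
      show (orderOf (z : G)).Coprime p
      rwa [Subgroup.orderOf_coe]
  have h2 := hgen hx
  rw [h1, ← MonoidHom.map_closure] at h2
  obtain ⟨z, hz, hzx⟩ := h2
  have : z = ⟨x, hx⟩ := Subtype.ext hzx
  rwa [← this]

end Cfsg.Agent.H790
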