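import Cfsg.Agent.H790.CycChain
import Cfsg.Agent.H759.FusTransportD
import Cfsg.Agent.H802.FusGroup
import Cfsg.Agent.H802.FusNorm
import Cfsg.Agent.H802.FusEss

/-!
# Supersoluble fusion systems (helper790)

`Super F`: `S` has a chain of strongly closed subgroups with cyclic steps.

* `isNormal_of_super`: then `S` is normal in `F` (F saturated).
* `exists_system`: for a `p'`-group `H` of automorphisms of `S` there is a saturated system over `S` with `H ≤ Aut_F(S)`.
* `super_of_normal`: if `S` is normal in `F` and every `p'`-subgroup of `Aut(S)` is abelian of exponent dividing `p - 1`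
  then `Super F`.
-/

set_option autoImplicit false

namespace Cfsg.Agent.H790

open Cfsg Cfsg.FusionSystem Cfsg.Agent.H759
open scoped commutatorElement

variable {Ω : Type*} [Group Ω] {S : Subgroup Ω}

/-- The chain of the statements. -/
def Super (F : FusionSystem S) : Prop :=
  ∃ (m : ℕ) (c : Fin (m + 1) → Subgroup Ω), c 0 = ⊥ ∧ c (Fin.last m) = S ∧
    (∀ i : Fin (m + 1), F.StronglyClosed (c i)) ∧
    ∀ i : Fin m, c i.castSucc ≤ c i.succ ∧ ∃ x ∈ S, c i.succ = c i.castSucc ⊔ Subgroup.zpowers x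

/-- Reached by a chain of strongly closed subgroups with cyclic steps. -/
inductive SS (F : FusionSystem S) : Subgroup Ω → Prop
  | bot : SS F ⊥
  | step {T U : Subgroup Ω} (x : Ω) : SS F T → x ∈ S → F.StronglyClosed U →
      U = T ⊔ Subgroup.zpowers x → SS F U

theorem SS.stronglyClosed {F : FusionSystem S} {U : Subgroup Ω} (h : SS F U) : F.StronglyClosed U := by
  cases h with
  | bot => exact StronglyClosed.bot
  | step x _ _ h _ => exact h

theorem ss_of_super {F : FusionSystem S} (h : Super F) : SS F S := by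
  obtain ⟨m, c, h0, hl, hs, hst⟩ := h
  have key : ∀ i : Fin (m + 1), SS F (c i) := by
    intro i
    induction i using Fin.induction with
    | zero => rw [h0]; exact SS.bot
    | succ i ih =>
      obtain ⟨-, x, hx, he⟩ := hst i
      exact SS.step x ih hx (hs _) he
  have h1 := key (Fin.last m)
  rwa [hl] at h1

theorem super_of_ss_aux {F : FusionSystem S} {U : Subgroup Ω} (h : SS F U) :
    ∃ (m : ℕ) (c : Fin (m + 1) → Subgroup Ω), c 0 = ⊥ ∧ c (Fin.last m) = U ∧
    (∀ i : Fin (m + 1), F.StronglyClosed (c i)) ∧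
    ∀ i : Fin m, c i.castSucc ≤ c i.succ ∧ ∃ x ∈ S, c i.succ = c i.castSucc ⊔ Subgroup.zpowers x := by
  induction h with
  | bot => exact ⟨0, fun _ => ⊥, rfl, rfl, fun _ => StronglyClosed.bot, fun i => i.elim0⟩
  | @step T U x hT hx hU he ih =>
    obtain ⟨m, c, h0, hl, hs, hst⟩ := ih
    refine ⟨m + 1, Fin.snoc c U, ?_, ?_, ?_, ?_⟩
    · have : (0 : Fin (m + 1 + 1)) = Fin.castSucc 0 := rfl
      rw [this, Fin.snoc_castSucc, h0]
    · rw [Fin.snoc_last]
    · intro i
      refine Fin.lastCases ?_ (fun j => ?_) i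
      · rw [Fin.snoc_last]; exact hU
      · rw [Fin.snoc_castSucc]; exact hs j
    · intro i
      refine Fin.lastCases ?_ (fun j => ?_) i
      · rw [Fin.succ_last, Fin.snoc_last, Fin.snoc_castSucc, hl]
        exact ⟨by rw [he]; exact le_sup_left, x, hx, he⟩
      · rw [Fin.succ_castSucc, Fin.snoc_castSucc, Fin.snoc_castSucc]
        exact hst j

theorem super_iff (F : FusionSystem S) : Super F ↔ SS F S := ⟨ss_of_super, super_of_ss_aux⟩

/-! ### Strongly closed subgroups in the group `S` -/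

theorem subgroupOf_normal {F : FusionSystem S} {T : Subgroup Ω} (hT : F.StronglyClosed T) :
    (T.subgroupOf S).Normal := by
  refine ⟨fun n hn g => ?_⟩
  exact StronglyClosed.conj_mem hT g.2 hn

theorem aut_apply_mem {F : FusionSystem S} {T : Subgroup Ω} (hT : F.StronglyClosed T) {a : MulAut S}
    (ha : a ∈ F.autGroup S) {t : S} (ht : (t : Ω) ∈ T) : ((a t : S) : Ω) ∈ T :=
  StronglyClosed.apply_mem hT ((mem_autGroup F le_rfl).1 ha) ht

theorem subgroupOf_sup_zpowers {T U : Subgroup Ω} {x : Ω} (hx : x ∈ S) (hT : T ≤ S)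
    (hU : U = T ⊔ Subgroup.zpowers x) :
    U.subgroupOf S = T.subgroupOf S ⊔ Subgroup.zpowers (⟨x, hx⟩ : S) := by
  subst hU
  have h1 : Subgroup.zpowers x ≤ S := by rw [Subgroup.zpowers_le]; exact hx
  rw [Subgroup.subgroupOf_sup hT h1]
  congr 1
  ext y
  rw [Subgroup.mem_subgroupOf, Subgroup.mem_zpowers_iff, Subgroup.mem_zpowers_iff]
  exact exists_congr fun k => ⟨fun h => Subtype.ext h, fun h => congrArg Subtype.val h⟩

theorem cc_of_ss {F : FusionSystem S} {U : Subgroup Ω} (h : SS F U) :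
    CC (F.autGroup S) (U.subgroupOf S) := by
  induction h with
  | bot =>
    have : (⊥ : Subgroup Ω).subgroupOf S = ⊥ := by simp
    rw [this]; exact CC.bot
  | @step T U x hT hx hU he ih =>
    exact CC.step ⟨x, hx⟩ ih (subgroupOf_normal hT.stronglyClosed)
      (fun a ha t ht => aut_apply_mem hT.stronglyClosed ha ht)
      (fun a ha t ht => aut_apply_mem hU ha ht)
      (subgroupOf_sup_zpowers hx hT.stronglyClosed.1 he)

/-! ### `S` is normal -/

/-- Chains of strongly closed subgroups centralized by `S` modulo each other. -/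
inductive NC (F : FusionSystem S) : Subgroup Ω → Prop
  | bot : NC F ⊥
  | step {T U : Subgroup Ω} : NC F T → F.StronglyClosed U → ⁅S, U⁆ ≤ T → NC F U

theorem NC.exists_chain {F : FusionSystem S} {U : Subgroup Ω} (h : NC F U) :
    ∃ (n : ℕ) (c : ℕ → Subgroup Ω), c 0 = ⊥ ∧ c n = U ∧ (∀ i ≤ n, F.StronglyClosed (c i)) ∧
      ∀ i < n, ⁅S, c (i + 1)⁆ ≤ c i := by
  induction h with
  | bot => exact ⟨0, fun _ => ⊥, rfl, rfl, fun _ _ => StronglyClosed.bot, fun i hi => absurd hi (by omega)⟩
  | @step T U hT hU hc ih =>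
    obtain ⟨n, c, h0, hn, hs, hst⟩ := ih
    refine ⟨n + 1, fun i => if i ≤ n then c i else U, ?_, ?_, ?_, ?_⟩
    · simpa using h0
    · simp
    · intro i hi
      by_cases h : i ≤ n
      · simp only [h, if_true]; exact hs i h
      · simp only [h, if_false]; exact hU
    · intro i hi
      have h1 : i ≤ n := by omega
      by_cases h : i + 1 ≤ n
      · simp only [h, h1, if_true]; exact hst i (by omega)
      · have h2 : i = n := by omega
        subst h2
        simp only [h, le_refl, if_true, if_false]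
        rw [hn]; exact hc

theorem isNormal_of_nc [Finite S] {p : ℕ} [Fact p.Prime] (hS : IsPGroup p S) {F : FusionSystem S}
    (hF : F.IsSaturated p) (h : NC F S) : F.IsNormal S := by
  obtain ⟨n, c, h0, hn, hs, hst⟩ := h.exists_chain
  exact isNormal_of_chain hS hF n c h0 hn hs hst

/-- Subgroups between strongly closed ones with cyclic quotient are strongly closed. -/
theorem stronglyClosed_between [Finite S] {F : FusionSystem S} {T U V : Subgroup Ω} {x : Ω}
    (hT : F.StronglyClosed T) (hU : F.StronglyClosed U) (hx : x ∈ S) (he : U = T ⊔ Subgroup.zpowers x)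
    (hTV : T ≤ V) (hVU : V ≤ U) : F.StronglyClosed V := by
  refine ⟨hVU.trans hU.1, fun R hR φ hφ r => ?_⟩
  have := subgroupOf_normal hT
  have he' := subgroupOf_sup_zpowers hx hT.1 he
  have hRS : R ≤ S := (F.le_of_mem hφ).1
  have hrU : (r : Ω) ∈ U := hVU (hR r.2)
  have hφU : φ r ∈ U := hU.2 R (hR.trans hVU) φ hφ r
  have h1 := mk_mem_zpowers he' (u := ⟨r, hRS r.2⟩) hrU
  have h2 := mk_mem_zpowers he' (u := ⟨φ r, hU.1 hφU⟩) hφU
  have h3 := mem_zpowers_of_orderOf_dvd (isOfFinOrder_of_finite _) h1 h2 (by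
    rw [orderOf_dvd_iff_pow_eq_one]
    set n := orderOf ((⟨(r : Ω), hRS r.2⟩ : S) : S ⧸ T.subgroupOf S) with hn
    have h4 : ((⟨(r : Ω), hRS r.2⟩ : S) ^ n : S) ∈ T.subgroupOf S := by
      rw [← QuotientGroup.eq_one_iff, QuotientGroup.mk_pow, hn, pow_orderOf_eq_one]
    have h5 : ((r ^ n : R) : Ω) ∈ T := h4
    have h6 : φ (r ^ n) ∈ T := StronglyClosed.apply_mem hT hφ h5
    rw [← QuotientGroup.mk_pow, QuotientGroup.eq_one_iff]
    show (φ r) ^ n ∈ T
    rwa [map_pow] at h6)
  obtain ⟨k, hk⟩ := h3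
  have h4 : (((⟨(r : Ω), hRS r.2⟩ : S) ^ k : S) : S ⧸ T.subgroupOf S) =
      ((⟨φ r, hU.1 hφU⟩ : S) : S ⧸ T.subgroupOf S) := hk
  have h4' : ((⟨(r : Ω), hRS r.2⟩ : S) ^ k)⁻¹ * ⟨φ r, hU.1 hφU⟩ ∈ T.subgroupOf S := QuotientGroup.eq.1 h4
  have h5 : ((r : Ω) ^ k)⁻¹ * φ r ∈ T := h4'
  have h6 : φ r = (r : Ω) ^ k * (((r : Ω) ^ k)⁻¹ * φ r) := by group
  rw [h6]
  exact V.mul_mem (V.zpow_mem (hR r.2) k) (hTV h5)

theorem nc_step [Finite S] {p : ℕ} [Fact p.Prime] (hS : IsPGroup p S) {F : FusionSystem S}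
    {T U : Subgroup Ω} {x : Ω} (hTn : NC F T) (hT : F.StronglyClosed T) (hU : F.StronglyClosed U)
    (hx : x ∈ S) (he : U = T ⊔ Subgroup.zpowers x) : NC F U := by
  have hnil : Group.IsNilpotent S := hS.isNilpotent
  obtain ⟨n, hn⟩ := (Subgroup.isNilpotent_iff_lowerCentralSeries S).1 hnil
  have hTU : T ≤ U := by rw [he]; exact le_sup_left
  have hLn : ∀ j, ∀ s ∈ S, ∀ l ∈ S.lowerCentralSeries j, s * l * s⁻¹ ∈ S.lowerCentralSeries j := by
    intro j s hs l hl
    exact (Subgroup.mem_normalizer_iff.1 (S.self_le_normalizer_lowerCentralSeries j hs) l).1 hl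
  have hLc : ∀ j, ∀ s ∈ S, ∀ l ∈ S.lowerCentralSeries j, s * l * s⁻¹ * l⁻¹ ∈ S.lowerCentralSeries (j + 1) := by
    intro j s hs l hl
    have h1 : s * l * s⁻¹ * l⁻¹ = ⁅l, s⁆⁻¹ := by
      rw [commutatorElement_def]; group
    rw [h1]
    apply Subgroup.inv_mem
    exact Subgroup.commutator_mem_commutator hl hs
  have key : ∀ j, NC F (T ⊔ (U ⊓ S.lowerCentralSeries (n - j))) := by
    intro j
    induction j with
    | zero =>
      rw [Nat.sub_zero, hn, inf_bot_eq, sup_bot_eq]
      exact hTn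
    | succ j ih =>
      by_cases hj : n - j = 0
      · have : n - (j + 1) = n - j := by omega
        rw [this]; exact ih
      · have hj' : n - j = (n - (j + 1)) + 1 := by omega
        rw [hj'] at ih
        set i := n - (j + 1) with hi
        refine NC.step ih (stronglyClosed_between hT hU hx he le_sup_left (sup_le hTU inf_le_left)) ?_
        rw [Subgroup.commutator_le]
        intro s hs w hw
        obtain ⟨t, ht, u, hu, rfl⟩ := (mem_sup_of_normalizes (A := T) (B := U ⊓ S.lowerCentralSeries i) (by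
          rw [Subgroup.le_normalizer_iff]
          intro t ht u hu
          exact ⟨StronglyClosed.conj_mem hU (hT.1 ht) hu.1, hLn i t (hT.1 ht) u hu.2⟩)).1 hw
        have h1 : ⁅s, t * u⁆ = (s * t * s⁻¹ * t⁻¹) * (t * (s * u * s⁻¹ * u⁻¹) * t⁻¹) := by
          rw [commutatorElement_def]; group
        rw [h1]
        refine Subgroup.mul_mem _ (Subgroup.mem_sup_left ?_) (Subgroup.mem_sup_right ⟨?_, ?_⟩)
        · exact T.mul_mem (StronglyClosed.conj_mem hT hs ht) (T.inv_mem ht)
        · exact StronglyClosed.conj_mem hU (hT.1 ht)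
            (U.mul_mem (StronglyClosed.conj_mem hU hs hu.1) (U.inv_mem hu.1))
        · exact hLn (i + 1) t (hT.1 ht) _ (hLc i s hs u hu.2)
  have h1 := key n
  rw [Nat.sub_self, Subgroup.lowerCentralSeries_zero, inf_eq_left.2 hU.1, sup_eq_right.2 hTU] at h1
  exact h1

theorem nc_of_ss [Finite S] {p : ℕ} [Fact p.Prime] (hS : IsPGroup p S) {F : FusionSystem S}
    {U : Subgroup Ω} (h : SS F U) : NC F U := by
  induction h with
  | bot => exact NC.bot
  | @step T U x hT hx hU he ih => exact nc_step hS ih hT.stronglyClosed hU hx he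

/-- **`S` is normal in a supersoluble saturated system.** -/
theorem isNormal_of_super [Finite S] {p : ℕ} [Fact p.Prime] (hS : IsPGroup p S) {F : FusionSystem S}
    (hF : F.IsSaturated p) (h : Super F) : F.IsNormal S :=
  isNormal_of_nc hS hF (nc_of_ss hS (ss_of_super h))

/-! ### A system with a prescribed `p'`-group of automorphisms -/

/-- **For a `p'`-group `H` of automorphisms of `S` there is a saturated system over `S` with `H ≤ Aut_F(S)`.** -/
theorem exists_system [Finite S] {p : ℕ} [Fact p.Prime] (hS : IsPGroup p S) (H : Subgroup (MulAut S))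
    (hH : (Nat.card H).Coprime p) : ∃ F : FusionSystem S, F.IsSaturated p ∧ H ≤ F.autGroup S := by
  have := finite_mulAut S
  let φ : H →* MulAut S := H.subtype
  have : Finite (S ⋊[φ] H) := Finite.of_equiv _ SemidirectProduct.equivProd.symm
  let ι : S →* S ⋊[φ] H := SemidirectProduct.inl
  have hι : Function.Injective ι := SemidirectProduct.inl_injective
  have hcard : Nat.card (S ⋊[φ] H) = Nat.card S * Nat.card H := SemidirectProduct.card
  have hsyl : H802.SylIn p ((⊤ : Subgroup S).map ι) (⊤ : Subgroup (S ⋊[φ] H)) := by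
    refine ⟨le_top, ?_⟩
    rw [card_map hι, Subgroup.card_top, Subgroup.card_top, hcard,
      Nat.factorization_mul Nat.card_pos.ne' Nat.card_pos.ne']
    obtain ⟨e, he⟩ := IsPGroup.iff_card.1 hS
    have h1 : (Nat.card H).factorization p = 0 := by
      apply Nat.factorization_eq_zero_of_not_dvd
      intro h
      have h2 : p ∣ Nat.gcd (Nat.card H) p := Nat.dvd_gcd h dvd_rfl
      rw [hH] at h2
      exact (Fact.out : p.Prime).one_lt.ne' (Nat.dvd_one.1 h2)
    rw [Finsupp.add_apply, h1, add_zero, he, Nat.Prime.factorization_pow Fact.out]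
    simp
  have hsat := H802.fs_isSaturated hsyl
  obtain ⟨X, hX⟩ := exists_pull hι (fusionSystemOfSubgroup ⊤ ((⊤ : Subgroup S).map ι) hsyl.le)
  have hSmap : S = (⊤ : Subgroup S).map S.subtype := by
    rw [← MonoidHom.range_eq_map, Subgroup.range_subtype]
  obtain ⟨F, hF⟩ := exists_push' (hf := Subgroup.subtype_injective S) hSmap X
  have hXs : X.IsSaturated p := hX.isSaturated_iff.1 hsat
  refine ⟨F, hF.isSaturated_iff.2 hXs, fun h hh => ?_⟩
  rw [mem_autGroup F le_rfl]
  -- the map `h` on `⊤ : Subgroup S`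
  let ψ : (⊤ : Subgroup S) →* S := (h : MulAut S).toMonoidHom.comp (⊤ : Subgroup S).subtype
  have hψ : ψ ∈ X.Hom ⊤ := by
    rw [← hX.hom]
    refine ⟨le_rfl, fun y => ?_, SemidirectProduct.inr ⟨h, hh⟩, Subgroup.mem_top _, fun y => ?_⟩
    · obtain ⟨y, rfl⟩ := (eqv hι ⊤).surjective y
      rw [cb_eqv]
      exact ⟨_, Subgroup.mem_top _, rfl⟩
    · obtain ⟨y, rfl⟩ := (eqv hι ⊤).surjective y
      rw [cb_eqv, coe_eqv]
      show SemidirectProduct.inl (φ ⟨h, hh⟩ (y : S)) = _
      rw [SemidirectProduct.inl_aut]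
      simp
      rfl
  have h1 := (hF.hom ⊤ ψ).2 hψ
  refine mem_hom_of_eq F hSmap.symm h1 ?_
  intro x hx hx'
  exact (cb_apply (Subgroup.subtype_injective S) ψ ⟨⟨x, hx'⟩, Subgroup.mem_top _⟩ hx).symm

end Cfsg.Agent.H790
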