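import Mathlib
import Cfsg.Agent.SolvableStructure.HuppertPrimeIndex
import Cfsg.Agent.H759.FusNormal

/-!
# Groups of automorphisms of `p`-groups, abelian of exponent dividing `p - 1` (helper790)

* `exists_invariant_zpowers`: a group of automorphisms of a finite `p`-group `Q ≠ 1` which modulo inner
  automorphisms is abelian of exponent dividing `p - 1` leaves some normal subgroup `⟨x⟩ ≠ 1` invariant.
* `comm_of_chain`, `pow_eq_one_of_chain`: a `p'`-group of automorphisms leaving a chain with cyclic factors invariant is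
  abelian of exponent dividing `p - 1`.
-/

set_option autoImplicit false

namespace Cfsg.Agent.H790

open Cfsg Cfsg.Agent.SolvableStructure.HuppertPrimeIndex

theorem finite_mulAut (G : Type*) [Group G] [Finite G] : Finite (MulAut G) :=
  Finite.of_injective (fun α : MulAut G => α.toEquiv) (fun a b h => by
    ext x; exact congrArg (fun e : G ≃ G => e x) h)

/-- A group acting on a finite `p`-group `Q ≠ 1`, abelian of exponent dividing `p - 1` modulo inner automorphisms,
leaves some subgroup `⟨x⟩ ≠ 1`, normal in `Q`, invariant. -/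
theorem exists_invariant_zpowers {p : ℕ} [Fact p.Prime] {Q A : Type*} [Group Q] [Finite Q] [Nontrivial Q]
    [Group A] [Finite A] (hQ : IsPGroup p Q) (φ : A →* MulAut Q)
    (hcomm : ∀ a b : A, ∃ q : Q, φ (a⁻¹ * b⁻¹ * a * b) = MulAut.conj q)
    (hexp : ∀ a : A, ∃ q : Q, φ (a ^ (p - 1)) = MulAut.conj q) :
    ∃ x : Q, x ≠ 1 ∧ (∀ a, φ a x ∈ Subgroup.zpowers x) ∧ (Subgroup.zpowers x).Normal := by
  classical
  have : Finite (Q ⋊[φ] A) := by
    have : Finite (Q × A) := inferInstance
    exact Finite.of_equiv _ SemidirectProduct.equivProd.symm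
  let P : Subgroup (Q ⋊[φ] A) := (SemidirectProduct.inl : Q →* Q ⋊[φ] A).range
  have hP : P = (SemidirectProduct.rightHom : Q ⋊[φ] A →* A).ker := SemidirectProduct.range_inl_eq_ker_rightHom
  have hPn : P.Normal := by rw [hP]; infer_instance
  have hPp : IsPGroup p P := hQ.of_surjective (SemidirectProduct.inl : Q →* Q ⋊[φ] A).rangeRestrict
    (MonoidHom.rangeRestrict_surjective _)
  have hPne : ⊥ < P := by
    rw [bot_lt_iff_ne_bot]
    intro h
    obtain ⟨x, hx⟩ := exists_ne (1 : Q)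
    apply hx
    have h1 : (SemidirectProduct.inl x : Q ⋊[φ] A) ∈ P := ⟨x, rfl⟩
    rw [h, Subgroup.mem_bot] at h1
    exact SemidirectProduct.inl_injective (h1.trans (map_one _).symm)
  obtain ⟨M, hMn, hM0, hMP, hmin⟩ := exists_chief (⊥ : Subgroup (Q ⋊[φ] A)) P hPne
  have hMne : M ≠ ⊥ := hM0.ne'
  have hmin' : ∀ K : Subgroup (Q ⋊[φ] A), K.Normal → K ≤ M → K = ⊥ ∨ K = M := by
    intro K hK hKM
    rcases eq_or_ne K ⊥ with h | h
    · exact Or.inl h
    · exact Or.inr (hmin K hK (bot_lt_iff_ne_bot.2 h) hKM)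
  have hcent := minimal_normal_commute P M hPp hMP hMne hmin'
  have hMp : IsPGroup p M := hPp.to_le hMP
  -- elements acting as inner automorphisms centralize `M`
  have hin : ∀ g : Q ⋊[φ] A, (∃ q : Q, φ g.right = MulAut.conj q) → ∀ m ∈ M, g * m * g⁻¹ = m := by
    rintro g ⟨q, hq⟩ m hm
    obtain ⟨y, rfl⟩ := hMP hm
    have h1 : g * SemidirectProduct.inl y * g⁻¹ =
        (SemidirectProduct.inl (g.left * q) : Q ⋊[φ] A) * SemidirectProduct.inl y *
          (SemidirectProduct.inl (g.left * q) : Q ⋊[φ] A)⁻¹ := by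
      conv_lhs => rw [← SemidirectProduct.inl_left_mul_inr_right g]
      rw [map_mul]
      have h2 : (SemidirectProduct.inr g.right : Q ⋊[φ] A) * SemidirectProduct.inl y *
          (SemidirectProduct.inr g.right : Q ⋊[φ] A)⁻¹ = SemidirectProduct.inl (φ g.right y) := by
        rw [SemidirectProduct.inl_aut]
        simp
      calc (SemidirectProduct.inl g.left : Q ⋊[φ] A) * SemidirectProduct.inr g.right * SemidirectProduct.inl y *
            ((SemidirectProduct.inl g.left : Q ⋊[φ] A) * SemidirectProduct.inr g.right)⁻¹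
          = (SemidirectProduct.inl g.left : Q ⋊[φ] A) * (SemidirectProduct.inr g.right *
              SemidirectProduct.inl y * (SemidirectProduct.inr g.right)⁻¹) *
              (SemidirectProduct.inl g.left : Q ⋊[φ] A)⁻¹ := by group
        _ = (SemidirectProduct.inl g.left : Q ⋊[φ] A) * SemidirectProduct.inl (φ g.right y) *
              (SemidirectProduct.inl g.left : Q ⋊[φ] A)⁻¹ := by rw [h2]
        _ = _ := by
          rw [hq]
          show (SemidirectProduct.inl g.left : Q ⋊[φ] A) * SemidirectProduct.inl (q * y * q⁻¹) *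
              (SemidirectProduct.inl g.left : Q ⋊[φ] A)⁻¹ = _
          rw [map_mul, map_mul, map_inv]
          group
    rw [h1, hcent _ ⟨_, rfl⟩ _ hm, mul_inv_cancel_right]
  have hcomm' : ∀ g h : Q ⋊[φ] A, ∀ m ∈ M, (g * h) * m * (g * h)⁻¹ = (h * g) * m * (h * g)⁻¹ := by
    intro g h m hm
    have h1 : (h * g) * (g⁻¹ * h⁻¹ * g * h) = g * h := by group
    have h2 := hin (g⁻¹ * h⁻¹ * g * h) (by
      obtain ⟨q, hq⟩ := hcomm g.right h.right
      exact ⟨q, hq⟩) m hm
    calc (g * h) * m * (g * h)⁻¹ = (h * g) * ((g⁻¹ * h⁻¹ * g * h) * m * (g⁻¹ * h⁻¹ * g * h)⁻¹) *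
          (h * g)⁻¹ := by rw [← h1]; group
      _ = _ := by rw [h2]
  have hexp' : ∀ g : Q ⋊[φ] A, ∀ m ∈ M, g ^ (p - 1) * m * (g ^ (p - 1))⁻¹ = m := by
    intro g m hm
    refine hin _ ?_ m hm
    obtain ⟨q, hq⟩ := hexp g.right
    refine ⟨q, ?_⟩
    have : (g ^ (p - 1)).right = g.right ^ (p - 1) := by
      exact map_pow (SemidirectProduct.rightHom : Q ⋊[φ] A →* A) g (p - 1)
    rw [this, hq]
  have hab : ∀ a ∈ M, ∀ b ∈ M, a * b = b * a := fun a ha b hb => hcent a (hMP ha) b hb
  have hcard := card_eq_of_abelian_exponent M hMp hMne hmin' hab hcomm' hexp'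
  -- a generator
  obtain ⟨m, hm1⟩ := Subgroup.ne_bot_iff_exists_ne_one.1 hMne
  obtain ⟨x, hx⟩ := hMP m.2
  have hgen : Subgroup.zpowers (m : Q ⋊[φ] A) = M := by
    have h1 : Subgroup.zpowers (m : Q ⋊[φ] A) ≤ M := by rw [Subgroup.zpowers_le]; exact m.2
    refine Subgroup.eq_of_le_of_card_ge h1 ?_
    rw [hcard, Nat.card_zpowers]
    have h2 : orderOf (m : Q ⋊[φ] A) ∣ p := by
      rw [Subgroup.orderOf_coe, ← hcard]
      exact orderOf_dvd_natCard m
    rcases (Nat.dvd_prime Fact.out).1 h2 with h3 | h3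
    · exfalso
      rw [orderOf_eq_one_iff] at h3
      exact hm1 (Subtype.ext h3)
    · exact h3.ge
  have hinv : ∀ g : Q ⋊[φ] A, ∀ y : Q, (SemidirectProduct.inl y : Q ⋊[φ] A) = g * SemidirectProduct.inl x * g⁻¹ →
      y ∈ Subgroup.zpowers x := by
    intro g y hy
    have h1 : (SemidirectProduct.inl y : Q ⋊[φ] A) ∈ M := by
      rw [hy, hx]
      exact hMn.conj_mem _ m.2 g
    rw [← hgen, ← hx, Subgroup.mem_zpowers_iff] at h1
    obtain ⟨k, hk⟩ := h1
    refine ⟨k, ?_⟩
    apply SemidirectProduct.inl_injective (φ := φ)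
    rw [← hk]
    exact map_zpow _ _ _
  refine ⟨x, ?_, ?_, ?_⟩
  · rintro rfl
    rw [map_one] at hx
    exact hm1 (Subtype.ext hx.symm)
  · intro a
    refine hinv (SemidirectProduct.inr a) _ ?_
    rw [SemidirectProduct.inl_aut]
    simp
  · refine ⟨fun n hn g => ?_⟩
    obtain ⟨k, rfl⟩ := hn
    have h1 : g * x * g⁻¹ ∈ Subgroup.zpowers x := hinv (SemidirectProduct.inl g) _ (by simp)
    have h2 : g * x ^ k * g⁻¹ = (g * x * g⁻¹) ^ k := by rw [conj_zpow]
    show g * x ^ k * g⁻¹ ∈ _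
    rw [h2]
    exact Subgroup.zpow_mem _ h1 k

end Cfsg.Agent.H790
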