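import Cfsg.Agent.H790.SuperFus

/-!
# Supersoluble fusion systems: the criterion (helper790)
-/

set_option autoImplicit false

namespace Cfsg.Agent.H790

open Cfsg Cfsg.FusionSystem Cfsg.Agent.H759

variable {Ω : Type*} [Group Ω] {S : Subgroup Ω}

theorem autInducedBy_self : autInducedBy S S = Inn S := by
  refine le_antisymm ?_ (H802.inn_le_autInducedBy le_rfl)
  intro α hα
  obtain ⟨g, hg, h⟩ := (H802.mem_autInducedBy_iff S S α).1 hα
  exact ⟨⟨g, hg⟩, MulEquiv.ext fun x => Subtype.ext (h x).symm⟩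

theorem isFullyNormalized_self [Finite S] (F : FusionSystem S) : F.IsFullyNormalized S := by
  refine ⟨le_rfl, fun Q hQ => ?_⟩
  have h1 : Q = S := by
    obtain ⟨φ, hφ, rfl⟩ := hQ
    exact H802.range_eq_of_mapsTo hφ (fun x => H802.hom_apply_mem hφ x)
  rw [h1]

/-- In a saturated system over `S`, if the `p'`-subgroups of `Aut(S)` are abelian of exponent dividing `p - 1`, then
`Aut_F(S)` is abelian of exponent dividing `p - 1` modulo inner automorphisms. -/
theorem mod_inner [Finite S] {p : ℕ} [Fact p.Prime] (hS : IsPGroup p S) {F : FusionSystem S}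
    (hF : F.IsSaturated p)
    (hH : ∀ H : Subgroup (MulAut S), (Nat.card H).Coprime p → IsMulCommutative H ∧ ∀ h ∈ H, h ^ (p - 1) = 1) :
    (∀ a ∈ F.autGroup S, ∀ b ∈ F.autGroup S, a⁻¹ * b⁻¹ * a * b ∈ Inn S) ∧
      ∀ a ∈ F.autGroup S, a ^ (p - 1) ∈ Inn S := by
  have := finite_mulAut S
  obtain ⟨A, hA⟩ : ∃ A, A = F.autGroup S := ⟨_, rfl⟩
  obtain ⟨R, hR⟩ : ∃ R : Sylow p A, (R : Subgroup A) = (Inn S).subgroupOf A := by
    obtain ⟨R, hR⟩ := (H802.isFullyAutomized_of_isFullyNormalized hS hF (isFullyNormalized_self F)).2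
    rw [autInducedBy_self] at hR
    subst hA
    exact ⟨R, hR⟩
  rw [← hA]
  set N := (Inn S).subgroupOf A with hN
  have hNn : N.Normal := inferInstance
  have hcop : (Nat.card N).Coprime N.index := by
    rw [← hR]
    exact R.card_coprime_index
  obtain ⟨C, hC⟩ := Subgroup.exists_right_complement'_of_coprime hcop
  have hcardC : Nat.card (C.map A.subtype) = N.index := by
    rw [hC.symm.index_eq_card]
    exact (Nat.card_congr (C.equivMapOfInjective _ A.subtype_injective).toEquiv).symm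
  have hpN : (N.index).Coprime p := by
    rw [← hR]
    have h1 := R.not_dvd_index
    exact (((Nat.Prime.coprime_iff_not_dvd Fact.out).2 h1)).symm
  obtain ⟨hc, he⟩ := hH (C.map A.subtype) (by rw [hcardC]; exact hpN)
  have hmul : ∀ a : A, ∃ c ∈ C, ∃ n ∈ N, a = n * c := by
    intro a
    have h1 := hC.sup_eq_top
    have h2 : a ∈ N ⊔ C := by rw [h1]; exact Subgroup.mem_top a
    obtain ⟨n, hn, c, hc', rfl⟩ := Subgroup.mem_sup_of_normal_left.1 h2
    exact ⟨c, hc', n, hn, rfl⟩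
  have hmk : ∀ a : A, ∃ c ∈ C, (a : A ⧸ N) = (c : A ⧸ N) := by
    intro a
    obtain ⟨c, hc', n, hn, rfl⟩ := hmul a
    refine ⟨c, hc', ?_⟩
    rw [QuotientGroup.mk_mul, (QuotientGroup.eq_one_iff n).2 hn, one_mul]
  have hcc : ∀ c ∈ C, ∀ d ∈ C, c * d = d * c := by
    intro c hc' d hd
    have h1 := congrArg Subtype.val (hc.1.1 ⟨(c : MulAut S), c, hc', rfl⟩ ⟨(d : MulAut S), d, hd, rfl⟩)
    exact Subtype.ext h1
  constructor
  · intro a ha b hb
    obtain ⟨c, hc', h1⟩ := hmk ⟨a, ha⟩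
    obtain ⟨d, hd, h2⟩ := hmk ⟨b, hb⟩
    have h3 : (((⟨a, ha⟩ : A)⁻¹ * (⟨b, hb⟩ : A)⁻¹ * ⟨a, ha⟩ * ⟨b, hb⟩ : A) : A ⧸ N) = 1 := by
      rw [QuotientGroup.mk_mul, QuotientGroup.mk_mul, QuotientGroup.mk_mul, QuotientGroup.mk_inv,
        QuotientGroup.mk_inv, h1, h2, ← QuotientGroup.mk_inv, ← QuotientGroup.mk_inv, ← QuotientGroup.mk_mul,
        ← QuotientGroup.mk_mul, ← QuotientGroup.mk_mul]
      have h4 : c⁻¹ * d⁻¹ * c * d = 1 := by
        have h5 : c⁻¹ * d⁻¹ * c * d = (d * c)⁻¹ * (c * d) := by group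
        rw [h5, hcc c hc' d hd, inv_mul_cancel]
      rw [h4]; rfl
    exact (QuotientGroup.eq_one_iff ((⟨a, ha⟩ : A)⁻¹ * (⟨b, hb⟩ : A)⁻¹ * ⟨a, ha⟩ * ⟨b, hb⟩)).1 h3
  · intro a ha
    obtain ⟨c, hc', h1⟩ := hmk ⟨a, ha⟩
    have h3 : (((⟨a, ha⟩ : A) ^ (p - 1) : A) : A ⧸ N) = 1 := by
      rw [QuotientGroup.mk_pow, h1, ← QuotientGroup.mk_pow]
      have h4 : c ^ (p - 1) = 1 := by
        apply Subtype.ext
        exact he c ⟨c, hc', rfl⟩
      rw [h4]; rfl
    exact (QuotientGroup.eq_one_iff ((⟨a, ha⟩ : A) ^ (p - 1))).1 h3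

/-- Maps extend to `S` when `S` is normal. -/
theorem exists_aut_of_isNormal [Finite S] {F : FusionSystem S} (hn : F.IsNormal S) {R : Subgroup Ω}
    {φ : R →* Ω} (hφ : φ ∈ F.Hom R) :
    ∃ α ∈ F.autGroup S, ∀ (x : Ω) (hx : x ∈ R) (hx' : x ∈ S), φ ⟨x, hx⟩ = ((α ⟨x, hx'⟩ : S) : Ω) := by
  obtain ⟨ψ, hψ, h1, h2⟩ := hn.2 R φ hφ
  have hRS : R ≤ S := (F.le_of_mem hφ).1
  have hle : S ≤ R ⊔ S := le_sup_right
  obtain ⟨α, hα, h3⟩ := H802.exists_aut (F := F) (P := S) (φ := ψ.comp (Subgroup.inclusion hle))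
    (res_mem_comp F hψ hle) (H802.range_eq_of_mapsTo (res_mem_comp F hψ hle)
      (fun x => (F.le_of_mem (res_mem_comp F hψ hle)).2 x))
  refine ⟨α, hα, fun x hx hx' => ?_⟩
  rw [h3]
  exact (h1 ⟨x, hx⟩).symm

/-- One step of the chain. -/
theorem exists_step [Finite S] {p : ℕ} [Fact p.Prime] (hS : IsPGroup p S) {F : FusionSystem S}
    (hF : F.IsSaturated p) (hn : F.IsNormal S)
    (hH : ∀ H : Subgroup (MulAut S), (Nat.card H).Coprime p → IsMulCommutative H ∧ ∀ h ∈ H, h ^ (p - 1) = 1)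
    {T : Subgroup Ω} (hT : F.StronglyClosed T) (hne : T ≠ S) :
    ∃ x ∈ S, x ∉ T ∧ F.StronglyClosed (T ⊔ Subgroup.zpowers x) := by
  have := finite_mulAut S
  have hTn := subgroupOf_normal hT
  obtain ⟨hc, he⟩ := mod_inner hS hF hH
  set A := F.autGroup S with hA
  have hTA : ∀ a ∈ A, ∀ t ∈ T.subgroupOf S, a t ∈ T.subgroupOf S := fun a ha t ht => aut_apply_mem hT ha ht
  have hnt : Nontrivial (S ⧸ T.subgroupOf S) := by
    rw [QuotientGroup.nontrivial_iff]
    intro h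
    rw [Subgroup.subgroupOf_eq_top] at h
    exact hne (le_antisymm hT.1 h)
  have hin : ∀ a : A, (a : MulAut S) ∈ Inn S → ∃ q, quotAct A _ hTA a = MulAut.conj q := by
    rintro a ⟨g, hg⟩
    refine ⟨(g : S ⧸ T.subgroupOf S), ?_⟩
    ext y
    obtain ⟨y, rfl⟩ := QuotientGroup.mk_surjective y
    rw [quotAct_mk, ← hg]
    rfl
  obtain ⟨y, hy1, hyA, hyn⟩ := exists_invariant_zpowers (hS.to_quotient (T.subgroupOf S))
    (quotAct A (T.subgroupOf S) hTA)
    (fun a b => hin _ (hc a a.2 b b.2)) (fun a => hin _ (he a a.2))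
  obtain ⟨x, rfl⟩ := QuotientGroup.mk_surjective y
  refine ⟨x, x.2, ?_, ?_⟩
  · intro h
    exact hy1 ((QuotientGroup.eq_one_iff x).2 h)
  · have hU : (T ⊔ Subgroup.zpowers (x : Ω)).subgroupOf S = T.subgroupOf S ⊔ Subgroup.zpowers x :=
      subgroupOf_sup_zpowers x.2 hT.1 rfl
    have hle : T ⊔ Subgroup.zpowers (x : Ω) ≤ S := sup_le hT.1 (by rw [Subgroup.zpowers_le]; exact x.2)
    refine ⟨hle, fun R hR φ hφ r => ?_⟩
    obtain ⟨α, hα, h1⟩ := exists_aut_of_isNormal hn hφ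
    have hrS : (r : Ω) ∈ S := hle (hR r.2)
    rw [h1 r r.2 hrS]
    have h2 : (⟨(r : Ω), hrS⟩ : S) ∈ (T ⊔ Subgroup.zpowers (x : Ω)).subgroupOf S := hR r.2
    obtain ⟨k, hk⟩ := mk_mem_zpowers hU h2
    have h3 : ((α ⟨(r : Ω), hrS⟩ : S) : S ⧸ T.subgroupOf S) ∈ Subgroup.zpowers ((x : S) : S ⧸ T.subgroupOf S) := by
      have h4 : ((α ⟨(r : Ω), hrS⟩ : S) : S ⧸ T.subgroupOf S) =
          quotAct A (T.subgroupOf S) hTA ⟨α, hα⟩ ((⟨(r : Ω), hrS⟩ : S) : S ⧸ T.subgroupOf S) := rfl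
      rw [h4, ← hk]
      simp only
      rw [map_zpow]
      exact Subgroup.zpow_mem _ (hyA ⟨α, hα⟩) k
    exact mem_of_mk_mem_zpowers hU h3

/-- **Supersolubility from the normality of `S` and the condition on `Aut(S)`.** -/
theorem super_of_normal [Finite S] {p : ℕ} [Fact p.Prime] (hS : IsPGroup p S) {F : FusionSystem S}
    (hF : F.IsSaturated p) (hn : F.IsNormal S)
    (hH : ∀ H : Subgroup (MulAut S), (Nat.card H).Coprime p → IsMulCommutative H ∧ ∀ h ∈ H, h ^ (p - 1) = 1) :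
    Super F := by
  rw [super_iff]
  have key : ∀ (n : ℕ) (T : Subgroup Ω), SS F T → Nat.card S - Nat.card T = n → SS F S := by
    intro n
    induction n using Nat.strong_induction_on with
    | _ n ih =>
      intro T hT hcard
      by_cases hne : T = S
      · subst hne; exact hT
      · obtain ⟨x, hxS, hxT, hU⟩ := exists_step hS hF hn hH hT.stronglyClosed hne
        have hlt : T < T ⊔ Subgroup.zpowers x := by
          refine lt_of_le_of_ne le_sup_left (fun h => hxT ?_)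
          rw [h]
          exact Subgroup.mem_sup_right (Subgroup.mem_zpowers x)
        have hfin : Finite (T ⊔ Subgroup.zpowers x : Subgroup Ω) := H802.finite_of_le hU.1
        have h1 : Nat.card T < Nat.card (T ⊔ Subgroup.zpowers x : Subgroup Ω) := by
          by_contra hcon
          exact hlt.ne (Subgroup.eq_of_le_of_card_ge hlt.le (not_lt.1 hcon))
        have h2 : Nat.card (T ⊔ Subgroup.zpowers x : Subgroup Ω) ≤ Nat.card S :=
          Nat.card_le_card_of_injective _ (Subgroup.inclusion_injective hU.1)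
        exact ih (Nat.card S - Nat.card (T ⊔ Subgroup.zpowers x : Subgroup Ω)) (by omega) _
          (SS.step x hT hxS hU rfl) rfl
  exact key _ ⊥ SS.bot rfl

/-- **The criterion.** -/
theorem all_super_iff [Finite S] {p : ℕ} [Fact p.Prime] (hS : IsPGroup p S) :
    (∀ F : FusionSystem S, F.IsSaturated p → Super F) ↔
      (∀ F : FusionSystem S, F.IsSaturated p → F.IsNormal S) ∧
        ∀ H : Subgroup (MulAut S), (Nat.card H).Coprime p → IsMulCommutative H ∧ ∀ h ∈ H, h ^ (p - 1) = 1 := by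
  constructor
  · intro h
    refine ⟨fun F hF => isNormal_of_super hS hF (h F hF), fun H hH => ?_⟩
    obtain ⟨F, hF, hHF⟩ := exists_system hS H hH
    have h1 := cc_of_ss (ss_of_super (h F hF))
    rw [Subgroup.subgroupOf_self] at h1
    exact abelian_of_cc hS h1 H hHF hH
  · rintro ⟨hn, hH⟩ F hF
    exact super_of_normal hS hF (hn F hF) hH

end Cfsg.Agent.H790
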