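import Cfsg.Agent.H790.TwFix

/-!
# A subgroup `3 ^ 2` with all elements conjugate in a twisted torus (helper790)

* `VP G` : the existence statement used in `TriHyp`;
* `vp_of_cert` : `VP` for the fixed points of a twisted Frobenius from explicit data.
-/

set_option autoImplicit false
set_option linter.unusedSectionVars false

namespace Cfsg.Agent.H790.TriV

open CoxeterSystem Cfsg Cfsg.Lie Cfsg.Lie.ChevalleyDatum
open Cfsg.Agent.ChevalleyStructure Cfsg.Agent.ChevalleyStructure.Elts Cfsg.Agent.ChevalleyStructure.CoxeterGeom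
  Cfsg.Agent.ChevalleyStructure.CoxeterGeomTypes Cfsg.Agent.ChevalleyStructure.NPerm
open Cfsg.Agent.Tits.Roots Cfsg.Agent.Tits.Core Cfsg.Agent.Nodes Cfsg.Agent.Nodes.Reps Cfsg.Agent.Nodes.BNOf
  Cfsg.Agent.Nodes.RGDChev Cfsg.Agent.Nodes.Bruhat
open Cfsg.Agent.KFacts.RgdField Cfsg.Agent.KFacts.RgdChevCoord Cfsg.Agent.BpExc.TorCent Cfsg.Agent.BpExc.TorChev
open Cfsg.Agent.GpExc.Field Cfsg.Agent.BpExc.Tow Cfsg.Agent.BpExc.TowChev Cfsg.Agent.BpExc.Fr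
  Cfsg.Agent.BpExc.LangFr Cfsg.Agent.H129.TorusChar Cfsg.Agent.H129.TorusMain Cfsg.Agent.H123.ExcZ
open Cfsg.Agent.BpExc Cfsg.Agent.H795.LangT Cfsg.Agent.H795.Core Cfsg.Agent.H129.WData
  Cfsg.Agent.H795.NotAbT Cfsg.Agent.H795.NotAbCert Cfsg.Agent.H790.TwFix Cfsg.Agent.H629.ExcTor

universe u v

/-- a subgroup `3 ^ 2` with all elements conjugate -/
def VP (G : Type*) [Group G] : Prop :=
  ∃ v1 v2 x1 x2 : G, v1 ≠ 1 ∧ v1 ^ 3 = 1 ∧ v1 * v2 = v2 * v1 ∧ x1 * v1 * x1⁻¹ = v2 ∧ x1 * v2 * x1⁻¹ = v1⁻¹ ∧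
    x2 * v1 * x2⁻¹ = v1 * v2

theorem VP.congr {G H : Type*} [Group G] [Group H] (e : G ≃* H) (h : VP G) : VP H := by
  obtain ⟨v1, v2, x1, x2, h1, h2, h3, h4, h5, h6⟩ := h
  refine ⟨e v1, e v2, e x1, e x2, ?_, ?_, ?_, ?_, ?_, ?_⟩
  · intro h; exact h1 (e.injective (by rw [h, map_one]))
  · rw [← map_pow, h2, map_one]
  · rw [← map_mul, h3, map_mul]
  · rw [← map_inv, ← map_mul, ← map_mul, h4]
  · rw [← map_inv, ← map_mul, ← map_mul, h5, map_inv]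
  · rw [← map_inv, ← map_mul, ← map_mul, h6, map_mul]

/-- the checks -/
def VCert (l : ℕ) (Gm U Th U1 U2 : Mat l) (c1 c2 : Fin l → ℤ) (q0 : ℤ) : Prop :=
  (∀ j m, ∑ n, Gm j n * U n m = Th j m) ∧ (∀ j m, ∑ n, Th j n * U1 n m = ∑ n, U1 j n * Th n m) ∧
  (∀ j m, ∑ n, Th j n * U2 n m = ∑ n, U2 j n * Th n m) ∧
  (∀ j, (3 : ℤ) ∣ ∑ m, Th j m * c1 m - q0 * c1 j) ∧ (∀ j, (3 : ℤ) ∣ ∑ m, Th j m * c2 m - q0 * c2 j) ∧
  (∀ j, (3 : ℤ) ∣ ∑ m, U1 j m * c2 m - c1 j) ∧ (∀ j, (3 : ℤ) ∣ (∑ m, U1 j m * c1 m) + c2 j) ∧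
  (∀ j, (3 : ℤ) ∣ ∑ m, U2 j m * c1 m + ∑ m, U2 j m * c2 m - c1 j) ∧ (∃ j, ¬ (3 : ℤ) ∣ c1 j)

instance decVCert (l : ℕ) (Gm U Th U1 U2 : Mat l) (c1 c2 : Fin l → ℤ) (q0 : ℤ) :
    Decidable (VCert l Gm U Th U1 U2 c1 c2 q0) := by
  unfold VCert; infer_instance

section

variable {D : ChevalleyDatum} {l : ℕ} {M : CoxeterMatrix (Fin l)} (hp : IsType D l M)
  {k : Type u} [Field k] {r e : ℕ} [Fact r.Prime] [CharP k r]
  {σ : MulAut ↥(D.group k)} {g : (Fin l → ℤ) ≃+ (Fin l → ℤ)} [IsAlgClosed k] (hk : LocFin k)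

include hk in
/-- conjugation of torus elements by representatives -/
theorem conj_tor {v : M.Group} {m : ↥(D.group k)} (hm : Rp M.toCoxeterSystem (tow hp M.toCoxeterSystem hk r).nsys v m)
    {t1 t2 : ↥(D.group k)} (h1 : t1 ∈ TT D k) (h2 : t2 ∈ TT D k)
    (h : ∀ x, cX hp t2 (rep M.toCoxeterSystem hp.isCartan v x) = cX hp t1 x) : m * t1 * m⁻¹ = t2 := by
  refine cX_inj hp (rp_conj_mem hp hk hm h1) h2 fun i => ?_
  have hsurj : sr i = rep M.toCoxeterSystem hp.isCartan v (rep M.toCoxeterSystem hp.isCartan v⁻¹ (sr i)) := by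
    rw [← rep_mul_apply, mul_inv_cancel, map_one, Module.End.one_apply]
  rw [hsurj, cX_rp' hp hk hm h1, h]

/-- evaluation of `fun_` -/
theorem fun_eq {v : M.Group} {V : Mat l} (hV : IsMat hp v V) {p : ℕ} {c : Fin l → ℤ} (f : (Fin l → ℤ) →+ ZMod p)
    (hf : ∀ j, ((∑ m, V j m * c m : ℤ) : ZMod p) = f (sr j)) (x : Fin l → ℤ) :
    fun_ p c (rep M.toCoxeterSystem hp.isCartan v x) = f x := by
  refine addHom_ext (f := (fun_ p c).comp (rep M.toCoxeterSystem hp.isCartan v).toAddMonoidHom) (f' := f)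
    (fun j => ?_) x
  show fun_ p c (rep M.toCoxeterSystem hp.isCartan v (sr j)) = f (sr j)
  rw [hV, fun_apply, hf]

theorem fun_sr (p : ℕ) (c : Fin l → ℤ) (j : Fin l) : fun_ p c (sr j) = ((c j : ℤ) : ZMod p) := by
  rw [fun_apply]
  congr 1
  simp only [sr_apply']
  simp

theorem zeta_add {p : ℕ} [Fact p.Prime] {ζ : k} (hζ : IsPrimitiveRoot ζ p) (x y : ZMod p) :
    ζ ^ (x + y).val = ζ ^ x.val * ζ ^ y.val := by
  rw [← pow_add, ZMod.val_add]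
  exact (pow_eq_pow_mod _ hζ.pow_eq_one).symm

include hk in
/-- **`VP` from explicit data.** -/
theorem vp_of_cert [Fact (Nat.Prime 3)] (he : 0 < e) (hσ : IsFrob r e σ)
    (F : Fr M.toCoxeterSystem hp.isCartan (TT D k) (XX D l k) σ g) (hpr : 3 ≠ r) {d : ℕ} {B : Fin l → Fin l → ℤ}
    (hB : InvC D l d B) (hd : d ≠ 0) {w u1 u2 : M.Group} {Gm U Th U1 U2 : Mat l} (hg : ∀ j, g (sr j) = Gm j)
    (hU : IsMat hp w U) (hU1 : IsMat hp u1 U1) (hU2 : IsMat hp u2 U2) {c1 c2 : Fin l → ℤ} {q0 : ℤ}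
    (hq0 : ((r ^ e : ℕ) : ZMod 3) = (q0 : ZMod 3)) (hc : VCert l Gm U Th U1 U2 c1 c2 q0) :
    ∃ n z, n = z⁻¹ * σ z ∧ VP ↥(fixS (MulAut.conj n * σ)) := by
  obtain ⟨n, z, hn, hz, hτ, Fτ⟩ := exists_tau hp hk he hσ F w
  obtain ⟨c1', c2', c3, c4, c5, c6, c7, c8, c9⟩ := hc
  obtain ⟨m1, hm1, hτm1⟩ := exists_lift_tau hp hk hB hd he hσ F hτ Fτ (comm_of hg hU hU1 c1' c2')
  obtain ⟨m2, hm2, hτm2⟩ := exists_lift_tau hp hk hB hd he hσ F hτ Fτ (comm_of hg hU hU2 c1' c3)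
  obtain ⟨ζ, hζ⟩ := exists_zeta (k := k) hpr
  obtain ⟨t1, ht1, hct1, htp1, hτt1⟩ := exists_tor_tau hp hB hd F hτ Fτ hζ (c := fun_ 3 c1)
    (eig_of hg hU c1' hq0 (by exact_mod_cast c4))
  obtain ⟨t2, ht2, hct2, htp2, hτt2⟩ := exists_tor_tau hp hB hd F hτ Fτ hζ (c := fun_ 3 c2)
    (eig_of hg hU c1' hq0 (by exact_mod_cast c5))
  have h12 : t1 * t2 = t2 * t1 := TT_comm hp _ ht1 _ ht2
  have hz3 : ∀ a : ℤ, (3 : ℤ) ∣ a → ((a : ℤ) : ZMod 3) = 0 := fun a ha => by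
    rw [ZMod.intCast_zmod_eq_zero_iff_dvd]; exact_mod_cast ha
  have e1 : m1 * t1 * m1⁻¹ = t2 := by
    refine conj_tor hp hk hm1 ht1 ht2 fun x => ?_
    rw [hct1, hct2, fun_eq hp hU1 (fun_ 3 c1) (fun j => ?_)]
    rw [fun_sr, ← sub_eq_zero, ← Int.cast_sub]
    exact hz3 _ (c6 j)
  have e2 : m1 * t2 * m1⁻¹ = t1⁻¹ := by
    refine conj_tor hp hk hm1 ht2 (inv_mem ht1) fun x => ?_
    rw [cX_inv hp ht1, hct1, hct2, fun_eq hp hU1 (-fun_ 3 c2) (fun j => ?_)]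
    · refine inv_eq_of_mul_eq_one_right ?_
      rw [← zeta_add hζ]
      show ζ ^ (-fun_ 3 c2 x + fun_ 3 c2 x).val = 1
      rw [neg_add_cancel, ZMod.val_zero, pow_zero]
    · show _ = -(fun_ 3 c2 (sr j))
      rw [fun_sr, ← add_eq_zero_iff_eq_neg, ← Int.cast_add]
      exact hz3 _ (c7 j)
  have e3 : m2 * t1 * m2⁻¹ = t1 * t2 := by
    refine conj_tor hp hk hm2 ht1 (mul_mem ht1 ht2) fun x => ?_
    rw [cX_mul hp ht1 ht2, hct1, hct2, hct1 x, ← zeta_add hζ]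
    congr 2
    refine addHom_ext (f := (fun_ 3 c1 + fun_ 3 c2).comp (rep M.toCoxeterSystem hp.isCartan u2).toAddMonoidHom)
      (f' := fun_ 3 c1) (fun j => ?_) x
    show fun_ 3 c1 (rep M.toCoxeterSystem hp.isCartan u2 (sr j)) +
      fun_ 3 c2 (rep M.toCoxeterSystem hp.isCartan u2 (sr j)) = fun_ 3 c1 (sr j)
    rw [hU2, fun_apply, fun_apply, fun_sr, ← sub_eq_zero, ← Int.cast_add, ← Int.cast_sub]
    exact hz3 _ (c8 j)
  have ht1ne : t1 ≠ 1 := by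
    intro h
    obtain ⟨j, hj⟩ := c9
    apply hj
    have h1 := hct1 (sr j)
    rw [h, cX_one, fun_sr] at h1
    have h2 : ζ ^ (0 : ZMod 3).val = ζ ^ ((c1 j : ℤ) : ZMod 3).val := by rw [ZMod.val_zero, pow_zero, h1]
    have h3 := pow_val_inj hζ h2
    rw [eq_comm, ZMod.intCast_zmod_eq_zero_iff_dvd] at h3
    exact_mod_cast h3
  refine ⟨n, z, hz, ⟨t1, hτt1⟩, ⟨t2, hτt2⟩, ⟨m1, hτm1⟩, ⟨m2, hτm2⟩, fun h => ht1ne (congrArg Subtype.val h),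
    Subtype.ext htp1, Subtype.ext h12, Subtype.ext e1, Subtype.ext e2, Subtype.ext e3⟩

end

end Cfsg.Agent.H790.TriV
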