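import Cfsg.Agent.H790.TwLevi
import Cfsg.Agent.H795.NotAbCert

/-!
# Fixed points of twisted Frobenius automorphisms (helper790)

* `iso_of` : the fixed points of `conj n * σ`, `n = z⁻¹ σ z`, are isomorphic to the fixed points of `σ`;
* `tor_fix`, `exists_tor_exp` : torus elements fixed by `τ`;
* `wconj` : torus elements conjugate in `D.group k` are conjugate under the Weyl group.
-/

set_option autoImplicit false
set_option linter.unusedSectionVars false

namespace Cfsg.Agent.H790.TwFix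

open CoxeterSystem Cfsg Cfsg.Lie Cfsg.Lie.ChevalleyDatum
open Cfsg.Agent.ChevalleyStructure Cfsg.Agent.ChevalleyStructure.Elts Cfsg.Agent.ChevalleyStructure.CoxeterGeom
  Cfsg.Agent.ChevalleyStructure.CoxeterGeomTypes Cfsg.Agent.ChevalleyStructure.NPerm
open Cfsg.Agent.Tits.Roots Cfsg.Agent.Tits.Core Cfsg.Agent.Nodes Cfsg.Agent.Nodes.Reps Cfsg.Agent.Nodes.BNOf
  Cfsg.Agent.Nodes.RGDChev Cfsg.Agent.Nodes.Bruhat
open Cfsg.Agent.KFacts.RgdField Cfsg.Agent.KFacts.RgdChevCoord Cfsg.Agent.BpExc.TorCent Cfsg.Agent.BpExc.TorChev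
open Cfsg.Agent.GpExc.Field Cfsg.Agent.BpExc.Tow Cfsg.Agent.BpExc.TowChev Cfsg.Agent.BpExc.Fr
  Cfsg.Agent.BpExc.LangFr Cfsg.Agent.H129.TorusChar Cfsg.Agent.H129.TorusMain Cfsg.Agent.H123.ExcZ
open Cfsg.Agent.BpExc Cfsg.Agent.H795.LangT Cfsg.Agent.H795.Core Cfsg.Agent.H129.WData
  Cfsg.Agent.H795.NotAbT Cfsg.Agent.H795.NotAbCert

universe u v

/-- the fixed points of `conj n * σ` -/
theorem iso_of {Y : Type u} {G : Type v} [Group Y] [Group G] {f : G →* Y} (hf : Function.Injective f) {σ : MulAut Y}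
    (hfix : ∀ x, σ (f x) = f x) (hsurj : ∀ y, σ y = y → ∃ x, f x = y) {n z : Y} (hz : n = z⁻¹ * σ z) :
    Nonempty (G ≃* ↥(fixS (MulAut.conj n * σ))) := by
  have hσz : σ z = z * n := by rw [hz]; group
  have hmem : ∀ x, z⁻¹ * f x * z ∈ fixS (MulAut.conj n * σ) := by
    intro x
    show n * σ (z⁻¹ * f x * z) * n⁻¹ = z⁻¹ * f x * z
    rw [map_mul, map_mul, map_inv, hσz, hfix]
    group
  let h : G →* ↥(fixS (MulAut.conj n * σ)) :=
    { toFun := fun x => ⟨z⁻¹ * f x * z, hmem x⟩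
      map_one' := Subtype.ext (by
        show z⁻¹ * f 1 * z = 1
        rw [map_one]; group)
      map_mul' := fun x y => Subtype.ext (by
        show z⁻¹ * f (x * y) * z = z⁻¹ * f x * z * (z⁻¹ * f y * z)
        rw [map_mul]; group) }
  refine ⟨MulEquiv.ofBijective h ⟨?_, ?_⟩⟩
  · intro x y hxy
    have h1 : z⁻¹ * f x * z = z⁻¹ * f y * z := congrArg Subtype.val hxy
    exact hf (mul_left_cancel (mul_right_cancel h1))
  · rintro ⟨u, hu⟩
    have hu' : n * σ u * n⁻¹ = u := hu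
    obtain ⟨x, hx⟩ := hsurj _ (fix_conj hz hu')
    refine ⟨x, Subtype.ext ?_⟩
    show z⁻¹ * f x * z = u
    rw [hx]; group

section

variable {D : ChevalleyDatum} {l : ℕ} {M : CoxeterMatrix (Fin l)} (hp : IsType D l M)
  {k : Type u} [Field k] {r e : ℕ} [Fact r.Prime] [CharP k r] [IsAlgClosed k]
  {τ : MulAut ↥(D.group k)} {θ : (Fin l → ℤ) ≃+ (Fin l → ℤ)}
  (hτ : IsFrob r e τ) (F : Fr M.toCoxeterSystem hp.isCartan (TT D k) (XX D l k) τ θ)

include hτ F

/-- the characters of fixed torus elements -/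
theorem cX_of_fix {t : ↥(D.group k)} (ht : t ∈ TT D k) (h : τ t = t) (x : Fin l → ℤ) :
    cX hp t (θ x) = cX hp t x ^ r ^ e := by
  have h1 := cX_sigma hp M.toCoxeterSystem hτ F ht x
  rwa [h] at h1

theorem tor_fix {t : ↥(D.group k)} (ht : t ∈ TT D k)
    (h : ∀ j, cX hp t (θ (sr j)) = cX hp t (sr j) ^ r ^ e) : τ t = t := by
  have hτt : τ t ∈ TT D k := (F.tor t).2 ht
  have h1 : ∀ x, cX hp (τ t) (θ x) = cX hp t (θ x) := by
    refine ((isMC_cX hp hτt).comp θ.toAddMonoidHom).ext ((isMC_cX hp ht).comp θ.toAddMonoidHom) fun j => ?_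
    show cX hp (τ t) (θ (sr j)) = cX hp t (θ (sr j))
    rw [cX_sigma hp M.toCoxeterSystem hτ F ht, h]
  refine cX_inj hp hτt ht fun i => ?_
  obtain ⟨x, hx⟩ := θ.surjective (sr i)
  rw [← hx]
  exact h1 x

/-- torus elements with given exponents -/
theorem exists_tor_exp {d : ℕ} {B : Fin l → Fin l → ℤ} (hB : InvC D l d B) (hd : d ≠ 0) {N : ℕ} {ζ : k}
    (hζ : ζ ^ N = 1) (hN : N ≠ 0) (m : Fin l → ℤ) {Th : Mat l} (hTh : ∀ j, θ (sr j) = Th j)
    (hm : ∀ j, (N : ℤ) ∣ ∑ i, Th j i * m i - (r ^ e : ℕ) * m j) :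
    ∃ t ∈ TT D k, (∀ x, cX hp t x = ζ ^ (∑ i, x i * m i)) ∧ τ t = t := by
  have hζ0 : ζ ≠ 0 := fun h => by rw [h, zero_pow hN] at hζ; exact zero_ne_one hζ
  have hmc : IsMC (fun x : Fin l → ℤ => ζ ^ (∑ i, x i * m i)) := by
    refine ⟨?_, fun x y => ?_⟩
    · show ζ ^ (∑ i, (0 : Fin l → ℤ) i * m i) = 1
      simp
    · show ζ ^ (∑ i, (x + y) i * m i) = ζ ^ (∑ i, x i * m i) * ζ ^ (∑ i, y i * m i)
      rw [← zpow_add₀ hζ0, ← Finset.sum_add_distrib]
      congr 1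
      exact Finset.sum_congr rfl fun i _ => by rw [Pi.add_apply, add_mul]
  obtain ⟨t, ht, hc⟩ := exists_cX hp hB hd hmc fun i => IsAlgClosed.exists_pow_nat_eq _ (Nat.pos_of_ne_zero hd)
  refine ⟨t, ht, hc, tor_fix hp hτ F ht fun j => ?_⟩
  rw [hc, hc, hTh, ← zpow_natCast, ← zpow_mul]
  have h1 : ∑ i, (sr j : Fin l → ℤ) i * m i = m j := by
    simp only [sr_apply']
    simp
  rw [h1]
  obtain ⟨c, hc'⟩ := hm j
  have h2 : ∑ i, Th j i * m i = (N : ℤ) * c + m j * ((r ^ e : ℕ) : ℤ) := by linarith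
  rw [h2, zpow_add₀ hζ0, zpow_mul, zpow_natCast, hζ, one_zpow, one_mul]

end

/-- change of the torus -/
theorem rp_cast {Y : Type*} [Group Y] {l : ℕ} {M : CoxeterMatrix (Fin l)} {W : Type*} [Group W]
    {cs : CoxeterSystem M W} {T T' : Subgroup Y} {nn : Fin l → Y} (e : T = T') {hN : NSys M T nn}
    {hN' : NSys M T' nn} {w : W} {g : Y} (h : Rp cs hN w g) : Rp cs hN' w g := by
  subst e
  exact h

/-- the system for `TT D k` -/
theorem nsysT {D : ChevalleyDatum} {l : ℕ} {M : CoxeterMatrix (Fin l)} (hp : IsType D l M) {k : Type u} [Field k]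
    (hk : LocFin k) (r : ℕ) [Fact r.Prime] [CharP k r] : NSys M (TT D k) (nc hp k) := by
  have h1 := (tow hp M.toCoxeterSystem hk r).nsys
  rwa [TL_eq hp hk] at h1

section

variable {D : ChevalleyDatum} {l : ℕ} {M : CoxeterMatrix (Fin l)} (hp : IsType D l M)
  {k : Type u} [Field k] [IsAlgClosed k] (hk : LocFin k)

include hk in
/-- **Torus elements conjugate in `D.group k` are conjugate under the Weyl group.** -/
theorem wconj (r : ℕ) [Fact r.Prime] [CharP k r] {s t c : ↥(D.group k)} (hs : s ∈ TT D k) (ht : t ∈ TT D k) (hc : c * s * c⁻¹ = t) :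
    ∃ w, ∀ x, cX hp t (rep M.toCoxeterSystem hp.isCartan w x) = cX hp s x := by
  have hWf := finite_W hp (M.toCoxeterSystem)
  have H := tow hp M.toCoxeterSystem hk r
  have C : Coords M.toCoxeterSystem hp.isCartan (TL (Tj hp (k := k))) (nc hp k) (XL (Xj hp)) (xc hp) (ch hp) := by
    rw [TL_eq hp hk, XL_eq hp hk]
    exact coordsL hp M.toCoxeterSystem hk r
  have hGt := GG_eq_top hp M.toCoxeterSystem hk
  have hTL := TL_eq (k := k) hp hk
  obtain ⟨m, hm, w, n, hn, hns, e⟩ := exists_form' H C (ι := Unit) (s := fun _ => s) (t := fun _ => t)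
    (fun _ => by rw [hTL]; exact hs) (fun _ => by rw [hTL]; exact ht) (c := c)
    (by rw [hGt]; exact Subgroup.mem_top _) (fun _ => by rw [← hc]; group)
  refine ⟨w, fun x => ?_⟩
  have h1 := cX_rp' hp hk hn hs x
  have h2 : n * s * n⁻¹ = t := by rw [hns ()]; group
  rwa [h2] at h1

end

end Cfsg.Agent.H790.TwFix
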