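import Cfsg.Agent.H629.ExcLevi

/-!
# Levi subgroups of type `A_{n-1}` and a twisted Frobenius (helper790)

`τ` a frame automorphism of Frobenius type of `D.group k` with lattice automorphism `θ`, `θ = ± 1` on the roots and
coroots of the Levi subgroup of a table `LTab`.

* `exists_x0` : a `τ`-fixed element `x0` of order `n` over the Coxeter element of the Levi subgroup, conjugate by a
  `τ`-fixed element to the torus element `φ (del ω)`.
-/

set_option autoImplicit false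
set_option linter.unusedSectionVars false

namespace Cfsg.Agent.H790.TwLevi

open CoxeterSystem Cfsg Cfsg.Lie Cfsg.Lie.ChevalleyDatum
open Cfsg.Agent.ChevalleyStructure Cfsg.Agent.ChevalleyStructure.Elts Cfsg.Agent.ChevalleyStructure.CoxeterGeom
  Cfsg.Agent.ChevalleyStructure.CoxeterGeomTypes Cfsg.Agent.ChevalleyStructure.NPerm
open Cfsg.Agent.Tits.Roots Cfsg.Agent.Tits.Core Cfsg.Agent.Nodes Cfsg.Agent.Nodes.Reps Cfsg.Agent.Nodes.BNOf
  Cfsg.Agent.Nodes.RGDChev Cfsg.Agent.Nodes.Bruhat Cfsg.Agent.Nodes.SubComb Cfsg.Agent.Nodes.Coroot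
open Cfsg.Agent.KFacts.RgdField Cfsg.Agent.KFacts.RgdChevCoord Cfsg.Agent.BpExc.TorCent Cfsg.Agent.BpExc.TorChev
open Cfsg.Agent.GpExc.Field Cfsg.Agent.BpExc.Tow Cfsg.Agent.BpExc.TowChev Cfsg.Agent.BpExc.Fr
  Cfsg.Agent.BpExc.LangFr Cfsg.Agent.LangThm Cfsg.Agent.BpExc Cfsg.Agent.H129.TorusChar
open Cfsg.Agent.AGraded Cfsg.Agent.CTFrame Cfsg.Agent.TitsThree.KExcRT Cfsg.Agent.H629.ExcSL Cfsg.Agent.H629.ExcTor
  Cfsg.Agent.H629.ExcLevi

universe u

/-- a homomorphism commuting with the power of `DD` -/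
theorem exists_DD_tau {Y : Type*} [Group Y] {n : ℕ} [NeZero n] {k : Type u} [Field k] [IsAlgClosed k] (hodd : Odd n)
    {ω : k} (hω : IsPrimitiveRoot ω n) {φ : Matrix.SpecialLinearGroup (Fin n) k →* Y} (hφ : Function.Injective φ)
    {τ : MulAut Y} (hr : ∀ y ∈ φ.range, τ y ∈ φ.range) {Q : ℤ} (hQ : ∀ s ∈ DD n k, τ (φ s) = φ s ^ Q) (hQ0 : Q ≠ 0) :
    ∃ d ∈ DD n k, τ (φ (P0 k hodd)) = φ (P0 k hodd) * φ d := by
  obtain ⟨B, hB, hBe⟩ := exists_root (del_mem hodd hω) hQ0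
  -- `P0 B P0⁻¹` is diagonal
  have hBd : P0 k hodd * B * (P0 k hodd)⁻¹ ∈ DD n k := by
    obtain ⟨t, ht⟩ := hB
    have hprod := prod_eq_one ht
    have hp1 : ∏ i : Fin n, t (i - 1) = 1 := by
      rw [← hprod]
      exact (Equiv.subRight (1 : Fin n)).prod_comp (fun i => t i)
    have h1 : P0 k hodd * B = dg (fun i => t (i - 1)) hp1 * P0 k hodd := by
      apply Subtype.ext
      show PM n k * B.1 = Matrix.diagonal (fun i => t (i - 1)) * PM n k
      rw [ht]
      ext i j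
      rw [Matrix.mul_diagonal, Matrix.diagonal_mul]
      unfold PM
      split_ifs with h
      · subst h
        rw [add_sub_cancel_right]; ring
      · ring
    rw [h1, mul_inv_cancel_right]
    exact dg_mem _ _
  obtain ⟨d, hd, e⟩ := exists_DD_of_comm hodd hω hφ (y := (φ (P0 k hodd))⁻¹ * τ (φ (P0 k hodd)))
    (mul_mem (inv_mem ⟨_, rfl⟩) (hr _ ⟨_, rfl⟩)) (by
      -- `τ(φ P0) φ(del) τ(φ P0)⁻¹ = τ (φ P0 φ B (φ P0)⁻¹) = (φ (P0 B P0⁻¹)) ^ Q = φ P0 φ(del) (φ P0)⁻¹`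
      have h1 : τ (φ (P0 k hodd)) * φ (del hodd hω) * (τ (φ (P0 k hodd)))⁻¹ =
          φ (P0 k hodd) * φ (del hodd hω) * (φ (P0 k hodd))⁻¹ := by
        have h2 : φ (del hodd hω) = τ (φ B) := by rw [hQ B hB, ← map_zpow, hBe]
        have h3 : τ (φ (P0 k hodd)) * τ (φ B) * (τ (φ (P0 k hodd)))⁻¹ = τ (φ (P0 k hodd * B * (P0 k hodd)⁻¹)) := by
          simp only [map_mul, map_inv]
        rw [h2, h3, hQ _ hBd, hQ B hB, ← map_zpow, conj_zpow, map_mul, map_mul, map_inv, map_zpow]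
      calc (φ (P0 k hodd))⁻¹ * τ (φ (P0 k hodd)) * φ (del hodd hω)
          = (φ (P0 k hodd))⁻¹ * (τ (φ (P0 k hodd)) * φ (del hodd hω) * (τ (φ (P0 k hodd)))⁻¹) *
            τ (φ (P0 k hodd)) := by group
        _ = (φ (P0 k hodd))⁻¹ * (φ (P0 k hodd) * φ (del hodd hω) * (φ (P0 k hodd))⁻¹) *
            τ (φ (P0 k hodd)) := by rw [h1]
        _ = _ := by group)
  exact ⟨d, hd, by rw [← e]; group⟩

section

variable {D : ChevalleyDatum} {l : ℕ} {M : CoxeterMatrix (Fin l)} {hp : IsType D l M} {k : Type u} [Field k]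
  {W : Type*} [Group W] {cs : CoxeterSystem M W} {hN : NSys M (TT D k) (nc hp k)}
  {n : ℕ} {rt : Fin n → Fin n → ℕ} {s : Fin n → Fin n → ℤ} {c : ℕ → Fin l} (h : LTab D n l rt s c)

/-- the twisted Frobenius with respect to a table -/
structure LFr (cs : CoxeterSystem M W) (hp : IsType D l M) (n : ℕ) (rt : Fin n → Fin n → ℕ) (c : ℕ → Fin l) (r e : ℕ)
    [Fact r.Prime] [CharP k r] (τ : MulAut ↥(D.group k)) (θ : (Fin l → ℤ) ≃+ (Fin l → ℤ)) (sg : ℤ) : Prop where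
  frob : IsFrob r e τ
  fr : Fr cs hp.isCartan (TT D k) (XX D l k) τ θ
  pair : ∀ j, j + 1 < n → ∀ x, pairing (cartanOf D l) (c j) (θ x) = sg * pairing (cartanOf D l) (c j) x
  root : ∀ i j : Fin n, i ≠ j → θ (vec D l (rt i j)) = sg • vec D l (rt i j)
  sgn : sg = 1 ∨ sg = -1

variable {r e : ℕ} [Fact r.Prime] [CharP k r] {τ : MulAut ↥(D.group k)} {θ : (Fin l → ℤ) ≃+ (Fin l → ℤ)} {sg : ℤ}
  (L : LFr (k := k) cs hp n rt c r e τ θ sg)

include L in
theorem tau_hc [IsAlgClosed k] {j : ℕ} (hj : j + 1 < n) {u : k} (hu : u ≠ 0) :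
    τ (hc hp (c j) u) = hc hp (c j) u ^ (sg * (r ^ e : ℕ)) := by
  have h1 := hc_mem hp (c j) hu
  have h2 := (L.fr.tor _).2 h1
  refine cX_inj hp h2 (zpow_mem h1 _) fun i => ?_
  obtain ⟨x, hx⟩ := θ.surjective (sr i)
  rw [← hx, cX_sigma hp cs L.frob L.fr h1, cX_zpow hp h1, cX_hc hp _ hu, cX_hc hp _ hu, L.pair j hj, ← zpow_natCast,
    ← zpow_mul, ← zpow_mul]
  congr 1
  have h3 : sg * sg = 1 := by rcases L.sgn with h | h <;> rw [h] <;> norm_num
  calc pairing (cartanOf D l) (c j) x * ((r ^ e : ℕ) : ℤ) =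
      (sg * sg) * (pairing (cartanOf D l) (c j) x * ((r ^ e : ℕ) : ℤ)) := by rw [h3, one_mul]
    _ = _ := by ring

include h

variable {φ : Matrix.SpecialLinearGroup (Fin n) k →* ↥(D.group k)}
  (h1 : ∀ (i j : Fin n), i ≠ j → ∀ a, ((φ (xt i j a) : ↥(D.group k)) : GL D.Idx k) = xG hp.inList (rt i j) (s i j * a))

include h1

include L in
theorem tau_DD [IsAlgClosed k] [NeZero n] {A : Matrix.SpecialLinearGroup (Fin n) k} (hA : A ∈ DD n k) :
    τ (φ A) = φ A ^ (sg * (r ^ e : ℕ)) := by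
  obtain ⟨f, hf, -, h3⟩ := phi_DD hp h h1 hA
  have hn := NeZero.pos n
  rw [h3]
  have key : ∀ N, N ≤ n - 1 → τ ((List.range N).map fun j => hc hp (c j) (∏ i ∈ Finset.range (j + 1), f i)).prod =
      ((List.range N).map fun j => hc hp (c j) (∏ i ∈ Finset.range (j + 1), f i)).prod ^ (sg * (r ^ e : ℕ)) := by
    intro N
    induction N with
    | zero => intro _; simp
    | succ N ih =>
      intro hN
      have hne : ∏ i ∈ Finset.range (N + 1), f i ≠ 0 := Finset.prod_ne_zero_iff.2 fun i _ => hf i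
      rw [List.range_succ, List.map_append, List.prod_append, List.map_cons, List.map_nil, List.prod_singleton, map_mul,
        ih (by omega), tau_hc L (by omega) hne]
      have hL : ((List.range N).map fun j => hc hp (c j) (∏ i ∈ Finset.range (j + 1), f i)).prod ∈ TT D k := by
        refine Subgroup.list_prod_mem _ fun x hx => ?_
        rw [List.mem_map] at hx
        obtain ⟨j, -, rfl⟩ := hx
        exact hc_mem hp _ (Finset.prod_ne_zero_iff.2 fun i _ => hf i)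
      have hc' : Commute ((List.range N).map fun j => hc hp (c j) (∏ i ∈ Finset.range (j + 1), f i)).prod
          (hc hp (c N) (∏ i ∈ Finset.range (N + 1), f i)) := TT_comm hp _ hL _ (hc_mem hp _ hne)
      rw [hc'.mul_zpow]
  exact key _ le_rfl

include L in
theorem range_tau' : ∀ y ∈ φ.range, τ y ∈ φ.range := by
  rintro _ ⟨x, rfl⟩
  have hx : x ∈ Subgroup.closure (Cfsg.Agent.LieClassical.SLGen.transvections (Fin n) k) := by
    rw [Cfsg.Agent.LieClassical.SLGen.closure_transvections]; exact Subgroup.mem_top x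
  induction hx using Subgroup.closure_induction with
  | mem x hx =>
    obtain ⟨i, j, hij, a, rfl⟩ := hx
    rw [← xt_eq hij]
    have hr := h.ta i j hij
    have h2 : φ (xt i j a) ∈ XX D l k (vec D l (rt i j)) := (mem_XX_vec hp hr).2 ⟨_, h1 i j hij a⟩
    have h3 := (L.fr.map _ (isRoot_vec hp cs hr) _).2 h2
    rw [L.root i j hij] at h3
    have key : ∀ (i j : Fin n) (hij : i ≠ j) (y : ↥(D.group k)), y ∈ XX D l k (vec D l (rt i j)) → y ∈ φ.range := by
      intro i j hij y hy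
      obtain ⟨b, hb⟩ := (mem_XX_vec hp (h.ta i j hij)).1 hy
      refine ⟨xt i j (s i j * b), Subtype.ext ?_⟩
      rw [h1 i j hij, hb, ← mul_assoc, sgn_sq h, one_mul]
    rcases L.sgn with e' | e'
    · rw [e', one_smul] at h3
      exact key i j hij _ h3
    · rw [e', neg_one_smul, ← vec_neg hp hr, ← (h.te i j hij).1] at h3
      exact key j i hij.symm _ h3
  | one => rw [map_one, map_one]; exact one_mem _
  | mul x y _ _ hx hy => rw [map_mul, map_mul]; exact mul_mem hx hy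
  | inv x _ hx => rw [map_inv, map_inv]; exact inv_mem hx

/-- the characters of `φ (del ω)` -/
theorem cX_del [NeZero n] (hodd : Odd n) {ω : k} (hω : IsPrimitiveRoot ω n) :
    φ (del hodd hω) ∈ TT D k ∧ ∀ x, cX hp (φ (del hodd hω)) x =
      ω ^ (∑ j ∈ Finset.range (n - 1), ((∑ i ∈ Finset.range (j + 1), i : ℕ) : ℤ) * pairing (cartanOf D l) (c j) x) := by
  refine ⟨phi_DD_mem hp h h1 (del_mem hodd hω), fun x => ?_⟩
  obtain ⟨f, hf, h2, h3⟩ := phi_DD hp h h1 (del_mem hodd hω)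
  have hn := NeZero.pos n
  have hω0 := hω.ne_zero hn.ne'
  have hfω : ∀ i < n, f i = ω ^ i := by
    intro i hi
    have h4 := h2 ⟨i, hi⟩
    have h5 : (del hodd hω).1 (⟨i, hi⟩ : Fin n) ⟨i, hi⟩ = ω ^ i := by
      show Matrix.diagonal _ _ _ = _
      rw [Matrix.diagonal_apply_eq]
    rw [h5] at h4
    exact h4.symm
  have h6 := (cX_list hp ((List.range (n - 1)).map fun j => (c j, ∏ i ∈ Finset.range (j + 1), f i)) (by
    intro x hx
    rw [List.mem_map] at hx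
    obtain ⟨j, -, rfl⟩ := hx
    show ∏ i ∈ Finset.range (j + 1), f i ≠ 0
    exact Finset.prod_ne_zero_iff.2 fun i _ => hf i) x).2
  rw [List.map_map, List.map_map] at h6
  have h7 : φ (del hodd hω) = ((List.range (n - 1)).map ((fun y : Fin l × k => hc hp y.1 y.2) ∘ fun j =>
      (c j, ∏ i ∈ Finset.range (j + 1), f i))).prod := h3
  rw [← h7] at h6
  rw [h6]
  have h8 : ∀ N, N ≤ n - 1 → ((List.range N).map ((fun y : Fin l × k => y.2 ^ pairing (cartanOf D l) y.1 x) ∘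
      fun j => (c j, ∏ i ∈ Finset.range (j + 1), f i))).prod =
      ω ^ (∑ j ∈ Finset.range N, ((∑ i ∈ Finset.range (j + 1), i : ℕ) : ℤ) * pairing (cartanOf D l) (c j) x) := by
    intro N
    induction N with
    | zero => intro _; simp
    | succ N ih =>
      intro hN
      rw [List.range_succ, List.map_append, List.prod_append, ih (by omega), Finset.sum_range_succ, zpow_add₀ hω0]
      congr 1
      rw [List.map_cons, List.map_nil, List.prod_singleton, Function.comp_apply]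
      show (∏ i ∈ Finset.range (N + 1), f i) ^ pairing (cartanOf D l) (c N) x = _
      rw [Finset.prod_congr rfl (g := fun i => ω ^ i) fun i hi => hfω i (by
        rw [Finset.mem_range] at hi; omega), Finset.prod_pow_eq_pow_sum, ← zpow_natCast, ← zpow_mul]
  exact h8 _ le_rfl

end

/-- **The element `x0`.** -/
theorem exists_x0 {D : ChevalleyDatum} {l : ℕ} {M : CoxeterMatrix (Fin l)} {hp : IsType D l M} {k : Type u} [Field k]
    [IsAlgClosed k] {W : Type*} [Group W] {cs : CoxeterSystem M W} {hN : NSys M (TT D k) (nc hp k)}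
    {n : ℕ} {rt : Fin n → Fin n → ℕ} {s : Fin n → Fin n → ℤ} {c : ℕ → Fin l} (h : LTab D n l rt s c)
    (hn : 3 ≤ n) (hodd : Odd n) {m : Fin l}
    (hm : IsCoprime (∑ j ∈ Finset.range (n - 1), ((j : ℤ) + 1) * cartanOf D l (c j) m) (n : ℤ))
    {r e : ℕ} [Fact r.Prime] [CharP k r] {τ : MulAut ↥(D.group k)} {θ : (Fin l → ℤ) ≃+ (Fin l → ℤ)} {sg : ℤ}
    (L : LFr (k := k) cs hp n rt c r e τ θ sg) (hQ1 : sg * ((r ^ e : ℕ) : ℤ) ≠ 1)
    (hnQ : (n : ℤ) ∣ sg * ((r ^ e : ℕ) : ℤ) - 1) {ω : k} (hω : IsPrimitiveRoot ω n) :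
    ∃ x0 y t0 : ↥(D.group k), Rp cs hN (cw cs c (n - 1)) x0 ∧ τ x0 = x0 ∧ x0 ^ n = 1 ∧ τ y = y ∧
      y * x0 * y⁻¹ = t0 ∧ t0 ∈ TT D k ∧ t0 ^ n = 1 ∧ ∀ x, cX hp t0 x =
      ω ^ (∑ j ∈ Finset.range (n - 1), ((∑ i ∈ Finset.range (j + 1), i : ℕ) : ℤ) *
        pairing (cartanOf D l) (c j) x) := by
  have : NeZero n := ⟨by omega⟩
  obtain ⟨φ, h1, hker⟩ := exists_phi (k := k) hp h hn
  have hinj := phi_inj hp h h1 hker hm
  have hr := range_tau' h L h1
  have hQ : ∀ A ∈ DD n k, τ (φ A) = φ A ^ (sg * ((r ^ e : ℕ) : ℤ)) := fun A hA => tau_DD h L h1 hA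
  have hQ0 : sg * ((r ^ e : ℕ) : ℤ) ≠ 0 := by
    have h2 : ((r ^ e : ℕ) : ℤ) ≠ 0 := by
      have := pow_pos (Fact.out : r.Prime).pos e
      exact_mod_cast this.ne'
    rcases L.sgn with h | h <;> rw [h] <;> simpa using h2
  obtain ⟨d, hd, e1⟩ := exists_DD_tau hodd hω hinj hr hQ hQ0
  obtain ⟨s', hs', e2⟩ := exists_fixed hQ hQ1 hd e1
  obtain ⟨y, hy, hy1, hy2⟩ := exists_conj hodd hω hinj hr hQ hQ1 hnQ hs' e2
  have hdn : φ (del hodd hω) ^ n = 1 := del_pow hodd hω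
  have hX := cX_del (hp := hp) h h1 hodd hω
  refine ⟨φ (P0 k hodd * s'), y, φ (del hodd hω), ?_, e2, ?_, hy1, hy2, hX.1, hdn, hX.2⟩
  · rw [map_mul]
    exact (rp_P0 (cs := cs) (hN := hN) h h1 hodd).mul_mem_right (phi_DD_mem hp h h1 hs')
  · have h2 : (y * φ (P0 k hodd * s') * y⁻¹) ^ n = 1 := by rw [hy2]; exact hdn
    rw [conj_pow] at h2
    calc φ (P0 k hodd * s') ^ n = y⁻¹ * (y * φ (P0 k hodd * s') ^ n * y⁻¹) * y := by group
      _ = 1 := by rw [h2]; group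

end Cfsg.Agent.H790.TwLevi
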