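import Cfsg.Agent.H790.TwFix

/-!
# Levi subgroups commuting with their image under a twisted Frobenius (helper790)

* `exists_x0_mem` : `exists_x0` with membership in the Levi subgroup;
* `exists_pair` : `R` the Levi subgroup, `R` commutes with `τ(R)`, `τ²` acts as `-q²`: a `τ`-fixed element `g0 τ(g0)`
  of order `n` conjugate by a `τ`-fixed element to a torus element.
-/

set_option autoImplicit false
set_option linter.unusedSectionVars false

namespace Cfsg.Agent.H790.TwPair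

open CoxeterSystem Cfsg Cfsg.Lie Cfsg.Lie.ChevalleyDatum
open Cfsg.Agent.ChevalleyStructure Cfsg.Agent.ChevalleyStructure.Elts Cfsg.Agent.ChevalleyStructure.CoxeterGeom
  Cfsg.Agent.ChevalleyStructure.CoxeterGeomTypes Cfsg.Agent.ChevalleyStructure.NPerm
open Cfsg.Agent.Tits.Roots Cfsg.Agent.Tits.Core Cfsg.Agent.Nodes Cfsg.Agent.Nodes.Reps Cfsg.Agent.Nodes.BNOf
  Cfsg.Agent.Nodes.RGDChev Cfsg.Agent.Nodes.Bruhat Cfsg.Agent.Nodes.SubComb Cfsg.Agent.Nodes.Coroot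
open Cfsg.Agent.KFacts.RgdField Cfsg.Agent.KFacts.RgdChevCoord Cfsg.Agent.BpExc.TorCent Cfsg.Agent.BpExc.TorChev
open Cfsg.Agent.GpExc.Field Cfsg.Agent.BpExc.Tow Cfsg.Agent.BpExc.TowChev Cfsg.Agent.BpExc.Fr
  Cfsg.Agent.BpExc.LangFr Cfsg.Agent.LangThm Cfsg.Agent.BpExc Cfsg.Agent.H129.TorusChar
open Cfsg.Agent.AGraded Cfsg.Agent.CTFrame Cfsg.Agent.TitsThree.KExcRT Cfsg.Agent.H629.ExcSL Cfsg.Agent.H629.ExcTor
  Cfsg.Agent.H629.ExcLevi Cfsg.Agent.H790.TwLevi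

universe u

/-- the Levi subgroup of a table -/
def leviR (D : ChevalleyDatum) (l n : ℕ) (k : Type u) [Field k] (rt : Fin n → Fin n → ℕ) : Subgroup ↥(D.group k) :=
  Subgroup.closure {y | ∃ i j : Fin n, i ≠ j ∧ y ∈ XX D l k (vec D l (rt i j))}

theorem exists_x0_mem {D : ChevalleyDatum} {l : ℕ} {M : CoxeterMatrix (Fin l)} {hp : IsType D l M} {k : Type u}
    [Field k] [IsAlgClosed k] {W : Type*} [Group W] {cs : CoxeterSystem M W} {hN : NSys M (TT D k) (nc hp k)}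
    {n : ℕ} {rt : Fin n → Fin n → ℕ} {s : Fin n → Fin n → ℤ} {c : ℕ → Fin l} (h : LTab D n l rt s c)
    (hn : 3 ≤ n) (hodd : Odd n) {m : Fin l}
    (hm : IsCoprime (∑ j ∈ Finset.range (n - 1), ((j : ℤ) + 1) * cartanOf D l (c j) m) (n : ℤ))
    {r e : ℕ} [Fact r.Prime] [CharP k r] {τ : MulAut ↥(D.group k)} {θ : (Fin l → ℤ) ≃+ (Fin l → ℤ)} {sg : ℤ}
    (L : LFr (k := k) cs hp n rt c r e τ θ sg) (hQ1 : sg * ((r ^ e : ℕ) : ℤ) ≠ 1)
    (hnQ : (n : ℤ) ∣ sg * ((r ^ e : ℕ) : ℤ) - 1) {ω : k} (hω : IsPrimitiveRoot ω n) :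
    ∃ x0 y t0 : ↥(D.group k), x0 ∈ leviR D l n k rt ∧ y ∈ leviR D l n k rt ∧ t0 ∈ leviR D l n k rt ∧
      Rp cs hN (cw cs c (n - 1)) x0 ∧ τ x0 = x0 ∧ x0 ^ n = 1 ∧ τ y = y ∧
      y * x0 * y⁻¹ = t0 ∧ t0 ∈ TT D k ∧ t0 ^ n = 1 := by
  have : NeZero n := ⟨by omega⟩
  obtain ⟨φ, h1, hker⟩ := exists_phi (k := k) hp h hn
  have hinj := phi_inj hp h h1 hker hm
  have hr := range_tau' h L h1
  have hQ : ∀ A ∈ DD n k, τ (φ A) = φ A ^ (sg * ((r ^ e : ℕ) : ℤ)) := fun A hA => tau_DD h L h1 hA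
  have hQ0 : sg * ((r ^ e : ℕ) : ℤ) ≠ 0 := by
    have h2 : ((r ^ e : ℕ) : ℤ) ≠ 0 := by
      have := pow_pos (Fact.out : r.Prime).pos e
      exact_mod_cast this.ne'
    rcases L.sgn with h | h <;> rw [h] <;> simpa using h2
  have hR : ∀ x, φ x ∈ leviR D l n k rt := by
    intro x
    have hx : x ∈ Subgroup.closure (Cfsg.Agent.LieClassical.SLGen.transvections (Fin n) k) := by
      rw [Cfsg.Agent.LieClassical.SLGen.closure_transvections]; exact Subgroup.mem_top x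
    induction hx using Subgroup.closure_induction with
    | mem x hx =>
      obtain ⟨i, j, hij, a, rfl⟩ := hx
      rw [← xt_eq hij]
      exact Subgroup.subset_closure ⟨i, j, hij, (mem_XX_vec hp (h.ta i j hij)).2 ⟨_, h1 i j hij a⟩⟩
    | one => rw [map_one]; exact one_mem _
    | mul x y _ _ hx hy => rw [map_mul]; exact mul_mem hx hy
    | inv x _ hx => rw [map_inv]; exact inv_mem hx
  obtain ⟨d, hd, e1⟩ := exists_DD_tau hodd hω hinj hr hQ hQ0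
  obtain ⟨s', hs', e2⟩ := exists_fixed hQ hQ1 hd e1
  obtain ⟨y, hy, hy1, hy2⟩ := exists_conj hodd hω hinj hr hQ hQ1 hnQ hs' e2
  have hdn : φ (del hodd hω) ^ n = 1 := del_pow hodd hω
  have hX := cX_del (hp := hp) h h1 hodd hω
  refine ⟨φ (P0 k hodd * s'), y, φ (del hodd hω), hR _, ?_, hR _, ?_, e2, ?_, hy1, hy2, hX.1, hdn⟩
  · obtain ⟨y', rfl⟩ := hy
    exact hR y'
  · rw [map_mul]
    exact (rp_P0 (cs := cs) (hN := hN) h h1 hodd).mul_mem_right (phi_DD_mem hp h h1 hs')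
  · have h2 : (y * φ (P0 k hodd * s') * y⁻¹) ^ n = 1 := by rw [hy2]; exact hdn
    rw [conj_pow] at h2
    calc φ (P0 k hodd * s') ^ n = y⁻¹ * (y * φ (P0 k hodd * s') ^ n * y⁻¹) * y := by group
      _ = 1 := by rw [h2]; group

/-- **Commuting Levi subgroups.** -/
theorem comm_levi {D : ChevalleyDatum} {l : ℕ} {M : CoxeterMatrix (Fin l)} {hp : IsType D l M} {k : Type u}
    [Field k] {n : ℕ} {rt im : Fin n → Fin n → ℕ}
    (hnil : ∀ i j i' j' : Fin n, i ≠ j → i' ≠ j' → Cfsg.Agent.TitsThree.KExcBase.NilTab D (rt i j) (im i' j'))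
    {W : Type*} [Group W] {cs : CoxeterSystem M W} {τ : MulAut ↥(D.group k)} {θ : (Fin l → ℤ) ≃+ (Fin l → ℤ)}
    (F : Fr cs hp.isCartan (TT D k) (XX D l k) τ θ)
    (hrt : ∀ i j : Fin n, i ≠ j → θ (vec D l (rt i j)) = vec D l (im i j)) :
    ∀ y ∈ leviR D l n k rt, ∀ y' ∈ leviR D l n k rt, y * τ y' = τ y' * y := by
  intro y hy y' hy'
  -- the generators
  have key : ∀ i j : Fin n, i ≠ j → ∀ y ∈ XX D l k (vec D l (rt i j)), ∀ i' j' : Fin n, i' ≠ j' →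
      ∀ y' ∈ XX D l k (vec D l (rt i' j')), y * τ y' = τ y' * y := by
    intro i j hij y hy i' j' hij' y' hy'
    obtain ⟨g1, g2, g3, g4, g5⟩ := hnil i j i' j' hij hij'
    have g1' : rt i' j' < D.nroots := (hnil i' j' i j hij' hij).1
    have h1 := (F.map _ (isRoot_vec hp cs g1') y').2 hy'
    rw [hrt i' j' hij'] at h1
    obtain ⟨a, ha⟩ := (mem_XX_vec hp g1).1 hy
    obtain ⟨b, hb⟩ := (mem_XX_vec hp g2).1 h1
    apply Subtype.ext
    rw [Subgroup.coe_mul, Subgroup.coe_mul, ha, hb]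
    exact Cfsg.Agent.TitsThree.KExcBase.comm_nil hp.inList g1 g2 g3 g4 g5 a b
  have h1 : ∀ i j : Fin n, i ≠ j → ∀ z ∈ XX D l k (vec D l (rt i j)), ∀ y' ∈ leviR D l n k rt,
      z * τ y' = τ y' * z := by
    intro i j hij z hz y' hy'
    induction hy' using Subgroup.closure_induction with
    | mem x hx =>
      obtain ⟨i', j', hij', hx⟩ := hx
      exact key i j hij z hz i' j' hij' x hx
    | one => rw [map_one, mul_one, one_mul]
    | mul x y _ _ hx hy =>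
      rw [map_mul]
      exact ((show Commute z (τ x) from hx).mul_right (show Commute z (τ y) from hy))
    | inv x _ hx =>
      rw [map_inv]
      exact (show Commute z (τ x) from hx).inv_right
  induction hy using Subgroup.closure_induction with
  | mem x hx =>
    obtain ⟨i, j, hij, hx⟩ := hx
    exact h1 i j hij x hx y' hy'
  | one => rw [mul_one, one_mul]
  | mul x y _ _ hx hy => exact ((show Commute x (τ y') from hx).mul_left (show Commute y (τ y') from hy))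
  | inv x _ hx => exact (show Commute x (τ y') from hx).inv_left

/-- **The pair.** -/
theorem exists_pair {D : ChevalleyDatum} {l : ℕ} {M : CoxeterMatrix (Fin l)} {hp : IsType D l M} {k : Type u}
    [Field k] [IsAlgClosed k] {W : Type*} [Group W] {cs : CoxeterSystem M W} {hN : NSys M (TT D k) (nc hp k)}
    {n : ℕ} {rt : Fin n → Fin n → ℕ} {s : Fin n → Fin n → ℤ} {c : ℕ → Fin l} (h : LTab D n l rt s c)
    (hn : 3 ≤ n) (hodd : Odd n) {m : Fin l}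
    (hm : IsCoprime (∑ j ∈ Finset.range (n - 1), ((j : ℤ) + 1) * cartanOf D l (c j) m) (n : ℤ))
    {r e : ℕ} [Fact r.Prime] [CharP k r] {τ : MulAut ↥(D.group k)} {θ θ' : (Fin l → ℤ) ≃+ (Fin l → ℤ)} {sg : ℤ}
    (F : Fr cs hp.isCartan (TT D k) (XX D l k) τ θ')
    (L : LFr (k := k) cs hp n rt c r e (τ * τ) θ sg) (hQ1 : sg * ((r ^ e : ℕ) : ℤ) ≠ 1)
    (hnQ : (n : ℤ) ∣ sg * ((r ^ e : ℕ) : ℤ) - 1) {ω : k} (hω : IsPrimitiveRoot ω n)
    (hcomm : ∀ y ∈ leviR D l n k rt, ∀ y' ∈ leviR D l n k rt, y * τ y' = τ y' * y) :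
    ∃ g0 y t0 : ↥(D.group k), Rp cs hN (cw cs c (n - 1)) g0 ∧ τ (g0 * τ g0) = g0 * τ g0 ∧ (g0 * τ g0) ^ n = 1 ∧
      τ y = y ∧ y * (g0 * τ g0) * y⁻¹ = t0 ∧ t0 ∈ TT D k := by
  obtain ⟨g, y, t, hg, hy, ht, hgr, hτg, hgn, hτy, hyg, htT, -⟩ := exists_x0_mem (hN := hN) h hn hodd hm L hQ1 hnQ hω
  have hτg' : τ (τ g) = g := hτg
  have hτy' : τ (τ y) = y := hτy
  refine ⟨g, y * τ y, t * τ t, hgr, ?_, ?_, ?_, ?_, mul_mem htT ((F.tor t).2 htT)⟩
  · rw [map_mul, hτg', hcomm g hg g hg]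
  · have h1 : Commute g (τ g) := hcomm g hg g hg
    rw [h1.mul_pow, hgn, ← map_pow, hgn, map_one, mul_one]
  · rw [map_mul, hτy', hcomm y hy y hy]
  · have h1 := hcomm g hg y hy
    have h4 : τ y * τ g * (τ y)⁻¹ = τ t := by rw [← hyg]; simp only [map_mul, map_inv]
    calc y * τ y * (g * τ g) * (y * τ y)⁻¹ = y * (τ y * g) * τ g * (τ y)⁻¹ * y⁻¹ := by group
      _ = y * (g * τ y) * τ g * (τ y)⁻¹ * y⁻¹ := by rw [← h1]
      _ = y * g * (τ y * τ g * (τ y)⁻¹) * y⁻¹ := by group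
      _ = y * g * y⁻¹ * (y * τ t) * y⁻¹ := by rw [h4]; group
      _ = y * g * y⁻¹ * (τ t * y) * y⁻¹ := by rw [hcomm y hy t ht]
      _ = t * τ t := by rw [hyg]; group

end Cfsg.Agent.H790.TwPair
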